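import Mathlib
import Cfsg.Prelude.Def_GeometricClasses

/-!
Small tools for subgroups of `GL ι F` acting on column vectors.
-/

set_option autoImplicit false
open Cfsg
open scoped Matrix MatrixGroups

namespace Cfsg.Agent.H876

variable {ι : Type} [Fintype ι] [DecidableEq ι] {F : Type*} [Field F]

/-- The matrix of a linear automorphism of `F^ι`. -/
noncomputable def glOf (g : (ι → F) ≃ₗ[F] (ι → F)) : GL ι F :=
  Matrix.GeneralLinearGroup.toLin.symm
    ((LinearMap.GeneralLinearGroup.generalLinearEquiv F (ι → F)).symm g)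

theorem glOf_mulVec (g : (ι → F) ≃ₗ[F] (ι → F)) (v : ι → F) :
    (glOf g : Matrix ι ι F) *ᵥ v = g v := by
  show (LinearMap.toMatrix' _) *ᵥ v = _
  rw [LinearMap.toMatrix'_mulVec]
  rfl

theorem gl_ext {g h : GL ι F} (e : ∀ v, (g : Matrix ι ι F) *ᵥ v = (h : Matrix ι ι F) *ᵥ v) :
    g = h := by
  apply Units.ext
  rw [← Matrix.mulVec_injective.eq_iff]
  funext v
  exact e v

theorem mul_mulVec (g h : GL ι F) (v : ι → F) :
    ((g * h : GL ι F) : Matrix ι ι F) *ᵥ v = (g : Matrix ι ι F) *ᵥ ((h : Matrix ι ι F) *ᵥ v) := by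
  rw [Units.val_mul, Matrix.mulVec_mulVec]

theorem inv_mulVec_cancel (g : GL ι F) (v : ι → F) :
    ((g⁻¹ : GL ι F) : Matrix ι ι F) *ᵥ ((g : Matrix ι ι F) *ᵥ v) = v := by
  rw [← mul_mulVec, inv_mul_cancel]
  simp

theorem mulVec_inv_cancel (g : GL ι F) (v : ι → F) :
    (g : Matrix ι ι F) *ᵥ (((g⁻¹ : GL ι F) : Matrix ι ι F) *ᵥ v) = v := by
  rw [← mul_mulVec, mul_inv_cancel]
  simp

theorem mulVec_eq_iff (g : GL ι F) (v w : ι → F) :
    (g : Matrix ι ι F) *ᵥ v = w ↔ v = ((g⁻¹ : GL ι F) : Matrix ι ι F) *ᵥ w := by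
  constructor
  · rintro rfl; rw [inv_mulVec_cancel]
  · rintro rfl; rw [mulVec_inv_cancel]

theorem mulVec_ne_zero (g : GL ι F) {v : ι → F} (hv : v ≠ 0) : (g : Matrix ι ι F) *ᵥ v ≠ 0 := by
  intro h
  apply hv
  have := inv_mulVec_cancel g v
  rw [h, Matrix.mulVec_zero] at this
  exact this.symm

end Cfsg.Agent.H876
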