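import Cfsg.Agent.S0765
import Cfsg.Agent.ClassicalGeometry.SympBasic
import Cfsg.Agent.H876.Basic

/-!
`spGL m F` is generated by symplectic transvections (as elements of `GL`).
-/

set_option autoImplicit false
open Cfsg
open scoped Matrix MatrixGroups

namespace Cfsg.Agent.H876

open Cfsg.Agent.ClassicalGeometry.SympBasic

variable {F : Type*} [Field F] {m : ℕ}

/-- a symplectic transvection `x ↦ x + c f(x, v) v` as an element of `GL`. -/
noncomputable def tGL (v : Fin m ⊕ Fin m → F) (c : F) : GL (Fin m ⊕ Fin m) F :=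
  Matrix.GeneralLinearGroup.mkOfDetNeZero (sympTransvection m v c)
      (SymplecticGroup.symplectic_det (sympTransvection_mem v c)).ne_zero

theorem tGL_mulVec (v u : Fin m ⊕ Fin m → F) (c : F) :
    (tGL v c : Matrix _ _ F) *ᵥ u = u + (c * sympForm m F u v) • v := 
  sympTransvection_mulVec v u c

theorem tGL_mem (v : Fin m ⊕ Fin m → F) (c : F) : tGL v c ∈ spGL m F :=
  fun a b => mem_symplecticGroup_iff.1 (sympTransvection_mem v c) a b

/-- the symplectic group of Mathlib, mapped to `GL`. -/
noncomputable def spToGL (m : ℕ) (F : Type*) [Field F] :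
    Matrix.symplecticGroup (Fin m) F →* GL (Fin m ⊕ Fin m) F where
  toFun A := Matrix.GeneralLinearGroup.mkOfDetNeZero (A : Matrix _ _ F)
        (SymplecticGroup.symplectic_det A.2).ne_zero
  map_one' := by
    apply Units.ext
    rfl
  map_mul' A B := by
    apply Units.ext
    rfl

/-- a subgroup containing all symplectic transvections contains the symplectic group. -/
theorem spGL_le (M : Subgroup (GL (Fin m ⊕ Fin m) F)) (h : ∀ v c, tGL v c ∈ M) :
    spGL m F ≤ M := by
  classical
  intro g hg
  have hgs : (g : Matrix _ _ F) ∈ Matrix.symplecticGroup (Fin m) F := mem_symplecticGroup_iff.2 hg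
  have key : (⊤ : Subgroup (Matrix.symplecticGroup (Fin m) F)) ≤ M.comap (spToGL m F) := by
    rw [← Cfsg.Agent.S0765.result, Subgroup.closure_le]
    rintro A ⟨w, c, hA⟩
    have : spToGL m F A = tGL w c := by
      apply Units.ext
      exact hA
    rw [SetLike.mem_coe, Subgroup.mem_comap, this]
    exact h w c
  have h1 := key (Subgroup.mem_top ⟨(g : Matrix _ _ F), hgs⟩)
  rw [Subgroup.mem_comap] at h1
  have h2 : spToGL m F ⟨(g : Matrix _ _ F), hgs⟩ = g := by
    apply Units.ext
    rfl
  rwa [h2] at h1

end Cfsg.Agent.H876
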