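import Cfsg.Agent.H876.UWitt

/-!
# `SU_n(q)`, `n ≥ 3`, `(n, q) ≠ (3, 2)`: stabilisers of non-degenerate subspaces are maximal

`nondeg_maximal`: S5654 for all `n ≥ 3`.
-/

set_option autoImplicit false
open Cfsg
open scoped Matrix MatrixGroups

namespace Cfsg.Agent.H876

open Cfsg.Agent.LieClassical.HermBasic Cfsg.Agent.ClassicalGeometry.UnitTransv
open Cfsg.Agent.ClassicalGeometry.HermOrtho

variable {F : Type*} [Field F] [Fintype F] {n q : ℕ}

/-- `W` and `U` are orthogonal complements of each other and non-degenerate. -/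
structure PerpPair (q : ℕ) (W U : Submodule F (Fin n → F)) : Prop where
  nd : Nd q W
  nd' : Nd q U
  perp : ∀ w ∈ W, ∀ u ∈ U, hermForm n F q w u = 0
  perp' : ∀ u ∈ U, ∀ w ∈ W, hermForm n F q u w = 0
  mem : ∀ x, (∀ u ∈ U, hermForm n F q x u = 0) → x ∈ W
  mem' : ∀ x, (∀ w ∈ W, hermForm n F q x w = 0) → x ∈ U
  dec : ∀ x, ∃ w ∈ W, ∃ u ∈ U, x = w + u

omit [Fintype F] in
theorem PerpPair.symm {W U : Submodule F (Fin n → F)} (h : PerpPair q W U) : PerpPair q U W where
  nd := h.nd'
  nd' := h.nd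
  perp := h.perp'
  perp' := h.perp
  mem := h.mem'
  mem' := h.mem
  dec x := by
    obtain ⟨w, hw, u, hu, e⟩ := h.dec x
    exact ⟨u, hu, w, hw, by rw [e, add_comm]⟩

theorem perpPair_of_nd (hF : Fintype.card F = q ^ 2) {W : Submodule F (Fin n → F)} (hW : Nd q W) :
    PerpPair q W (hermPerp q (W : Set (Fin n → F))) where
  nd := hW
  nd' := hermPerp_nondeg hF W hW
  perp w hw u hu := herm_eq_zero_swap hF (mem_hermPerp.1 hu w hw)
  perp' u hu w hw := mem_hermPerp.1 hu w hw
  mem x hx := by
    obtain ⟨w, hw, u, hu, rfl⟩ := exists_add_perp hF W hW x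
    have h0 : u = 0 := by
      refine hermPerp_nondeg hF W hW u hu fun v hv => ?_
      have h1 := hx v hv
      rwa [herm_add_left, herm_eq_zero_swap hF (mem_hermPerp.1 hv w hw), zero_add] at h1
    rw [h0, add_zero]
    exact hw
  mem' x hx := mem_hermPerp.2 hx
  dec x := exists_add_perp hF W hW x

omit [Fintype F] in
theorem PerpPair.disj {W U : Submodule F (Fin n → F)} (h : PerpPair q W U) {x : Fin n → F}
    (hx : x ∈ W) (hx' : x ∈ U) : x = 0 := h.nd x hx fun v hv => h.perp' x hx' v hv

omit [Fintype F] in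
theorem PerpPair.stab_of_fix {W U : Submodule F (Fin n → F)} (h : PerpPair q W U)
    {g : GL (Fin n) F} (hg : g ∈ GU n F q) (hfix : ∀ u ∈ U, (g : Matrix (Fin n) (Fin n) F) *ᵥ u = u) :
    ∀ x ∈ W, (g : Matrix (Fin n) (Fin n) F) *ᵥ x ∈ W := by
  intro x hx
  apply h.mem
  intro u hu
  rw [← hfix u hu, herm_gl hg]
  exact h.perp x hx u hu

omit [Fintype F] in
theorem PerpPair.stab_of_stab {W U : Submodule F (Fin n → F)} (h : PerpPair q W U)
    {g : GL (Fin n) F} (hg : g ∈ GU n F q) (hfix : ∀ u ∈ U, (g : Matrix (Fin n) (Fin n) F) *ᵥ u ∈ U) :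
    ∀ x ∈ W, (g : Matrix (Fin n) (Fin n) F) *ᵥ x ∈ W := by
  intro x hx
  apply h.mem
  intro u hu
  have h1 : g ∈ Geo.subspaceStabilizer U := mem_stab_of_le hfix
  have h2 : (((g⁻¹ : GL (Fin n) F) : Matrix (Fin n) (Fin n) F) *ᵥ u) ∈ U := by
    have h3 := Subgroup.inv_mem _ h1
    exact (mem_stab_iff.1 h3 u).1 hu
  rw [← mulVec_inv_cancel g u, herm_gl hg]
  exact h.perp x hx _ h2

/-- transitivity of the stabiliser of `W` on pairs of vectors of given norms. -/
theorem PerpPair.exists_move (hF : Fintype.card F = q ^ 2) {W U : Submodule F (Fin n → F)}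
    (h : PerpPair q W U) {w w' u u' z : Fin n → F}
    (hw : w ∈ W) (hw' : w' ∈ W) (hw0 : w ≠ 0) (hw0' : w' ≠ 0)
    (hww : hermForm n F q w w = hermForm n F q w' w')
    (hu : u ∈ U) (hu' : u' ∈ U) (hu0 : u ≠ 0) (hu0' : u' ≠ 0)
    (huu : hermForm n F q u u = hermForm n F q u' u')
    (hz : z ∈ U) (hzz : hermForm n F q z z ≠ 0) (huz : hermForm n F q u' z = 0) :
    ∃ g ∈ Geo.subspaceStabilizer W ⊓ (GU n F q ⊓ Geo.specialLinear (Fin n) F),
      (g : Matrix (Fin n) (Fin n) F) *ᵥ (w + u) = w' + u' := by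
  obtain ⟨g1, hg1, hf1, he1⟩ := witt_fix hF (U := U) (a := w) (b := w')
    (fun h0 => hw0 (h.disj hw h0)) (fun h0 => hw0' (h.disj hw' h0))
    (fun v hv => by rw [h.perp w hw v hv, h.perp w' hw' v hv]) hww
  obtain ⟨g2, hg2, hf2, he2⟩ := witt_fix hF (U := W) (a := u) (b := u')
    (fun h0 => hu0 (h.disj h0 hu)) (fun h0 => hu0' (h.disj h0 hu'))
    (fun v hv => by rw [h.perp' u hu v hv, h.perp' u' hu' v hv]) huu
  obtain ⟨g, hg, β, hβ⟩ := exists_su_adjust hF ((GU n F q).mul_mem hg2 hg1) hzz
  have h1 : ∀ x ∈ W, (g : Matrix (Fin n) (Fin n) F) *ᵥ x = (g1 : Matrix (Fin n) (Fin n) F) *ᵥ x := by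
    intro x hx
    have h2 := h.stab_of_fix hg1 hf1 x hx
    rw [hβ, mul_mulVec, hf2 _ h2, h.perp _ h2 z hz, mul_zero, zero_smul, add_zero]
  refine ⟨g, ⟨mem_stab_of_le fun x hx => ?_, hg⟩, ?_⟩
  · rw [h1 x hx]
    exact h.stab_of_fix hg1 hf1 x hx
  · rw [Matrix.mulVec_add, h1 w hw, he1, hβ, mul_mulVec, hf1 u hu, he2, huz, mul_zero, zero_smul, add_zero]

/-- the isotropic vectors of `U` span `U`. -/
theorem forall_of_iso (hF : Fintype.card F = q ^ 2) {U X : Submodule F (Fin n → F)} (hU : Nd q U)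
    (h2 : 2 ≤ Module.finrank F U) (g : GL (Fin n) F)
    (h : ∀ v ∈ U, hermForm n F q v v = 0 → (g : Matrix (Fin n) (Fin n) F) *ᵥ v ∈ X) :
    ∀ v ∈ U, (g : Matrix (Fin n) (Fin n) F) *ᵥ v ∈ X := by
  intro v hv
  by_cases hvv : hermForm n F q v v = 0
  · exact h v hv hvv
  · obtain ⟨c, hc⟩ := exists_trace_eq hF (c := (1 : F)) (one_pow q)
    obtain ⟨a, ha, haa, hav⟩ := exists_iso_split hF hU h2 hv hvv c
    have h3 := herm_sub_self_iso hF haa hav hc
    have h4 := X.add_mem (h a ha haa) (h (v - a) (U.sub_mem hv ha) h3)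
    rwa [← Matrix.mulVec_add, add_sub_cancel] at h4

/-- two different elements of trace one. -/
theorem exists_two_trace_one (hF : Fintype.card F = q ^ 2) :
    ∃ c d : F, c + c ^ q = 1 ∧ d + d ^ q = 1 ∧ c ≠ d := by
  obtain ⟨c, hc⟩ := exists_trace_eq hF (c := (1 : F)) (one_pow q)
  obtain ⟨x, hx0, hx⟩ := exists_trace_zero_ne hF
  refine ⟨c, c + x, hc, ?_, ?_⟩
  · rw [add_pow_q hF]; linear_combination hc + hx
  · intro h
    apply hx0
    have : c + x = c + 0 := by rw [← h, add_zero]
    exact add_left_cancel this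

/-- For `n ≥ 3`, `(n, q) ≠ (3, 2)`: the stabiliser in `SU_n(q)` of a non-zero non-degenerate subspace of dimension
less than `n / 2` is maximal. -/
theorem nondeg_maximal (n q : ℕ) (hF : Fintype.card F = q ^ 2) (hn : 3 ≤ n) (h32 : ¬ (n = 3 ∧ q = 2))
    (W : Submodule F (Fin n → F)) (hW0 : W ≠ ⊥)
    (hW' : Cfsg.Geo.IsNondegenerateOn (Cfsg.hermForm n F q) W)
    (hdim : 2 * Module.finrank F W < n) :
    Cfsg.Geo.IsMaximalIn (Cfsg.GU n F q ⊓ Cfsg.Geo.specialLinear (Fin n) F)
      (Cfsg.Geo.subspaceStabilizer W ⊓ (Cfsg.GU n F q ⊓ Cfsg.Geo.specialLinear (Fin n) F)) := by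
  classical
  have hW : Nd q W := nd_of_geo hW'
  set U := hermPerp q (W : Set (Fin n → F)) with hUdef
  have hP : PerpPair q W U := perpPair_of_nd hF hW
  have hdimU : Module.finrank F W + Module.finrank F U = n := finrank_hermPerp_of_nondeg hF W hW
  have hU2 : 2 ≤ Module.finrank F U := by omega
  have hU0 : U ≠ ⊥ := by
    intro h0
    rw [h0, finrank_bot] at hU2
    omega
  obtain ⟨wn, hwn, hwn1⟩ := exists_norm_one_vector hF W hW hW0
  obtain ⟨un, hun, hun1⟩ := exists_norm_one_vector hF U hP.nd' hU0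
  have h10 : (1 : F) ≠ 0 := one_ne_zero
  have hne : ∀ {x : Fin n → F}, hermForm n F q x x ≠ 0 → x ≠ 0 := by
    rintro x hx rfl
    exact hx (herm_zero_left _)
  apply isMaximalIn_of inf_le_right
  · intro hle
    obtain ⟨l, hl⟩ := exists_norm_eq hF (c := (-1 : F)) (by rw [neg_pow_q hF, one_pow])
    have hluu : hermForm n F q (l • un) (l • un) = -1 := by
      rw [herm_smul_left, herm_smul_right, hun1, mul_one, hl]
    have hlU : l • un ∈ U := U.smul_mem _ hun
    have hx : hermForm n F q (wn + l • un) (wn + l • un) = 0 := by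
      rw [herm_add_left, herm_add_right hF, herm_add_right hF, hwn1, hluu, hP.perp wn hwn _ hlU,
        hP.perp' _ hlU wn hwn]
      ring
    obtain ⟨c, hc0, hc⟩ := exists_trace_zero_ne hF
    have h1 := (hle (uGL_mem hF hx hc)).1
    have h2 := (mem_stab_iff.1 h1 wn).1 hwn
    rw [uGL_mulVec, herm_add_right hF, hwn1, hP.perp wn hwn _ hlU, add_zero, mul_one] at h2
    have h3 : wn + l • un ∈ W :=
      (Submodule.smul_mem_iff W hc0).1 ((Submodule.add_mem_iff_right W hwn).1 h2)
    have h4 : l • un ∈ W := (Submodule.add_mem_iff_right W hwn).1 h3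
    have h5 := hP.disj h4 hlU
    rw [h5, herm_zero_left] at hluu
    exact h10 (by linear_combination hluu)
  · intro M hHM hMG ⟨g, hgM, hgn⟩
    have hgG := hMG hgM
    have hgs : g ∉ Geo.subspaceStabilizer W := fun h => hgn ⟨h, hgG⟩
    -- root vectors in `W` and `U`
    have hSW : ∀ v ∈ W, hermForm n F q v v = 0 → InS q M v := by
      intro v hv hvv
      refine inS_of_forall hF hvv fun c hc => hHM ⟨?_, uGL_mem hF hvv hc⟩
      apply mem_stab_of_le
      intro x hx
      rw [uGL_mulVec]
      exact W.add_mem hx (W.smul_mem _ hv)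
    have hSU : ∀ v ∈ U, hermForm n F q v v = 0 → InS q M v := by
      intro v hv hvv
      refine inS_of_forall hF hvv fun c hc => hHM ⟨?_, uGL_mem hF hvv hc⟩
      apply mem_stab_of_le
      intro x hx
      rw [uGL_mulVec, hP.perp x hx v hv, mul_zero, zero_smul, add_zero]
      exact hx
    -- a root vector outside `W ∪ U`
    obtain ⟨x, hxS, hxW, hxU⟩ : ∃ x, InS q M x ∧ x ∉ W ∧ x ∉ U := by
      by_contra hcon
      push Not at hcon
      have hall : ∀ v ∈ U, hermForm n F q v v = 0 → (g : Matrix (Fin n) (Fin n) F) *ᵥ v ∉ W →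
          (g : Matrix (Fin n) (Fin n) F) *ᵥ v ∈ U := by
        intro v hv hvv h1
        exact hcon _ (InS.map hgM hgG.1 (hSU v hv hvv)) h1
      obtain ⟨v1, hv1, hv11, hgv1⟩ : ∃ v ∈ U, hermForm n F q v v = 0 ∧
          (g : Matrix (Fin n) (Fin n) F) *ᵥ v ∉ U := by
        by_contra hc1
        push Not at hc1
        exact hgs (mem_stab_of_le (hP.stab_of_stab hgG.1 (forall_of_iso hF hP.nd' hU2 g hc1)))
      obtain ⟨v2, hv2, hv22, hgv2⟩ : ∃ v ∈ U, hermForm n F q v v = 0 ∧
          (g : Matrix (Fin n) (Fin n) F) *ᵥ v ∉ W := by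
        by_contra hc1
        push Not at hc1
        have h1 := forall_of_iso hF hP.nd' hU2 g hc1
        have h2 : U.map (Matrix.toLin' (g : Matrix (Fin n) (Fin n) F)) ≤ W := by
          rintro _ ⟨x, hx, rfl⟩
          exact h1 x hx
        have h3 := Submodule.finrank_mono h2
        have h4 : Module.finrank F (U.map (Matrix.toLin' (g : Matrix (Fin n) (Fin n) F))) =
            Module.finrank F U := by
          refine (Submodule.equivMapOfInjective _ ?_ U).symm.finrank_eq
          intro x y hxy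
          have h1 : (g : Matrix (Fin n) (Fin n) F) *ᵥ x = (g : Matrix (Fin n) (Fin n) F) *ᵥ y := hxy
          rw [← inv_mulVec_cancel g x, h1, inv_mulVec_cancel]
        omega
      have hgv1W : (g : Matrix (Fin n) (Fin n) F) *ᵥ v1 ∈ W := by
        by_contra h1
        exact hgv1 (hall v1 hv1 hv11 h1)
      have hgv2U : (g : Matrix (Fin n) (Fin n) F) *ᵥ v2 ∈ U := hall v2 hv2 hv22 hgv2
      have h12 : hermForm n F q v1 v2 = 0 := by
        rw [← herm_gl hgG.1]; exact hP.perp _ hgv1W _ hgv2U
      have h21 : hermForm n F q v2 v1 = 0 := herm_eq_zero_swap hF h12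
      have h3 := hall (v1 + v2) (U.add_mem hv1 hv2) (by
        rw [herm_add_left, herm_add_right hF, herm_add_right hF, hv11, hv22, h12, h21]; ring) (by
        rw [Matrix.mulVec_add]
        intro h4
        exact hgv2 ((Submodule.add_mem_iff_right W hgv1W).1 h4))
      rw [Matrix.mulVec_add] at h3
      exact hgv1 ((Submodule.add_mem_iff_left U hgv2U).1 h3)
    obtain ⟨w, hw, u, hu, rfl⟩ := hP.dec x
    have hw0 : w ≠ 0 := by
      rintro rfl; rw [zero_add] at hxU; exact hxU hu
    have hu0 : u ≠ 0 := by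
      rintro rfl; rw [add_zero] at hxW; exact hxW hw
    have hsum : hermForm n F q w w + hermForm n F q u u = 0 := by
      have h1 := hxS.iso
      rw [herm_add_left, herm_add_right hF, herm_add_right hF, hP.perp w hw u hu, hP.perp' u hu w hw] at h1
      linear_combination h1
    -- an auxiliary non-isotropic vector
    have haux : ∀ u' ∈ U, u' ≠ 0 → (hermForm n F q u' u' = 0 → 2 ≤ Module.finrank F W) →
        ∃ z ∈ U, hermForm n F q u' z = 0 ∧ hermForm n F q z z ≠ 0 := by
      intro u' hu' _ h2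
      by_cases h3 : hermForm n F q u' u' = 0
      · obtain ⟨z, hz, hzu, hzz⟩ := exists_noniso_perp hF hP.nd' (by have := h2 h3; omega) hu'
        exact ⟨z, hz, herm_eq_zero_swap hF hzu, hzz⟩
      · obtain ⟨z, hz, hzu, hzz⟩ := exists_noniso_perp_two hF hP.nd' hU2 hu' h3
        exact ⟨z, hz, herm_eq_zero_swap hF hzu, hzz⟩
    -- moving
    have hmove : ∀ w ∈ W, ∀ u ∈ U, w ≠ 0 → u ≠ 0 → InS q M (w + u) → ∀ w' ∈ W, ∀ u' ∈ U, w' ≠ 0 → u' ≠ 0 →
        hermForm n F q w w = hermForm n F q w' w' → hermForm n F q u u = hermForm n F q u' u' →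
        (hermForm n F q u' u' = 0 → 2 ≤ Module.finrank F W) → InS q M (w' + u') := by
      intro w hw u hu hw0 hu0 hS w' hw' u' hu' hw0' hu0' e1 e2 h2
      obtain ⟨z, hz, huz, hzz⟩ := haux u' hu' hu0' h2
      obtain ⟨k, hk, hke⟩ := hP.exists_move hF hw hw' hw0 hw0' e1 hu hu' hu0 hu0' e2 hz hzz huz
      rw [← hke]
      exact InS.map (hHM hk) hk.2.1 hS
    -- dimension of `W` if there are isotropic vectors
    have hdW : ∀ v ∈ W, v ≠ 0 → hermForm n F q v v = 0 → 2 ≤ Module.finrank F W := by
      intro v hv hv0 hvv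
      by_contra hlt
      have h1 : Module.finrank F W = 1 := by
        have h2 : Module.finrank F W ≠ 0 := by
          intro h0
          exact hW0 (Submodule.finrank_eq_zero.1 h0)
        omega
      apply hv0
      refine hW v hv fun y hy => ?_
      obtain ⟨c, hc⟩ := (finrank_eq_one_iff_of_nonzero' (⟨v, hv⟩ : W)
        (fun h => hv0 (congrArg Subtype.val h))).1 h1 ⟨y, hy⟩
      have hc' : c • v = y := congrArg Subtype.val hc
      rw [← hc', herm_smul_right, hvv, mul_zero]
    -- non-zero norms from one non-zero norm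
    have hnz : ∀ w ∈ W, ∀ u ∈ U, w ≠ 0 → u ≠ 0 → InS q M (w + u) → hermForm n F q w w ≠ 0 →
        ∀ w' ∈ W, ∀ u' ∈ U, hermForm n F q w' w' ≠ 0 →
        hermForm n F q w' w' + hermForm n F q u' u' = 0 → InS q M (w' + u') := by
      intro w hw u hu hw0 hu0 hS hww w' hw' u' hu' hww' hs'
      have hs : hermForm n F q w w + hermForm n F q u u = 0 := by
        have h1 := hS.iso
        rw [herm_add_left, herm_add_right hF, herm_add_right hF, hP.perp w hw u hu, hP.perp' u hu w hw] at h1
        linear_combination h1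
      have huu' : hermForm n F q u' u' ≠ 0 := by
        intro h0; apply hww'; linear_combination hs' - h0
      obtain ⟨l, hl0, hl⟩ := exists_norm_eq_ne hF (c := hermForm n F q w' w' / hermForm n F q w w)
        (by rw [div_pow, herm_self_pow hF, herm_self_pow hF]) (div_ne_zero hww' hww)
      have h1 := InS.smul hF hS l
      rw [smul_add] at h1
      have e1 : hermForm n F q (l • w) (l • w) = hermForm n F q w' w' := by
        rw [herm_smul_left, herm_smul_right]
        have : l * l ^ q * hermForm n F q w w = hermForm n F q w' w' := by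
          rw [hl, div_mul_cancel₀ _ hww]
        linear_combination this
      have e2 : hermForm n F q (l • u) (l • u) = hermForm n F q u' u' := by
        rw [herm_smul_left, herm_smul_right]
        have : l * l ^ q * hermForm n F q w w = hermForm n F q w' w' := by
          rw [hl, div_mul_cancel₀ _ hww]
        linear_combination -this + (l * l ^ q) * hs - hs'
      exact hmove (l • w) (W.smul_mem _ hw) (l • u) (U.smul_mem _ hu) (smul_ne_zero hl0 hw0)
        (smul_ne_zero hl0 hu0) h1 w' hw' u' hu' (hne hww') (hne huu') e1 e2 (fun h0 => absurd h0 huu')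
    -- all norms are available
    have hall : ∀ w' ∈ W, ∀ u' ∈ U, hermForm n F q w' w' ≠ 0 →
        hermForm n F q w' w' + hermForm n F q u' u' = 0 → InS q M (w' + u') := by
      by_cases hww : hermForm n F q w w = 0
      swap
      · exact hnz w hw u hu hw0 hu0 hxS hww
      have huu : hermForm n F q u u = 0 := by linear_combination hsum - hww
      have hW2 := hdW w hw hw0 hww
      intro w' hw' u' hu' hww' hs'
      have huu' : hermForm n F q u' u' ≠ 0 := by
        intro h0; apply hww'; linear_combination hs' - h0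
      obtain ⟨c, d, hc, hd, hcd⟩ := exists_two_trace_one hF
      obtain ⟨w1, hw1, hw11, hw1'⟩ := exists_iso_split hF hW hW2 hw' hww' c
      obtain ⟨u1, hu1, hu11, hu1'⟩ := exists_iso_split hF hP.nd' hU2 hu' huu' d
      have hc0 : c ≠ 0 := by
        rintro rfl; rw [zero_pow_q hF, add_zero] at hc; exact h10 hc.symm
      have hd0 : d ≠ 0 := by
        rintro rfl; rw [zero_pow_q hF, add_zero] at hd; exact h10 hd.symm
      have hw10 : w1 ≠ 0 := by
        rintro rfl; rw [herm_zero_left] at hw1'; exact mul_ne_zero hc0 hww' hw1'.symm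
      have hu10 : u1 ≠ 0 := by
        rintro rfl; rw [herm_zero_left] at hu1'; exact mul_ne_zero hd0 huu' hu1'.symm
      have hw2 := herm_sub_self_iso hF hw11 hw1' hc
      have hu2 := herm_sub_self_iso hF hu11 hu1' hd
      have hw20 : w' - w1 ≠ 0 := by
        intro h0; apply hww'; rw [sub_eq_zero.1 h0]; exact hw11
      have hu20 : u' - u1 ≠ 0 := by
        intro h0; apply huu'; rw [sub_eq_zero.1 h0]; exact hu11
      have h1 : InS q M (w1 + u1) := hmove w hw u hu hw0 hu0 hxS w1 hw1 u1 hu1 hw10 hu10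
        (by rw [hww, hw11]) (by rw [huu, hu11]) (fun _ => hW2)
      have h2 : InS q M ((w' - w1) + (u' - u1)) := hmove w hw u hu hw0 hu0 hxS _ (W.sub_mem hw' hw1) _
        (U.sub_mem hu' hu1) hw20 hu20 (by rw [hww, hw2]) (by rw [huu, hu2]) (fun _ => hW2)
      have h3 := InS.line hF h1 h2 (by
        rw [herm_add_left, herm_add_right hF, herm_add_right hF, hP.perp w1 hw1 _ (U.sub_mem hu' hu1),
          hP.perp' u1 hu1 _ (W.sub_mem hw' hw1), herm_sub_right hF, herm_sub_right hF, hw11, hu11, hw1', hu1']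
        intro h0
        apply hcd
        have h5 : (c - d) * hermForm n F q w' w' = 0 := by linear_combination h0 - d * hs'
        exact sub_eq_zero.1 ((mul_eq_zero.1 h5).resolve_right hww')) 1 1 (by
        have h6 : (1 : F) • (w1 + u1) + (1 : F) • ((w' - w1) + (u' - u1)) = w' + u' := by
          rw [one_smul, one_smul]; abel
        rw [h6, herm_add_left, herm_add_right hF, herm_add_right hF, hP.perp w' hw' u' hu',
          hP.perp' u' hu' w' hw']
        linear_combination hs')
      have h6 : (1 : F) • (w1 + u1) + (1 : F) • ((w' - w1) + (u' - u1)) = w' + u' := by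
        rw [one_smul, one_smul]; abel
      rwa [h6] at h3
    -- conclusion
    refine su_le hF hn h32 fun y hy => ?_
    obtain ⟨w', hw', u', hu', rfl⟩ := hP.dec y
    have hs' : hermForm n F q w' w' + hermForm n F q u' u' = 0 := by
      rw [herm_add_left, herm_add_right hF, herm_add_right hF, hP.perp w' hw' u' hu', hP.perp' u' hu' w' hw'] at hy
      linear_combination hy
    by_cases hww' : hermForm n F q w' w' = 0
    swap
    · exact hall w' hw' u' hu' hww' hs'
    have huu' : hermForm n F q u' u' = 0 := by linear_combination hs' - hww'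
    by_cases hw0' : w' = 0
    · subst hw0'; rw [zero_add]; exact hSU u' hu' huu'
    by_cases hu0' : u' = 0
    · subst hu0'; rw [add_zero]; exact hSW w' hw' hww'
    have hW2 := hdW w' hw' hw0' hww'
    obtain ⟨α, hα0, hα⟩ := exists_trace_zero_ne hF
    -- `w1`
    obtain ⟨y0, hy0, hy0'⟩ : ∃ y0 ∈ W, hermForm n F q y0 w' ≠ 0 := by
      by_contra hcon
      push Not at hcon
      exact hw0' (hW w' hw' fun v hv => herm_eq_zero_swap hF (hcon v hv))
    set w2 := (α / hermForm n F q y0 w') • y0 with hw2def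
    have hw2W : w2 ∈ W := W.smul_mem _ hy0
    have hw2w : hermForm n F q w2 w' = α := by
      rw [hw2def, herm_smul_left, div_mul_cancel₀ _ hy0']
    obtain ⟨μ, hμ⟩ := exists_iso_add hF (x := w2) (w := w') hww' (by rw [hw2w]; exact hα0)
      (ν := 1) (one_pow q)
    set w1 := w2 + μ • w' with hw1def
    have hw1W : w1 ∈ W := W.add_mem hw2W (W.smul_mem _ hw')
    have hw1w : hermForm n F q w1 w' = α := by
      rw [hw1def, herm_add_left, herm_smul_left μ, hww', mul_zero, add_zero, hw2w]
    have hww1 : hermForm n F q w' w1 = α ^ q := by rw [herm_swap hF w1 w', hw1w]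
    -- `u1`
    obtain ⟨z, hz, hzu, hzz⟩ := exists_noniso_perp hF hP.nd' (by omega) hu'
    obtain ⟨l, hl⟩ := exists_norm_eq hF (c := -(1 / hermForm n F q z z))
      (by rw [neg_pow_q hF, div_pow, herm_self_pow hF, one_pow])
    have hu11 : hermForm n F q (l • z) (l • z) = -1 := by
      rw [herm_smul_left, herm_smul_right]
      have : l * l ^ q * hermForm n F q z z = -1 := by
        rw [hl, neg_mul, div_mul_cancel₀ _ hzz]
      linear_combination this
    have hu1u : hermForm n F q (l • z) u' = 0 := by rw [herm_smul_left, hzu, mul_zero]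
    have huu1 : hermForm n F q u' (l • z) = 0 := herm_eq_zero_swap hF hu1u
    have hu1U : l • z ∈ U := U.smul_mem _ hz
    have h1 : InS q M (w1 + l • z) := hall w1 hw1W (l • z) hu1U (by rw [hμ]; exact h10)
      (by rw [hμ, hu11]; ring)
    have e3 : hermForm n F q (w1 - w') (w1 - w') = 1 := by
      rw [herm_sub_left, herm_sub_right hF, herm_sub_right hF, hμ, hw1w, hww1, hww']
      linear_combination -hα
    have e4 : hermForm n F q (l • z - u') (l • z - u') = -1 := by
      rw [herm_sub_left, herm_sub_right hF, herm_sub_right hF, hu11, hu1u, huu1, huu']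
      ring
    have h2 : InS q M ((w1 - w') + (l • z - u')) := hall _ (W.sub_mem hw1W hw') _ (U.sub_mem hu1U hu')
      (by rw [e3]; exact h10) (by rw [e3, e4]; ring)
    have h6 : (1 : F) • (w1 + l • z) + (-1 : F) • ((w1 - w') + (l • z - u')) = w' + u' := by
      rw [one_smul, neg_one_smul]; abel
    have h3 := InS.line hF h1 h2 (by
      rw [herm_add_left, herm_add_right hF, herm_add_right hF, hP.perp w1 hw1W _ (U.sub_mem hu1U hu'),
        hP.perp' _ hu1U _ (W.sub_mem hw1W hw'), herm_sub_right hF, herm_sub_right hF, hμ, hu11, hw1w, hu1u]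
      intro h0
      apply hα0
      linear_combination -h0) 1 (-1) (by rw [h6]; exact hy)
    rwa [h6] at h3

end Cfsg.Agent.H876
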