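import Cfsg.Agent.H876.OddFinal

/-!
# Overgroups of the monomial group of `SU_n(q)`, `q` odd, `n ≥ 5` odd

The dihedral argument of `OddFrame`, with the negatives of the coordinate reflections.
-/

set_option autoImplicit false

namespace Cfsg.Agent.H876.OddOdd

open Cfsg Cfsg.Agent.LieClassical.HermBasic Cfsg.Agent.LieClassical.HermSiegel Cfsg.Agent.H927
open Cfsg.Agent.H876.MonoBasic Cfsg.Agent.H876.OddFrame

variable {F : Type*} [Field F] {n q : ℕ}

/-- `b` changes the signs of the coordinates other than `i`. -/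
def IsR (b : SU n F q) (i : Fin n) : Prop :=
  ∀ x l, act b x l = if l = i then x l else -x l

theorem IsR.single {b : SU n F q} {i : Fin n} (h : IsR b i) (k : Fin n) :
    act b (Pi.single k 1) = (if k = i then (1 : F) else -1) • Pi.single k 1 := by
  funext l
  rw [h, Pi.smul_apply, smul_eq_mul]
  by_cases hl : l = k
  · subst hl
    rw [Pi.single_eq_same]
    split_ifs <;> ring
  · rw [Pi.single_eq_of_ne hl]
    split_ifs <;> ring

theorem IsR.isDiag {b : SU n F q} {i : Fin n} (h : IsR b i) : IsDiag b :=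
  ⟨_, h.single⟩

theorem IsR.mul_self {b : SU n F q} {i : Fin n} (h : IsR b i) : b * b = 1 := by
  apply ext_act
  intro x
  funext l
  rw [act_mul, act_one, h, h]
  split_ifs <;> ring

theorem IsR.neg_of_zero {b : SU n F q} {i : Fin n} (h : IsR b i) {x : Fin n → F} (hx : x i = 0) :
    act b x = -x := by
  funext l
  rw [h, Pi.neg_apply]
  split_ifs with hl
  · rw [hl, hx, neg_zero]
  · rfl

theorem IsR.eq {b : SU n F q} {i : Fin n} (h : IsR b i) (x : Fin n → F) :
    act b x = -x + (2 * x i) • Pi.single i 1 := by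
  funext l
  rw [h, Pi.add_apply, Pi.neg_apply, Pi.smul_apply, smul_eq_mul]
  split_ifs with hl
  · rw [hl, Pi.single_eq_same]; ring
  · rw [Pi.single_eq_of_ne hl]; ring

theorem IsR.conj_perm {b h : SU n F q} {i : Fin n} (hb : IsR b i) {σ : Equiv.Perm (Fin n)}
    {d : Fin n → F} (hd : ∀ j, act h (Pi.single j 1) = d j • Pi.single (σ j) 1) :
    IsR (h * b * h⁻¹) (σ i) := by
  intro x l
  obtain ⟨m, rfl⟩ := σ.surjective l
  have h1 : x (σ m) = d m * act h⁻¹ x m := by
    rw [← act_perm_apply hd, act_act_inv]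
  rw [act_mul, act_mul, act_perm_apply hd, hb, h1]
  simp only [σ.injective.eq_iff]
  split_ifs <;> ring

theorem act_neg (h : SU n F q) (u : Fin n → F) : act h (-u) = -act h u := by
  rw [show -u = (-1 : F) • u by simp, act_smul, neg_one_smul]

section

variable [Fintype F] (hF : Fintype.card F = q ^ 2)
include hF

theorem exists_R (hodd : Odd n) (i : Fin n) : ∃ b : SU n F q, IsR b i := by
  classical
  obtain ⟨b, -, hb⟩ := exists_mono (F := F) hF (1 : Equiv.Perm (Fin n))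
    (Function.update (fun _ => -1) i 1) (by
      intro l
      by_cases h : l = i
      · subst h; rw [Function.update_self]; simp
      · rw [Function.update_of_ne h, neg_pow_q hF, one_pow]; ring) (by
      rw [Finset.prod_update_of_mem (Finset.mem_univ i), Finset.prod_const, one_mul]
      have h1 : (Finset.univ \ {i} : Finset (Fin n)).card = n - 1 := by
        rw [Finset.card_sdiff_of_subset (Finset.subset_univ _), Finset.card_univ, Fintype.card_fin,
          Finset.card_singleton]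
      obtain ⟨m, hm⟩ := hodd
      rw [h1, hm, Nat.add_sub_cancel, pow_mul]
      simp)
  refine ⟨b, fun x l => ?_⟩
  rw [hb, Equiv.Perm.one_apply]
  split_ifs with h
  · rw [h, Function.update_self, one_mul]
  · rw [Function.update_of_ne h, neg_one_mul]

variable {X : Subgroup (SU n F q)} (hG : ∀ g : SU n F q, IsMono g → g ∈ X)
  (hstar : ∀ y ∈ X, ∀ (k : Fin n) (c : F), act y (Pi.single k 1) = c • Pi.single k 1 → IsMono y)
  (h2 : (2 : F) ≠ 0)
include hG hstar h2

/-- (U1) -/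
theorem mono_of_conj1 (hn : 5 ≤ n) (hq : 3 ≤ q) {g b : SU n F q} (hg : g ∈ X) {i : Fin n}
    (hb : IsR b i) (hm : IsMono (g⁻¹ * b * g)) : IsMono g := by
  classical
  by_contra hgm
  have hz : ∀ k l, k ≠ l → act g (Pi.single k 1) i = 0 → act g (Pi.single l 1) i ≠ 0 := by
    intro k l hkl hk hl
    exact hgm (mono_of_zeros hF hG hstar hn hq hg hkl hk hl)
  obtain ⟨w, hw⟩ : ∃ w : Fin n → F, w = act g⁻¹ (Pi.single i 1) := ⟨_, rfl⟩
  have hwk : ∀ k, w k = (act g (Pi.single k 1) i) ^ q := fun k => by rw [hw, act_inv_single hF]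
  -- three non-zero coordinates
  obtain ⟨S, hS⟩ : ∃ S : Finset (Fin n), S = Finset.univ.filter fun k => act g (Pi.single k 1) i = 0 :=
    ⟨_, rfl⟩
  have hSc : S.card ≤ 1 := by
    rw [Finset.card_le_one]
    intro a ha b hb
    rw [hS, Finset.mem_filter] at ha hb
    by_contra hab
    exact hz a b hab ha.2 hb.2
  have hmemS : ∀ k, k ∉ S → act g (Pi.single k 1) i ≠ 0 := by
    intro k hk h
    exact hk (by rw [hS, Finset.mem_filter]; exact ⟨Finset.mem_univ _, h⟩)
  obtain ⟨a, ha⟩ := EvenFrame.exists_notMem_of_card_lt (s := S) (n := n) (by omega)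
  obtain ⟨c, hc⟩ := EvenFrame.exists_notMem_of_card_lt (s := insert a S) (n := n)
    (lt_of_le_of_lt (Finset.card_insert_le _ _) (by omega))
  obtain ⟨d, hd⟩ := EvenFrame.exists_notMem_of_card_lt (s := insert c (insert a S)) (n := n)
    (lt_of_le_of_lt ((Finset.card_insert_le _ _).trans
      (Nat.add_le_add_right (Finset.card_insert_le _ _) 1)) (by omega))
  simp only [Finset.mem_insert, not_or] at hc hd
  have ha' := hmemS a ha
  have hc' := hmemS c hc.2
  have hd' := hmemS d hd.2.2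
  obtain ⟨m, γ, hmγ⟩ := hm a
  have h1 : act (g⁻¹ * b * g) (Pi.single a 1) =
      -Pi.single a 1 + (2 * act g (Pi.single a 1) i) • w := by
    rw [act_mul, act_mul, hb.eq, act_add, act_neg, act_inv_act, act_smul, ← hw]
  rw [h1] at hmγ
  have e1 := congrFun hmγ c
  have e2 := congrFun hmγ d
  simp only [Pi.add_apply, Pi.neg_apply, Pi.smul_apply, smul_eq_mul, Pi.single_eq_of_ne hc.1,
    Pi.single_eq_of_ne hd.2.1, neg_zero, zero_add, hwk] at e1 e2
  by_cases hmc : m = c
  · rw [hmc, Pi.single_eq_of_ne hd.1, mul_zero] at e2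
    exact mul_ne_zero (mul_ne_zero h2 ha') (pow_ne_zero _ hd') e2
  · rw [Pi.single_eq_of_ne (Ne.symm hmc), mul_zero] at e1
    exact mul_ne_zero (mul_ne_zero h2 ha') (pow_ne_zero _ hc') e1

/-- (O1) -/
theorem odd_order1 (hn : 5 ≤ n) (hq : 3 ≤ q) {g b b0 : SU n F q} (hg : g ∈ X) (hgm : ¬ IsMono g)
    {i k : Fin n} (hb : IsR b i) (hb0 : IsR b0 k) :
    Odd (orderOf (b * (g * b0 * g⁻¹))) := by
  classical
  obtain ⟨b', hb'⟩ : ∃ b', b' = g * b0 * g⁻¹ := ⟨_, rfl⟩
  rw [← hb']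
  have hbb := hb.mul_self
  have hbb' : b' * b' = 1 := by
    rw [hb']
    have h3 := hb0.mul_self
    calc g * b0 * g⁻¹ * (g * b0 * g⁻¹) = g * (b0 * b0) * g⁻¹ := by group
      _ = 1 := by rw [h3]; group
  have hbX : b ∈ X := hG b hb.isDiag.isMono
  have hb0X : b0 ∈ X := hG b0 hb0.isDiag.isMono
  have hb'X : b' ∈ X := by rw [hb']; exact X.mul_mem (X.mul_mem hg hb0X) (X.inv_mem hg)
  have hwX : b * b' ∈ X := X.mul_mem hbX hb'X
  by_contra hodd
  rw [Nat.not_odd_iff_even] at hodd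
  obtain ⟨m, hm⟩ := hodd
  have hpos : 0 < orderOf (b * b') := orderOf_pos _
  obtain ⟨z, hz⟩ : ∃ z, z = (b * b') ^ m := ⟨_, rfl⟩
  have hz1 : z ≠ 1 := by
    rw [hz]
    exact pow_ne_one_of_lt_orderOf (by omega) (by omega)
  have hzz : z * z = 1 := by
    rw [hz, ← pow_add, ← hm, pow_orderOf_eq_one]
  have hzi : z⁻¹ = z := inv_eq_of_mul_eq_one_left hzz
  have hzX : z ∈ X := by rw [hz]; exact X.pow_mem hwX m
  have hzb : b * z = z * b := by
    have h3 := dih_key hbb hbb' m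
    rw [← hz, hzi] at h3
    exact h3
  have hzw : (b * b') * z = z * (b * b') := by
    rw [hz]; exact ((Commute.refl (b * b')).pow_right m).eq
  have hzb' : b' * z = z * b' := by
    have h3 : b' = b * (b * b') := by rw [← mul_assoc, hbb, one_mul]
    calc b' * z = b * (b * b') * z := by rw [← h3]
      _ = b * (z * (b * b')) := by rw [mul_assoc, hzw]
      _ = z * b * (b * b') := by rw [← mul_assoc, hzb]
      _ = z * b' := by rw [mul_assoc, ← h3]
  -- `z` is monomial
  have hzm : IsMono z := by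
    apply mono_of_conj1 hF hG hstar h2 hn hq hzX hb
    have h3 : z⁻¹ * b * z = b := by rw [mul_assoc, hzb, ← mul_assoc, inv_mul_cancel, one_mul]
    rw [h3]; exact hb.isDiag.isMono
  obtain ⟨z', hz'⟩ : ∃ z', z' = g⁻¹ * z * g := ⟨_, rfl⟩
  have hz'X : z' ∈ X := by rw [hz']; exact X.mul_mem (X.mul_mem (X.inv_mem hg) hzX) hg
  have hz'm : IsMono z' := by
    apply mono_of_conj1 hF hG hstar h2 hn hq hz'X hb0
    have h3 : z'⁻¹ * b0 * z' = b0 := by
      have h5 : z⁻¹ * b' * z = b' := by rw [mul_assoc, hzb', ← mul_assoc, inv_mul_cancel, one_mul]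
      have h6 : z'⁻¹ * b0 * z' = g⁻¹ * (z⁻¹ * (g * b0 * g⁻¹) * z) * g := by rw [hz']; group
      rw [h6, ← hb', h5, hb']; group
    rw [h3]; exact hb0.isDiag.isMono
  -- `z` is diagonal
  have hzd : IsDiag z := by
    have h4 : IsDiag (b * z) := by
      obtain ⟨t, ht⟩ := dih_conj hbb hbb' m
      rw [← hz] at ht
      have hwt : (b * b') ^ t ∈ X := X.pow_mem hwX t
      have hbzm : IsMono (b * z) := IsMono.mul hb.isDiag.isMono hzm
      rcases ht with ht | ht
      · rw [ht] at hbzm ⊢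
        exact isDiag_conj hb.isDiag (mono_of_conj1 hF hG hstar h2 hn hq hwt hb hbzm)
      · have h5 : ((b * b') ^ t)⁻¹ * b' * (b * b') ^ t =
            (g⁻¹ * (b * b') ^ t)⁻¹ * b0 * (g⁻¹ * (b * b') ^ t) := by
          generalize (b * b') ^ t = u
          rw [hb']; group
        rw [ht, h5] at hbzm
        rw [ht, h5]
        exact isDiag_conj hb0.isDiag (mono_of_conj1 hF hG hstar h2 hn hq (X.mul_mem (X.inv_mem hg) hwt)
          hb0 hbzm)
    have h5 : z = b * (b * z) := by rw [← mul_assoc, hbb, one_mul]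
    rw [h5]; exact hb.isDiag.mul h4
  -- `z'` is diagonal
  have hzd' : IsDiag z' := by
    have h4 : IsDiag (b0 * z') := by
      have e0 : b0 * z' = g⁻¹ * (b' * z) * g := by rw [hz', hb']; group
      have e1 : b' * z = b * (b * b') ^ (m + 1) := by
        rw [hz, pow_succ', ← mul_assoc, ← mul_assoc, hbb, one_mul]
      obtain ⟨t, ht⟩ := dih_conj hbb hbb' (m + 1)
      rw [← e1] at ht
      have hwt : (b * b') ^ t ∈ X := X.pow_mem hwX t
      have hbzm : IsMono (b0 * z') := IsMono.mul hb0.isDiag.isMono hz'm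
      rcases ht with ht | ht
      · have e2 : b0 * z' = ((b * b') ^ t * g)⁻¹ * b * ((b * b') ^ t * g) := by
          rw [e0, ht]; group
        rw [e2] at hbzm ⊢
        exact isDiag_conj hb.isDiag (mono_of_conj1 hF hG hstar h2 hn hq (X.mul_mem hwt hg) hb hbzm)
      · have e2 : b0 * z' = (g⁻¹ * (b * b') ^ t * g)⁻¹ * b0 * (g⁻¹ * (b * b') ^ t * g) := by
          rw [e0, ht]
          generalize (b * b') ^ t = u
          rw [hb']; group
        rw [e2] at hbzm ⊢
        exact isDiag_conj hb0.isDiag (mono_of_conj1 hF hG hstar h2 hn hq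
          (X.mul_mem (X.mul_mem (X.inv_mem hg) hwt) hg) hb0 hbzm)
    have hb00 := hb0.mul_self
    have h5 : z' = b0 * (b0 * z') := by rw [← mul_assoc, hb00, one_mul]
    rw [h5]; exact hb0.isDiag.mul h4
  obtain ⟨ζ, hζ⟩ := hzd
  obtain ⟨ζ', hζ'⟩ := hzd'
  have hzact : ∀ (x : Fin n → F) (a : Fin n), act z x a = ζ a * x a := fun x a =>
    act_perm_apply (σ := Equiv.refl _) hζ x a
  have hζ2 : ∀ a, ζ a = 1 ∨ ζ a = -1 := by
    intro a
    have h3 : act (z * z) (Pi.single a 1) = Pi.single a 1 := by rw [hzz, act_one]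
    have h4 := congrFun h3 a
    rw [act_mul, hzact, hzact, Pi.single_eq_same] at h4
    exact mul_self_eq_one_iff.1 (by linear_combination h4)
  have hz'act : ∀ (x : Fin n → F) (a : Fin n), act z' x a = ζ' a * x a := fun x a =>
    act_perm_apply (σ := Equiv.refl _) hζ' x a
  have hzz' : z' * z' = 1 := by
    have h3 : z' * z' = g⁻¹ * (z * z) * g := by rw [hz']; group
    rw [h3, hzz]; group
  have hζ2' : ∀ a, ζ' a = 1 ∨ ζ' a = -1 := by
    intro a
    have h3 : act (z' * z') (Pi.single a 1) = Pi.single a 1 := by rw [hzz', act_one]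
    have h4 := congrFun h3 a
    rw [act_mul, hz'act, hz'act, Pi.single_eq_same] at h4
    exact mul_self_eq_one_iff.1 (by linear_combination h4)
  -- both signs occur
  have hneg : ∃ a, ζ a = -1 := by
    by_contra hcon
    push Not at hcon
    apply hz1
    apply ext_act
    intro x
    funext a
    rw [hzact, act_one, (hζ2 a).resolve_right (hcon a), one_mul]
  have hpos' : ∃ a, ζ a = 1 := by
    obtain ⟨x, hx0, -, hx⟩ := exists_supported (r := 2) (Finset.univ : Finset (Fin n))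
      (by rw [Finset.card_univ, Fintype.card_fin]; omega)
      ![lin (1 : SU n F q) i, lin g⁻¹ k]
    have x1 : x i = 0 := by have := hx 0; simpa [lin_apply, act_one] using this
    have x3 : act g⁻¹ x k = 0 := hx 1
    have hbx : act b x = -x := hb.neg_of_zero x1
    have hb0x : act b0 (act g⁻¹ x) = -act g⁻¹ x := hb0.neg_of_zero x3
    have hb'x : act b' x = -x := by
      rw [hb', act_mul, act_mul, hb0x, act_neg, act_act_inv]
    have hwx : ∀ t : ℕ, act ((b * b') ^ t) x = x := by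
      intro t
      induction t with
      | zero => rw [pow_zero, act_one]
      | succ t ih => rw [pow_succ, act_mul, act_mul, hb'x, act_neg, hbx, neg_neg, ih]
    have hzx : act z x = x := by rw [hz]; exact hwx m
    obtain ⟨a, ha⟩ : ∃ a, x a ≠ 0 := by
      by_contra hcon
      push Not at hcon
      exact hx0 (funext hcon)
    refine ⟨a, ?_⟩
    have h3 := congrFun hzx a
    rw [hzact] at h3
    have h4 : (ζ a - 1) * x a = 0 := by linear_combination h3
    have h5 := (mul_eq_zero.1 h4).resolve_right ha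
    linear_combination h5
  have hzero : ∀ a c, ζ a ≠ ζ' c → act g (Pi.single c 1) a = 0 := by
    intro a c hac
    have h3 : act z (act g (Pi.single c 1)) = act g (act z' (Pi.single c 1)) := by
      rw [hz', act_mul, act_mul, act_act_inv]
    have h4 := congrFun h3 a
    rw [hzact, hζ', act_smul, Pi.smul_apply, smul_eq_mul] at h4
    have h5 : (ζ a - ζ' c) * act g (Pi.single c 1) a = 0 := by linear_combination h4
    exact (mul_eq_zero.1 h5).resolve_left (sub_ne_zero.2 hac)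
  have hm1 : (-1 : F) ≠ 1 := by
    intro h; apply h2; linear_combination -h
  obtain ⟨ap, hap⟩ := hpos'
  obtain ⟨an, han⟩ := hneg
  have h0 : ∃ c c' : Fin n, c ≠ c' ∧ ζ' c = ζ' c' := by
    have e01 : (⟨0, by omega⟩ : Fin n) ≠ ⟨1, by omega⟩ := by simp [Fin.ext_iff]
    have e02 : (⟨0, by omega⟩ : Fin n) ≠ ⟨2, by omega⟩ := by simp [Fin.ext_iff]
    have e12 : (⟨1, by omega⟩ : Fin n) ≠ ⟨2, by omega⟩ := by simp [Fin.ext_iff]
    rcases hζ2' ⟨0, by omega⟩ with h | h <;> rcases hζ2' ⟨1, by omega⟩ with h' | h' <;>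
      rcases hζ2' ⟨2, by omega⟩ with h'' | h''
    · exact ⟨_, _, e01, h.trans h'.symm⟩
    · exact ⟨_, _, e01, h.trans h'.symm⟩
    · exact ⟨_, _, e02, h.trans h''.symm⟩
    · exact ⟨_, _, e12, h'.trans h''.symm⟩
    · exact ⟨_, _, e12, h'.trans h''.symm⟩
    · exact ⟨_, _, e02, h.trans h''.symm⟩
    · exact ⟨_, _, e01, h.trans h'.symm⟩
    · exact ⟨_, _, e01, h.trans h'.symm⟩
  obtain ⟨c, c', hcc', hs⟩ := h0
  apply hgm
  rcases hζ2' c with h | h
  · refine mono_of_zeros hF hG hstar hn hq hg hcc' (j := an) (hzero _ _ ?_) (hzero _ _ ?_)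
    · rw [han, h]; exact hm1
    · rw [han, ← hs, h]; exact hm1
  · refine mono_of_zeros hF hG hstar hn hq hg hcc' (j := ap) (hzero _ _ ?_) (hzero _ _ ?_)
    · rw [hap, h]; exact hm1.symm
    · rw [hap, ← hs, h]; exact hm1.symm

/-- (C1) -/
theorem exists_conj1 (hn : 5 ≤ n) (hq : 3 ≤ q) {g b b0 : SU n F q} (hg : g ∈ X) (hgm : ¬ IsMono g)
    {i k : Fin n} (hb : IsR b i) (hb0 : IsR b0 k) :
    ∃ c ∈ X, c * c = 1 ∧ c * b * c = g * b0 * g⁻¹ ∧ IsMono (c * g) ∧
      ∃ v ∈ X, ¬ IsMono v ∧ c = v⁻¹ * b * v := by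
  classical
  obtain ⟨b', hb'⟩ : ∃ b', b' = g * b0 * g⁻¹ := ⟨_, rfl⟩
  have hodd := odd_order1 hF hG hstar h2 hn hq hg hgm hb hb0
  rw [← hb'] at hodd ⊢
  have hbb := hb.mul_self
  have hbb' : b' * b' = 1 := by
    rw [hb']
    have h3 := hb0.mul_self
    calc g * b0 * g⁻¹ * (g * b0 * g⁻¹) = g * (b0 * b0) * g⁻¹ := by group
      _ = 1 := by rw [h3]; group
  have hbX : b ∈ X := hG b hb.isDiag.isMono
  have hb0X : b0 ∈ X := hG b0 hb0.isDiag.isMono
  have hb'X : b' ∈ X := by rw [hb']; exact X.mul_mem (X.mul_mem hg hb0X) (X.inv_mem hg)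
  have hwX : b * b' ∈ X := X.mul_mem hbX hb'X
  obtain ⟨m, hm⟩ := hodd
  have hpow := pow_orderOf_eq_one (b * b')
  -- `2 s = m + 1` modulo the order
  obtain ⟨s, hs⟩ : ∃ s, (b * b') ^ (2 * s) = (b * b') ^ (m + 1) := by
    rcases Nat.even_or_odd' (m + 1) with ⟨s, hs | hs⟩
    · exact ⟨s, by rw [hs]⟩
    · refine ⟨s + m + 1, ?_⟩
      have h3 : 2 * (s + m + 1) = (m + 1) + orderOf (b * b') := by rw [hm]; omega
      rw [h3, pow_add, hpow, mul_one]
  obtain ⟨v, hv⟩ : ∃ v, v = (b * b') ^ s := ⟨_, rfl⟩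
  have hvX : v ∈ X := by rw [hv]; exact X.pow_mem hwX s
  have hc0 : v⁻¹ * b * v = b * (b * b') ^ (m + 1) := by
    rw [← hs, hv, ← dih_key hbb hbb', two_mul, pow_add, mul_assoc]
  obtain ⟨c, hc⟩ : ∃ c, c = v⁻¹ * b * v := ⟨_, rfl⟩
  have hcc : c * c = 1 := by
    rw [hc]
    calc v⁻¹ * b * v * (v⁻¹ * b * v) = v⁻¹ * (b * b) * v := by group
      _ = 1 := by rw [hbb]; group
  have hcbc : c * b * c = b' := by
    rw [hc, hc0]
    have h3 : b * (b * b') ^ (m + 1) * b * (b * (b * b') ^ (m + 1)) =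
        b * ((b * b') ^ (m + 1) * (b * b) * (b * b') ^ (m + 1)) := by group
    have h4 : m + 1 + (m + 1) = orderOf (b * b') + 1 := by rw [hm]; omega
    rw [h3, hbb, mul_one, ← pow_add, h4, pow_add, hpow, pow_one, one_mul, ← mul_assoc, hbb, one_mul]
  have hvm : ¬ IsMono v := by
    intro hvm
    have hcm : IsMono c := by
      rw [hc]; exact IsMono.mul (IsMono.mul (IsMono.inv hvm) hb.isDiag.isMono) hvm
    have hb'm : IsMono b' := by
      rw [← hcbc]; exact IsMono.mul (IsMono.mul hcm hb.isDiag.isMono) hcm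
    apply hgm
    rw [← isMono_inv_iff]
    refine mono_of_conj1 hF hG hstar h2 hn hq (X.inv_mem hg) hb0 ?_
    rw [inv_inv, ← hb']
    exact hb'm
  have hcX : c ∈ X := by
    rw [hc]; exact X.mul_mem (X.mul_mem (X.inv_mem hvX) hbX) hvX
  refine ⟨c, hcX, hcc, hcbc, ?_, v, hvX, hvm, hc⟩
  refine mono_of_conj1 hF hG hstar h2 hn hq (X.mul_mem hcX hg) hb ?_
  have hci : c⁻¹ = c := inv_eq_of_mul_eq_one_left hcc
  have h3 : (c * g)⁻¹ * b * (c * g) = g⁻¹ * (c * b * c) * g := by
    rw [mul_inv_rev, hci]; group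
  have h4 : (c * g)⁻¹ * b * (c * g) = b0 := by
    rw [h3, hcbc, hb']; group
  rw [h4]
  exact hb0.isDiag.isMono

/-- the product of two of the conjugating involutions has odd order, if it is monomial. -/
theorem odd_prod1 (hn : 5 ≤ n) (hq : 3 ≤ q) {b v₁ v₂ : SU n F q} (hv₁ : v₁ ∈ X) (hv₂ : v₂ ∈ X)
    (hvm : ¬ IsMono v₁) {i : Fin n} (hb : IsR b i)
    (hy : IsMono (v₁⁻¹ * b * v₁ * (v₂⁻¹ * b * v₂))) (hy1 : v₁⁻¹ * b * v₁ * (v₂⁻¹ * b * v₂) ≠ 1) :
    Odd (orderOf (v₁⁻¹ * b * v₁ * (v₂⁻¹ * b * v₂))) := by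
  classical
  obtain ⟨y, hyd⟩ : ∃ y, y = v₁⁻¹ * b * v₁ * (v₂⁻¹ * b * v₂) := ⟨_, rfl⟩
  rw [← hyd] at hy hy1 ⊢
  obtain ⟨h, hh⟩ : ∃ h, h = v₁ * v₂⁻¹ := ⟨_, rfl⟩
  have hhX : h ∈ X := by rw [hh]; exact X.mul_mem hv₁ (X.inv_mem hv₂)
  have hyh : y = v₁⁻¹ * (b * (h * b * h⁻¹)) * v₁ := by rw [hyd, hh]; group
  by_cases hhm : IsMono h
  · exfalso
    obtain ⟨σ, d, hd0, hd⟩ := IsMono.exists_perm hhm
    have hb' : IsR (h * b * h⁻¹) (σ i) := hb.conj_perm hd
    by_cases hσ : i = σ i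
    · rw [← hσ] at hb'
      have h3 : b * (h * b * h⁻¹) = 1 := by
        have h4 : h * b * h⁻¹ = b := by
          apply ext_act
          intro x
          funext l
          rw [hb, hb']
        rw [h4, hb.mul_self]
      rw [h3] at hyh
      exact hy1 (by rw [hyh]; group)
    · have h3 : IsB (b * (h * b * h⁻¹)) i (σ i) := by
        intro x l
        rw [act_mul, hb, hb']
        by_cases hl : l = i
        · subst hl
          rw [if_pos rfl, if_neg hσ, if_pos (Or.inl rfl)]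
        · by_cases hl' : l = σ i
          · rw [if_neg hl, if_pos hl', if_pos (Or.inr hl')]
          · rw [if_neg hl, if_neg hl', if_neg (by tauto), neg_neg]
      exact hvm (mono_of_conj hF hG hstar h2 hn hq hv₁ hσ h3 (by rw [← hyh]; exact hy))
  · have h1 := odd_order1 hF hG hstar h2 (by omega) hq hhX hhm hb hb
    have h3 : orderOf y = orderOf (b * (h * b * h⁻¹)) := by
      have h4 : y = MulAut.conj v₁⁻¹ (b * (h * b * h⁻¹)) := by
        rw [MulAut.conj_apply, inv_inv, hyh]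
      rw [h4, MulEquiv.orderOf_eq]
    rw [h3]
    exact h1

end

/-- **Overgroups of the monomial group**: `n ≥ 5` odd, `q` odd. -/
theorem eq_top_odd_odd [Fintype F] (hF : Fintype.card F = q ^ 2) {X : Subgroup (SU n F q)}
    (hG : ∀ g : SU n F q, IsMono g → g ∈ X) (h2 : (2 : F) ≠ 0) (hn : 5 ≤ n) (hno : Odd n) (hq : 3 ≤ q)
    (hX : ∃ g ∈ X, ¬ IsMono g) : X = ⊤ := by
  classical
  by_contra htop
  have hstar : ∀ y ∈ X, ∀ (k : Fin n) (c : F), act y (Pi.single k 1) = c • Pi.single k 1 → IsMono y := by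
    intro y hy k c hk
    by_contra hny
    exact htop (eq_top_of_fix hF hG (by omega) hq hy hny hk)
  obtain ⟨g, hg, hgm⟩ := hX
  obtain ⟨p0, hp0⟩ : ∃ p : Fin n, p = ⟨0, by omega⟩ := ⟨_, rfl⟩
  obtain ⟨p1, hp1⟩ : ∃ p : Fin n, p = ⟨1, by omega⟩ := ⟨_, rfl⟩
  have h01 : p0 ≠ p1 := by rw [hp0, hp1]; simp [Fin.ext_iff]
  obtain ⟨b, hb⟩ := exists_R (F := F) hF hno p0
  obtain ⟨b', hb'⟩ := exists_R (F := F) hF hno p1
  obtain ⟨c₁, hc₁X, hcc₁, hcb₁, hcm₁, v₁, hv₁X, hvm₁, hv₁⟩ :=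
    exists_conj1 hF hG hstar h2 (by omega) hq hg hgm hb hb
  obtain ⟨c₂, hc₂X, hcc₂, hcb₂, hcm₂, v₂, hv₂X, hvm₂, hv₂⟩ :=
    exists_conj1 hF hG hstar h2 (by omega) hq hg hgm hb hb'
  have hci₁ : c₁⁻¹ = c₁ := inv_eq_of_mul_eq_one_left hcc₁
  have hci₂ : c₂⁻¹ = c₂ := inv_eq_of_mul_eq_one_left hcc₂
  obtain ⟨y, hy⟩ : ∃ y, y = c₁ * c₂ := ⟨_, rfl⟩
  obtain ⟨y', hy'⟩ : ∃ y', y' = g⁻¹ * y * g := ⟨_, rfl⟩
  have hym : IsMono y := by
    have h3 : y = (c₁ * g) * (c₂ * g)⁻¹ := by rw [hy, mul_inv_rev, hci₂]; group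
    rw [h3]; exact IsMono.mul hcm₁ (IsMono.inv hcm₂)
  have hym' : IsMono y' := by
    have h3 : y' = (c₁ * g)⁻¹ * (c₂ * g) := by rw [hy', hy, mul_inv_rev, hci₁]; group
    rw [h3]; exact IsMono.mul (IsMono.inv hcm₁) hcm₂
  have hy1 : y ≠ 1 := by
    intro h
    have h3 : c₁ = c₂ := by
      have : c₁ * c₂ = 1 := by rw [← hy, h]
      rw [← hci₂]; exact eq_inv_of_mul_eq_one_left this
    have h4 : g * b * g⁻¹ = g * b' * g⁻¹ := by rw [← hcb₁, ← hcb₂, h3]
    have h5 : b = b' := by simpa using h4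
    have h6 := congrFun (congrArg (fun b => act b (Pi.single p1 1)) h5) p1
    rw [hb, hb', if_neg h01.symm, if_pos rfl, Pi.single_eq_same] at h6
    apply h2
    linear_combination -h6
  have hyodd : Odd (orderOf y) := by
    have h3 : y = v₁⁻¹ * b * v₁ * (v₂⁻¹ * b * v₂) := by rw [hy, hv₁, hv₂]
    rw [h3]
    rw [h3] at hym hy1
    exact odd_prod1 hF hG hstar h2 (by omega) hq hv₁X hv₂X hvm₁ hb hym hy1
  have hord : orderOf y' = orderOf y := by
    have h4 : y' = MulAut.conj g⁻¹ y := by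
      rw [MulAut.conj_apply, inv_inv, hy']
    rw [h4, MulEquiv.orderOf_eq]
  have hmoved := card_moved_le_odd hym' (by rw [hord]; exact hyodd) (orderOf_pos _) (r := 2)
    ![lin (v₂ * g) p0, lin (v₁ * g) p0] (by
      intro x hx
      have e1 : act (v₂ * g) x p0 = 0 := hx 0
      have e3 : act (v₁ * g) x p0 = 0 := hx 1
      have f2 := hb.neg_of_zero e1
      have f1 := hb.neg_of_zero e3
      rw [act_mul] at f1 f2
      have g2 : act c₂ (act g x) = -act g x := by
        rw [hv₂, act_mul, act_mul, f2, act_neg, act_inv_act]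
      have g1 : act c₁ (act g x) = -act g x := by
        rw [hv₁, act_mul, act_mul, f1, act_neg, act_inv_act]
      rw [hy', act_mul, act_mul, hy, act_mul, g2, act_neg, g1, neg_neg, act_inv_act])
  obtain ⟨k, l, hkl, hk, hl⟩ := exists_two_not_moved (g := y') (by omega)
  obtain ⟨i, hi⟩ := exists_not_fixed hy1
  obtain ⟨m, γ, hm⟩ := hym i
  obtain ⟨m', hm', hmm'⟩ : ∃ m', i ≠ m' ∧ (m = i ∨ m = m') := by
    by_cases hmk : m = i
    · obtain ⟨m', hm'⟩ := EvenFrame.exists_notMem_of_card_lt (s := ({i} : Finset (Fin n))) (n := n)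
        (by rw [Finset.card_singleton]; omega)
      exact ⟨m', fun h => hm' (by rw [h]; exact Finset.mem_singleton_self _), Or.inl hmk⟩
    · exact ⟨m, fun h => hmk h.symm, Or.inr rfl⟩
  have hyg : ∀ x, act y' x = x → act y (act g x) = act g x := by
    intro x hx
    rw [hy', act_mul, act_mul] at hx
    have h3 := congrArg (act g) hx
    rwa [act_act_inv] at h3
  have hzero : ∀ k, act y' (Pi.single k 1) = Pi.single k 1 →
      act g⁻¹ (act y (Pi.single i 1) - Pi.single i 1) k = 0 := by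
    intro k hk
    have h3 := hyg _ hk
    rw [← H927.herm_single_right hF (act g⁻¹ _) k, ← herm_act g, act_act_inv, herm_sub_left]
    conv_lhs => arg 1; rw [← h3]
    rw [herm_act, sub_self]
  refine no_two_zeros hF hG hstar h2 (by omega) hq hg hgm hm' hkl (sub_ne_zero.2 hi) ?_ (hzero k hk)
    (hzero l hl)
  intro c hck hcm
  rw [hm, Pi.sub_apply, Pi.smul_apply, Pi.single_eq_of_ne hck, smul_eq_mul]
  rcases hmm' with h | h
  · rw [h, Pi.single_eq_of_ne hck]; ring
  · rw [h, Pi.single_eq_of_ne hcm]; ring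

end Cfsg.Agent.H876.OddOdd
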