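import Cfsg.Agent.H876.FrameMax
import Cfsg.Agent.H876.OddOdd

/-!
# `SU_n(q)`: the stabiliser of an orthonormal frame is maximal, `n ≥ 5` odd, all `q`
-/

set_option autoImplicit false
open Cfsg
open scoped Matrix MatrixGroups

namespace Cfsg.Agent.H876.FrameMax

open Cfsg.Agent.H927

variable {F : Type*} [Field F] [Fintype F] {n q t : ℕ}

/-- `q = 2`, or `q ≥ 4` even, or `2 ≠ 0` and `q ≥ 3`. -/
theorem cases_q (hF : Fintype.card F = q ^ 2) :
    q = 2 ∨ ((2 : F) = 0 ∧ 4 ≤ q) ∨ ((2 : F) ≠ 0 ∧ 3 ≤ q) := by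
  have hcard : 1 < Fintype.card F := Fintype.one_lt_card
  have hq1 : 2 ≤ q := by
    by_contra h
    interval_cases q <;> omega
  by_cases hq2 : q = 2
  · exact Or.inl hq2
  right
  by_cases h2 : (2 : F) = 0
  · have hq3 : q ≠ 3 := by
      rintro rfl
      have h9 : ((Fintype.card F : ℕ) : F) = 0 := Nat.cast_card_eq_zero F
      rw [hF] at h9
      have h10 : (1 : F) = 0 := by
        have h11 : ((3 ^ 2 : ℕ) : F) = 9 := by norm_num
        rw [h11] at h9
        linear_combination h9 - 4 * h2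
      exact one_ne_zero h10
    exact Or.inl ⟨h2, by omega⟩
  · exact Or.inr ⟨h2, by omega⟩

/-- overgroups of the monomial group, `n ≥ 5` odd, all `q`. -/
theorem frame_top_odd (hF : Fintype.card F = q ^ 2) (hn : 5 ≤ n) (hno : Odd n)
    (X : Subgroup (SU n F q)) (hG : ∀ g, IsMono g → g ∈ X) (hX : ∃ g ∈ X, ¬ IsMono g) : X = ⊤ := by
  rcases cases_q hF with rfl | ⟨h2, hq⟩ | ⟨h2, hq⟩
  · exact TwoFrame.eq_top_two hF hG hn (by rintro rfl; exact absurd hno (by decide)) hX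
  · exact EvenFrame.eq_top_even hF h2 hG hq hn hX
  · exact OddOdd.eq_top_odd_odd hF hG h2 hn hno hq hX

/-- overgroups of the monomial group, `n = 5` or `n ≥ 7`, all `q`; `n = 6` for `q ≥ 4` even. -/
theorem frame_top_all (hF : Fintype.card F = q ^ 2) (hn : 5 ≤ n) (h6 : n = 6 → (2 : F) = 0 ∧ q ≠ 2)
    (X : Subgroup (SU n F q)) (hG : ∀ g, IsMono g → g ∈ X) (hX : ∃ g ∈ X, ¬ IsMono g) : X = ⊤ := by
  by_cases h8 : 8 ≤ n
  · exact frame_top hF h8 X hG hX
  by_cases hn6 : n = 6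
  · obtain ⟨h2, hq2⟩ := h6 hn6
    rcases cases_q hF with rfl | ⟨h2, hq⟩ | ⟨h2', hq⟩
    · exact absurd rfl hq2
    · exact EvenFrame.eq_top_even hF h2 hG hq hn hX
    · exact absurd h2 h2'
  · refine frame_top_odd hF hn ?_ X hG hX
    rcases (show n = 5 ∨ n = 7 by omega) with rfl | rfl <;> decide

/-- **Stabilisers of orthonormal frames are maximal in `SU_n(q)`**: `n = 5` or `n ≥ 7`, all `q`; `n = 6` for
`q ≥ 4` even. -/
theorem frame_maximal_all (hF : Fintype.card F = q ^ 2) (hn : 5 ≤ n)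
    (h6 : n = 6 → (2 : F) = 0 ∧ q ≠ 2) (D : Fin t → Submodule F (Fin n → F))
    (hD : Cfsg.Geo.IsNondegenerateMDecomposition (Cfsg.hermForm n F q) 1 D) :
    Cfsg.Geo.IsMaximalIn (Cfsg.GU n F q ⊓ Cfsg.Geo.specialLinear (Fin n) F)
      (Cfsg.Geo.decompositionStabilizer D ⊓ (Cfsg.GU n F q ⊓ Cfsg.Geo.specialLinear (Fin n) F)) :=
  frame_maximal hF (by omega) D hD (frame_top_all hF hn h6)

end Cfsg.Agent.H876.FrameMax
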