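import Cfsg.Agent.H876.ODec

/-!
# `SU_n(q)`: stabilisers of orthogonal decompositions into spaces of dimension `k ≥ 2` are maximal
-/

set_option autoImplicit false
open Cfsg
open scoped Matrix MatrixGroups

namespace Cfsg.Agent.H876

open Cfsg.Agent.LieClassical.HermBasic Cfsg.Agent.ClassicalGeometry.UnitTransv
open Cfsg.Agent.ClassicalGeometry.HermOrtho

variable {F : Type*} [Field F] [Fintype F] {n q t : ℕ}

theorem exists_smul_norm (hF : Fintype.card F = q ^ 2) {z : Fin n → F} (hz : hermForm n F q z z ≠ 0)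
    {ν : F} (hν : ν ^ q = ν) : ∃ l : F, hermForm n F q (l • z) (l • z) = ν := by
  obtain ⟨l, hl⟩ := exists_norm_eq hF (c := ν / hermForm n F q z z)
    (by rw [div_pow, herm_self_pow hF, hν])
  refine ⟨l, ?_⟩
  rw [herm_smul_left, herm_smul_right, ← mul_assoc, hl, div_mul_cancel₀ _ hz]

/-- a vector with given product with `u` and given norm. -/
theorem exists_vec (hF : Fintype.card F = q ^ 2) {W : Submodule F (Fin n → F)} (hW : Nd q W)
    (h2 : 2 ≤ Module.finrank F W) {u : Fin n → F} (hu : u ∈ W) (hu0 : u ≠ 0) {β ν : F} (hν : ν ^ q = ν)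
    (hd : hermForm n F q u u = 0 → β = 0 → 3 ≤ Module.finrank F W) :
    ∃ y ∈ W, hermForm n F q u y = β ∧ hermForm n F q y y = ν := by
  by_cases huu : hermForm n F q u u = 0
  swap
  · obtain ⟨z, hz, hzu, hzz⟩ := exists_noniso_perp_two hF hW h2 hu huu
    set α := (β / hermForm n F q u u) ^ q with hα
    obtain ⟨l, hl⟩ := exists_smul_norm hF hzz (ν := ν - α * α ^ q * hermForm n F q u u) (by
      rw [sub_pow_q hF, mul_pow, norm_pow_q hF, herm_self_pow hF, hν])
    have huz : hermForm n F q u z = 0 := herm_eq_zero_swap hF hzu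
    refine ⟨α • u + l • z, W.add_mem (W.smul_mem _ hu) (W.smul_mem _ hz), ?_, ?_⟩
    · rw [herm_add_right hF, herm_smul_right, herm_smul_right, huz, mul_zero, add_zero, hα, pow_q_pow_q hF,
        div_mul_cancel₀ _ huu]
    · rw [herm_add_left, herm_add_right hF, herm_add_right hF, hl, herm_smul_left, herm_smul_right,
        herm_smul_left, herm_smul_right, huz, herm_smul_left, herm_smul_right, hzu]
      ring
  · by_cases hβ : β = 0
    · obtain ⟨z, hz, hzu, hzz⟩ := exists_noniso_perp hF hW (hd huu hβ) hu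
      obtain ⟨l, hl⟩ := exists_smul_norm hF hzz hν
      refine ⟨l • z, W.smul_mem _ hz, ?_, hl⟩
      rw [herm_smul_right, herm_eq_zero_swap hF hzu, mul_zero, hβ]
    · obtain ⟨y0, hy0, huy⟩ : ∃ y ∈ W, hermForm n F q u y ≠ 0 := by
        by_contra hcon
        push Not at hcon
        exact hu0 (hW u hu hcon)
      set c := (β / hermForm n F q u y0) ^ q with hc
      have h1 : hermForm n F q u (c • y0) = β := by
        rw [herm_smul_right, hc, pow_q_pow_q hF, div_mul_cancel₀ _ huy]
      obtain ⟨μ, hμ⟩ := exists_iso_add hF (x := c • y0) huu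
        (fun h => hβ (by rw [← h1]; exact herm_eq_zero_swap hF h)) hν
      refine ⟨_, W.add_mem (W.smul_mem _ hy0) (W.smul_mem μ hu), ?_, hμ⟩
      rw [herm_add_right hF, h1, herm_smul_right, huu, mul_zero, add_zero]

theorem exists_iso_nonorth (hF : Fintype.card F = q ^ 2) {W : Submodule F (Fin n → F)} (hW : Nd q W)
    (h2 : 2 ≤ Module.finrank F W) {u : Fin n → F} (hu : u ∈ W) (hu0 : u ≠ 0) :
    ∃ y ∈ W, hermForm n F q y y = 0 ∧ hermForm n F q u y ≠ 0 := by
  obtain ⟨y, hy, h1, h3⟩ := exists_vec hF hW h2 hu hu0 (β := 1) (ν := 0) (zero_pow_q hF)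
    (fun _ h => absurd h one_ne_zero)
  exact ⟨y, hy, h3, by rw [h1]; exact one_ne_zero⟩

theorem exists_fixed_ne (hF : Fintype.card F = q ^ 2) (hq : 3 ≤ q) (r : F) :
    ∃ l : F, l ^ q = l ∧ l ≠ 0 ∧ l ≠ r := by
  classical
  by_contra hcon
  push Not at hcon
  have h1 := card_fixed hF
  have h2 : Nat.card {x : F // x ^ q = x} ≤ 2 := by
    have h3 : Function.Injective (fun x : {x : F // x ^ q = x} => (⟨x.1, by
      by_cases h0 : x.1 = 0
      · simp [h0]
      · simp [hcon x.1 x.2 h0]⟩ : ({0, r} : Finset F))) := by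
      intro x y hxy
      exact Subtype.ext (Subtype.mk.inj hxy)
    have h4 := Nat.card_le_card_of_injective _ h3
    refine h4.trans ?_
    rw [Nat.card_eq_fintype_card, Fintype.card_coe]
    exact Finset.card_le_two
  omega

theorem exists_trace_zero_ne' (hF : Fintype.card F = q ^ 2) (hq : 3 ≤ q) (r : F) :
    ∃ x : F, x ≠ 0 ∧ x + x ^ q = 0 ∧ x ≠ r := by
  obtain ⟨c, hc0, hc⟩ := exists_trace_zero_ne hF
  obtain ⟨l, hl, hl0, hlr⟩ := exists_fixed_ne hF hq (r / c)
  refine ⟨l * c, mul_ne_zero hl0 hc0, ?_, ?_⟩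
  · rw [mul_pow, hl]; linear_combination l * hc
  · intro h
    apply hlr
    rw [← h, mul_div_cancel_right₀ _ hc0]

variable {D : Fin t → Submodule F (Fin n → F)} {π : Fin t → (Fin n → F) →ₗ[F] (Fin n → F)}
  {M : Subgroup (GL (Fin n) F)} {k : ℕ}

/-- all isotropic vectors of `D i ⊥ D j` are root vectors. -/
def HP (q : ℕ) (D : Fin t → Submodule F (Fin n → F)) (M : Subgroup (GL (Fin n) F)) (i j : Fin t) : Prop :=
  ∀ w ∈ D i, ∀ u ∈ D j, hermForm n F q w w + hermForm n F q u u = 0 → InS q M (w + u)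

/-- the ambient situation. -/
structure Amb (q k : ℕ) (D : Fin t → Submodule F (Fin n → F))
    (π : Fin t → (Fin n → F) →ₗ[F] (Fin n → F)) (M : Subgroup (GL (Fin n) F)) : Prop where
  hF : Fintype.card F = q ^ 2
  od : OD q D π
  hk : ∀ i, Module.finrank F (D i) = k
  hHM : Geo.decompositionStabilizer D ⊓ (GU n F q ⊓ Geo.specialLinear (Fin n) F) ≤ M
  hMG : M ≤ GU n F q ⊓ Geo.specialLinear (Fin n) F

theorem Amb.inS_of_mem (A : Amb q k D π M) {i : Fin t} {v : Fin n → F} (hv : v ∈ D i)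
    (hvv : hermForm n F q v v = 0) : InS q M v := by
  refine inS_of_forall A.hF hvv fun c hc => A.hHM ?_
  refine mem_H_of A.hk (uGL_mem A.hF hvv hc) 1 fun l x hx => ?_
  rw [uGL_mulVec, Equiv.Perm.one_apply]
  by_cases hl : l = i
  · subst hl
    exact (D l).add_mem hx ((D l).smul_mem _ hv)
  · rw [A.od.orth l i hl x hx v hv, mul_zero, zero_smul, add_zero]
    exact hx

theorem Amb.exists_z (A : Amb q k D π M) (hk2 : 2 ≤ k) (htk : 3 ≤ t ∨ 3 ≤ k) {i j : Fin t} (hij : i ≠ j)
    {w u : Fin n → F} (hw : w ∈ D i) (hu : u ∈ D j) :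
    ∃ l, ∃ z ∈ D l, hermForm n F q z z ≠ 0 ∧ hermForm n F q (w + u) z = 0 := by
  rcases htk with ht | hk
  · obtain ⟨l, hl⟩ : ∃ l : Fin t, l ∉ ({i, j} : Finset (Fin t)) := by
      by_contra hcon
      push Not at hcon
      have h1 : (Finset.univ : Finset (Fin t)) ⊆ {i, j} := fun l _ => hcon l
      have h2 := Finset.card_le_card h1
      rw [Finset.card_univ, Fintype.card_fin, Finset.card_pair hij] at h2
      omega
    simp only [Finset.mem_insert, Finset.mem_singleton, not_or] at hl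
    have hl0 : D l ≠ ⊥ := by
      intro h0
      have := A.hk l
      rw [h0, finrank_bot] at this
      omega
    obtain ⟨z, hz, hzz⟩ := exists_norm_one_vector A.hF (D l) (A.od.nd l) hl0
    refine ⟨l, z, hz, by rw [hzz]; exact one_ne_zero, ?_⟩
    rw [herm_add_left, A.od.orth i l (Ne.symm hl.1) w hw z hz, A.od.orth j l (Ne.symm hl.2) u hu z hz,
      add_zero]
  · obtain ⟨z, hz, hzw, hzz⟩ := exists_noniso_perp A.hF (A.od.nd i) (by rw [A.hk]; exact hk) hw
    refine ⟨i, z, hz, hzz, ?_⟩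
    rw [herm_add_left, herm_eq_zero_swap A.hF hzw, A.od.orth j i (Ne.symm hij) u hu z hz, add_zero]

theorem Amb.pair_move1 (A : Amb q k D π M) (hk2 : 2 ≤ k) (htk : 3 ≤ t ∨ 3 ≤ k) {i j : Fin t} (hij : i ≠ j)
    {w w' u : Fin n → F} (hw : w ∈ D i) (hw' : w' ∈ D i) (hu : u ∈ D j) (hw0 : w ≠ 0) (hw0' : w' ≠ 0)
    (hn : hermForm n F q w w = hermForm n F q w' w') (h : InS q M (w + u)) : InS q M (w' + u) := by
  obtain ⟨l, z, hz, hzz, hwz⟩ := A.exists_z hk2 htk hij hw' hu
  have h1 : π i (w + u) = w := by rw [map_add, A.od.fix hw, A.od.zero hij hu, add_zero]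
  have h2 : w + u - π i (w + u) + w' = w' + u := by rw [h1]; abel
  obtain ⟨g, hg, hgx⟩ := A.od.move1 A.hF A.hk (i := i) (x := w + u) hw' (by rw [h1]; exact hw0) hw0'
    (by rw [h1]; exact hn) hz hzz (by rw [h2]; exact hwz)
  rw [h2] at hgx
  rw [← hgx]
  exact InS.map (A.hHM hg) hg.2.1 h

theorem Amb.pair_move (A : Amb q k D π M) (hk2 : 2 ≤ k) (htk : 3 ≤ t ∨ 3 ≤ k) {i j : Fin t} (hij : i ≠ j)
    {w w' u u' : Fin n → F} (hw : w ∈ D i) (hw' : w' ∈ D i) (hu : u ∈ D j) (hu' : u' ∈ D j)
    (hw0 : w ≠ 0) (hw0' : w' ≠ 0) (hu0 : u ≠ 0) (hu0' : u' ≠ 0)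
    (hn : hermForm n F q w w = hermForm n F q w' w') (hn' : hermForm n F q u u = hermForm n F q u' u')
    (h : InS q M (w + u)) : InS q M (w' + u') := by
  have h1 := A.pair_move1 hk2 htk hij hw hw' hu hw0 hw0' hn h
  rw [add_comm] at h1 ⊢
  exact A.pair_move1 hk2 htk (Ne.symm hij) hu hu' hw' hu0 hu0' hn' h1

omit [Fintype F] in
theorem ne_zero_of_norm {x : Fin n → F} (hx : hermForm n F q x x ≠ 0) : x ≠ 0 := by
  rintro rfl
  exact hx (herm_zero_left _)

theorem trace_one_ne_zero (hF : Fintype.card F = q ^ 2) {c : F} (hc : c + c ^ q = 1) : c ≠ 0 := by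
  rintro rfl
  rw [zero_pow_q hF, add_zero] at hc
  exact zero_ne_one hc

/-- all pairs from one pair of isotropic vectors. -/
theorem Amb.hp_of_iso (A : Amb q k D π M) (hk2 : 2 ≤ k) (htk : 3 ≤ t ∨ 3 ≤ k) {i j : Fin t} (hij : i ≠ j)
    {w u : Fin n → F} (hw : w ∈ D i) (hu : u ∈ D j) (hw0 : w ≠ 0) (hu0 : u ≠ 0)
    (hww : hermForm n F q w w = 0) (huu : hermForm n F q u u = 0) (h : InS q M (w + u)) :
    HP q D M i j := by
  have hF := A.hF
  have hperp := A.od.orth i j hij
  have hperp' := A.od.orth j i (Ne.symm hij)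
  intro w' hw' u' hu' hs'
  by_cases hww' : hermForm n F q w' w' = 0
  · have huu' : hermForm n F q u' u' = 0 := by linear_combination hs' - hww'
    by_cases hw0' : w' = 0
    · subst hw0'; rw [zero_add]; exact A.inS_of_mem hu' huu'
    by_cases hu0' : u' = 0
    · subst hu0'; rw [add_zero]; exact A.inS_of_mem hw' hww'
    exact A.pair_move hk2 htk hij hw hw' hu hu' hw0 hw0' hu0 hu0' (by rw [hww, hww']) (by rw [huu, huu']) h
  · have huu' : hermForm n F q u' u' ≠ 0 := by
      intro h0; apply hww'; linear_combination hs' - h0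
    obtain ⟨c, d, hc, hd, hcd⟩ := exists_two_trace_one hF
    obtain ⟨w1, hw1, hw11, hw1'⟩ := exists_iso_split hF (A.od.nd i) (by rw [A.hk]; exact hk2) hw' hww' c
    obtain ⟨u1, hu1, hu11, hu1'⟩ := exists_iso_split hF (A.od.nd j) (by rw [A.hk]; exact hk2) hu' huu' d
    have hw10 : w1 ≠ 0 := by
      rintro rfl; rw [herm_zero_left] at hw1'
      exact mul_ne_zero (trace_one_ne_zero hF hc) hww' hw1'.symm
    have hu10 : u1 ≠ 0 := by
      rintro rfl; rw [herm_zero_left] at hu1'
      exact mul_ne_zero (trace_one_ne_zero hF hd) huu' hu1'.symm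
    have hw2 := herm_sub_self_iso hF hw11 hw1' hc
    have hu2 := herm_sub_self_iso hF hu11 hu1' hd
    have hw20 : w' - w1 ≠ 0 := by
      intro h0; apply hww'; rw [sub_eq_zero.1 h0]; exact hw11
    have hu20 : u' - u1 ≠ 0 := by
      intro h0; apply huu'; rw [sub_eq_zero.1 h0]; exact hu11
    have h1 : InS q M (w1 + u1) := A.pair_move hk2 htk hij hw hw1 hu hu1 hw0 hw10 hu0 hu10
      (by rw [hww, hw11]) (by rw [huu, hu11]) h
    have h2 : InS q M ((w' - w1) + (u' - u1)) := A.pair_move hk2 htk hij hw ((D i).sub_mem hw' hw1) hu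
      ((D j).sub_mem hu' hu1) hw0 hw20 hu0 hu20 (by rw [hww, hw2]) (by rw [huu, hu2]) h
    have h6 : (1 : F) • (w1 + u1) + (1 : F) • ((w' - w1) + (u' - u1)) = w' + u' := by
      rw [one_smul, one_smul]; abel
    have h3 := InS.line hF h1 h2 (by
      rw [herm_add_left, herm_add_right hF, herm_add_right hF, hperp w1 hw1 _ ((D j).sub_mem hu' hu1),
        hperp' u1 hu1 _ ((D i).sub_mem hw' hw1), herm_sub_right hF, herm_sub_right hF, hw11, hu11, hw1', hu1']
      intro h0
      apply hcd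
      have h5 : (c - d) * hermForm n F q w' w' = 0 := by linear_combination h0 - d * hs'
      exact sub_eq_zero.1 ((mul_eq_zero.1 h5).resolve_right hww')) 1 1 (by
      rw [h6, herm_add_left, herm_add_right hF, herm_add_right hF, hperp w' hw' u' hu',
        hperp' u' hu' w' hw']
      linear_combination hs')
    rwa [h6] at h3

/-- all pairs from one pair of non-isotropic vectors. -/
theorem Amb.hp_of_one (A : Amb q k D π M) (hk3 : 3 ≤ k) {i j : Fin t} (hij : i ≠ j)
    {w u : Fin n → F} (hw : w ∈ D i) (hu : u ∈ D j) (hww : hermForm n F q w w ≠ 0)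
    (h : InS q M (w + u)) : HP q D M i j := by
  have hF := A.hF
  have hperp := A.od.orth i j hij
  have hperp' := A.od.orth j i (Ne.symm hij)
  have hs : hermForm n F q w w + hermForm n F q u u = 0 := by
    have h1 := h.iso
    rw [herm_add_left, herm_add_right hF, herm_add_right hF, hperp w hw u hu, hperp' u hu w hw] at h1
    linear_combination h1
  have huu : hermForm n F q u u ≠ 0 := by
    intro h0; apply hww; linear_combination hs - h0
  have hall : ∀ w' ∈ D i, ∀ u' ∈ D j, hermForm n F q w' w' ≠ 0 →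
      hermForm n F q w' w' + hermForm n F q u' u' = 0 → InS q M (w' + u') := by
    intro w' hw' u' hu' hww' hs'
    have huu' : hermForm n F q u' u' ≠ 0 := by
      intro h0; apply hww'; linear_combination hs' - h0
    obtain ⟨l, hl0, hl⟩ := exists_norm_eq_ne hF (c := hermForm n F q w' w' / hermForm n F q w w)
      (by rw [div_pow, herm_self_pow hF, herm_self_pow hF]) (div_ne_zero hww' hww)
    have h1 := InS.smul hF h l
    rw [smul_add] at h1
    have e0 : l * l ^ q * hermForm n F q w w = hermForm n F q w' w' := by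
      rw [hl, div_mul_cancel₀ _ hww]
    have e1 : hermForm n F q (l • w) (l • w) = hermForm n F q w' w' := by
      rw [herm_smul_left, herm_smul_right]
      linear_combination e0
    have e2 : hermForm n F q (l • u) (l • u) = hermForm n F q u' u' := by
      rw [herm_smul_left, herm_smul_right]
      linear_combination -e0 + (l * l ^ q) * hs - hs'
    exact A.pair_move (by omega) (Or.inr hk3) hij ((D i).smul_mem _ hw) hw' ((D j).smul_mem _ hu) hu'
      (smul_ne_zero hl0 (ne_zero_of_norm hww)) (ne_zero_of_norm hww')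
      (smul_ne_zero hl0 (ne_zero_of_norm huu)) (ne_zero_of_norm huu') e1 e2 h1
  intro w' hw' u' hu' hs'
  by_cases hww' : hermForm n F q w' w' = 0
  swap
  · exact hall w' hw' u' hu' hww' hs'
  have huu' : hermForm n F q u' u' = 0 := by linear_combination hs' - hww'
  by_cases hw0' : w' = 0
  · subst hw0'; rw [zero_add]; exact A.inS_of_mem hu' huu'
  obtain ⟨α, hα0, hα⟩ := exists_trace_zero_ne hF
  obtain ⟨w1, hw1, hw1w', hw11⟩ := exists_vec hF (A.od.nd i) (by rw [A.hk]; omega) hw' hw0' (β := α) (ν := 1)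
    (one_pow q) (fun _ h => absurd h hα0)
  have hw'w1 : hermForm n F q w1 w' = α ^ q := by rw [herm_swap hF w' w1, hw1w']
  obtain ⟨z, hz, hzu, hzz⟩ := exists_noniso_perp hF (A.od.nd j) (by rw [A.hk]; exact hk3) hu'
  obtain ⟨l, hl⟩ := exists_smul_norm hF hzz (ν := -1) (by rw [neg_pow_q hF, one_pow])
  have hu1u : hermForm n F q (l • z) u' = 0 := by rw [herm_smul_left, hzu, mul_zero]
  have huu1 : hermForm n F q u' (l • z) = 0 := herm_eq_zero_swap hF hu1u
  have hu1U : l • z ∈ D j := (D j).smul_mem _ hz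
  have h1 : InS q M (w1 + l • z) := hall w1 hw1 (l • z) hu1U (by rw [hw11]; exact one_ne_zero)
    (by rw [hw11, hl]; ring)
  have e3 : hermForm n F q (w1 - w') (w1 - w') = 1 := by
    rw [herm_sub_left, herm_sub_right hF, herm_sub_right hF, hw11, hw1w', hw'w1, hww']
    linear_combination -hα
  have e4 : hermForm n F q (l • z - u') (l • z - u') = -1 := by
    rw [herm_sub_left, herm_sub_right hF, herm_sub_right hF, hl, hu1u, huu1, huu']
    ring
  have h2 : InS q M ((w1 - w') + (l • z - u')) := hall _ ((D i).sub_mem hw1 hw') _ ((D j).sub_mem hu1U hu')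
    (by rw [e3]; exact one_ne_zero) (by rw [e3, e4]; ring)
  have h6 : (1 : F) • (w1 + l • z) + (-1 : F) • ((w1 - w') + (l • z - u')) = w' + u' := by
    rw [one_smul, neg_one_smul]; abel
  have h3 := InS.line hF h1 h2 (by
    rw [herm_add_left, herm_add_right hF, herm_add_right hF, hperp w1 hw1 _ ((D j).sub_mem hu1U hu'),
      hperp' _ hu1U _ ((D i).sub_mem hw1 hw'), herm_sub_right hF, herm_sub_right hF, hw11, hl, hw'w1, hu1u]
    intro h0
    apply pow_ne_zero q hα0
    linear_combination -h0) 1 (-1) (by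
      rw [h6, herm_add_left, herm_add_right hF, herm_add_right hF, hperp w' hw' u' hu',
        hperp' u' hu' w' hw']
      linear_combination hs')
  rwa [h6] at h3

/-- a root vector with two non-zero components. -/
theorem Amb.exists_two (A : Amb q k D π M) (hk2 : 2 ≤ k)
    (hM : ∃ g ∈ M, g ∉ Geo.decompositionStabilizer D ⊓ (GU n F q ⊓ Geo.specialLinear (Fin n) F)) :
    ∃ x, InS q M x ∧ ∃ i j, i ≠ j ∧ π i x ≠ 0 ∧ π j x ≠ 0 := by
  have hF := A.hF
  by_contra hcon
  push Not at hcon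
  obtain ⟨g, hgM, hgn⟩ := hM
  have hgG := A.hMG hgM
  have hg : g ∈ GU n F q := hgG.1
  have hS : ∀ x, InS q M x → x ≠ 0 → ∃ i, x ∈ D i := by
    intro x hx hx0
    obtain ⟨i, hi⟩ : ∃ i, π i x ≠ 0 := by
      by_contra hc
      push Not at hc
      apply hx0
      rw [← A.od.sum x]
      exact Finset.sum_eq_zero fun i _ => hc i
    exact ⟨i, A.od.mem_of fun j hj => hcon x hx i j (Ne.symm hj) hi⟩
  have key : ∀ i, ∃ j, ∀ x ∈ D i, (g : Matrix (Fin n) (Fin n) F) *ᵥ x ∈ D j := by
    intro i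
    have hi0 : D i ≠ ⊥ := by
      intro h0
      have := A.hk i
      rw [h0, finrank_bot] at this
      omega
    obtain ⟨z, hz, hz0⟩ := Submodule.exists_mem_ne_zero_of_ne_bot hi0
    obtain ⟨a, ha, haa, hza⟩ := exists_iso_nonorth hF (A.od.nd i) (by rw [A.hk]; exact hk2) hz hz0
    have ha0 : a ≠ 0 := by
      rintro rfl; exact hza (herm_zero_right hF _)
    obtain ⟨j, hj⟩ := hS _ (InS.map hgM hg (A.inS_of_mem ha haa)) (mulVec_ne_zero g ha0)
    refine ⟨j, forall_of_iso hF (A.od.nd i) (by rw [A.hk]; exact hk2) g fun b hb hbb => ?_⟩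
    by_cases hb0 : b = 0
    · subst hb0; rw [Matrix.mulVec_zero]; exact (D j).zero_mem
    obtain ⟨j', hj'⟩ := hS _ (InS.map hgM hg (A.inS_of_mem hb hbb)) (mulVec_ne_zero g hb0)
    by_cases hjj : j = j'
    · rw [hjj]; exact hj'
    exfalso
    have hab : hermForm n F q a b = 0 := by
      rw [← herm_gl hg]; exact A.od.orth j j' hjj _ hj _ hj'
    have hsum : hermForm n F q (a + b) (a + b) = 0 := by
      rw [herm_add_left, herm_add_right hF, herm_add_right hF, haa, hbb, hab, herm_eq_zero_swap hF hab]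
      ring
    have h1 := InS.map hgM hg (A.inS_of_mem ((D i).add_mem ha hb) hsum)
    rw [Matrix.mulVec_add] at h1
    have h2 := hcon _ h1 j j' hjj (by
      rw [map_add, A.od.fix hj, A.od.zero hjj hj', add_zero]
      exact mulVec_ne_zero g ha0)
    rw [map_add, A.od.fix hj', A.od.zero (Ne.symm hjj) hj, zero_add] at h2
    exact mulVec_ne_zero g hb0 h2
  choose σ hσ using key
  have hmap : ∀ i, (D i).map (Matrix.toLin' (g : Matrix (Fin n) (Fin n) F)) = D (σ i) := by
    intro i
    apply Submodule.eq_of_le_of_finrank_eq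
    · rintro _ ⟨x, hx, rfl⟩
      exact hσ i x hx
    · rw [A.hk, ← A.hk i]
      refine (Submodule.equivMapOfInjective _ ?_ (D i)).symm.finrank_eq
      intro x y hxy
      have h1 : (g : Matrix (Fin n) (Fin n) F) *ᵥ x = (g : Matrix (Fin n) (Fin n) F) *ᵥ y := hxy
      rw [← inv_mulVec_cancel g x, h1, inv_mulVec_cancel]
  have hinj : Function.Injective σ := by
    intro i i' hii
    by_contra hne
    have hi0 : D i ≠ ⊥ := by
      intro h0
      have := A.hk i
      rw [h0, finrank_bot] at this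
      omega
    obtain ⟨z, hz, hz0⟩ := Submodule.exists_mem_ne_zero_of_ne_bot hi0
    have h1 := hσ i z hz
    rw [hii, ← hmap i'] at h1
    obtain ⟨y, hy, hyz⟩ := h1
    have h2 : (g : Matrix (Fin n) (Fin n) F) *ᵥ y = (g : Matrix (Fin n) (Fin n) F) *ᵥ z := hyz
    have h3 : y = z := by rw [← inv_mulVec_cancel g y, h2, inv_mulVec_cancel]
    rw [h3] at hy
    apply hz0
    rw [← A.od.fix hz, A.od.zero hne hy]
  exact hgn (mem_H_of A.hk hgG (Equiv.ofBijective σ (Finite.injective_iff_bijective.1 hinj)) fun i x hx => hσ i x hx)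

/-- step 2 for `q ≥ 3`. -/
theorem Amb.exists_hp (A : Amb q k D π M) (hk2 : 2 ≤ k) (htk : 3 ≤ t ∨ 3 ≤ k) (hq : 3 ≤ q) {i j : Fin t}
    (hij : i ≠ j) {x : Fin n → F} (hx : InS q M x) (hxi : π i x ≠ 0) (hxj : π j x ≠ 0) :
    HP q D M i j := by
  have hF := A.hF
  obtain ⟨a, ha, haa, hxa'⟩ := exists_iso_nonorth hF (A.od.nd i) (by rw [A.hk]; exact hk2) (A.od.mem i x) hxi
  obtain ⟨b, hb, hbb, hxb'⟩ := exists_iso_nonorth hF (A.od.nd j) (by rw [A.hk]; exact hk2) (A.od.mem j x) hxj
  rw [A.od.herm i x a ha] at hxa'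
  rw [A.od.herm j x b hb] at hxb'
  have hab : hermForm n F q a b = 0 := A.od.orth i j hij a ha b hb
  obtain ⟨c, hc0, hc⟩ := exists_trace_zero_ne hF
  have hNb : hermForm n F q x b * hermForm n F q x b ^ q ≠ 0 := mul_ne_zero hxb' (pow_ne_zero _ hxb')
  obtain ⟨l, hl, hl0, hlr⟩ := exists_fixed_ne hF hq
    (-(hermForm n F q x a * hermForm n F q x a ^ q) / (hermForm n F q x b * hermForm n F q x b ^ q))
  have hlc : l * c + (l * c) ^ q = 0 := by
    rw [mul_pow, hl]; linear_combination l * hc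
  have h1 := InS.map (InS.uGL_mem' hF (A.inS_of_mem ha haa) hc) (uGL_mem hF haa hc).1 hx
  have h2 := InS.map (InS.uGL_mem' hF (A.inS_of_mem hb hbb) hlc) (uGL_mem hF hbb hlc).1 h1
  rw [uGL_mulVec, uGL_mulVec, herm_add_left, herm_smul_left, hab, mul_zero, add_zero] at h2
  set v := (c * hermForm n F q x a) • a with hv
  set v' := (l * c * hermForm n F q x b) • b with hv'
  have hvi : v ∈ D i := (D i).smul_mem _ ha
  have hvj : v' ∈ D j := (D j).smul_mem _ hb
  have hv0 : v ≠ 0 := smul_ne_zero (mul_ne_zero hc0 hxa') (by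
    rintro rfl; exact hxa' (herm_zero_right hF _))
  have hv0' : v' ≠ 0 := smul_ne_zero (mul_ne_zero (mul_ne_zero hl0 hc0) hxb') (by
    rintro rfl; exact hxb' (herm_zero_right hF _))
  have hvv : hermForm n F q v v = 0 := by
    rw [hv, herm_smul_left, herm_smul_right, haa, mul_zero, mul_zero]
  have hvv' : hermForm n F q v' v' = 0 := by
    rw [hv', herm_smul_left, herm_smul_right, hbb, mul_zero, mul_zero]
  have hne : hermForm n F q x (x + v + v') ≠ 0 := by
    rw [herm_add_right hF, herm_add_right hF, hx.iso, hv, hv', herm_smul_right, herm_smul_right]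
    intro h0
    apply hlr
    rw [eq_div_iff hNb]
    have hcq : c ^ q = -c := by linear_combination hc
    rw [mul_pow, mul_pow, mul_pow, hl, hcq] at h0
    have h5 : c * (l * (hermForm n F q x b * hermForm n F q x b ^ q) +
        hermForm n F q x a * hermForm n F q x a ^ q) = 0 := by linear_combination -h0
    have h6 := (mul_eq_zero.1 h5).resolve_left hc0
    linear_combination h6
  have h6 : (-1 : F) • x + (1 : F) • (x + v + v') = v + v' := by
    rw [one_smul, neg_one_smul]; abel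
  have h3 := InS.line hF hx h2 hne (-1) 1 (by
    rw [h6, herm_add_left, herm_add_right hF, herm_add_right hF, hvv, hvv', A.od.orth i j hij v hvi v' hvj,
      A.od.orth j i (Ne.symm hij) v' hvj v hvi]
    ring)
  rw [h6] at h3
  exact A.hp_of_iso hk2 htk hij hvi hvj hv0 hv0' hvv hvv' h3

/-- step 2 for `q = 2`. -/
theorem Amb.exists_hp' (A : Amb q k D π M) (hk3 : 3 ≤ k) (hq : q = 2) {i j : Fin t}
    (hij : i ≠ j) {x : Fin n → F} (hx : InS q M x) (hxi : π i x ≠ 0) (hxj : π j x ≠ 0) :
    HP q D M i j := by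
  subst hq
  have hF := A.hF
  have h2 : (2 : F) = 0 := by
    have h1 : ((Fintype.card F : ℕ) : F) = 0 := FiniteField.cast_card_eq_zero F
    rw [hF] at h1
    push_cast at h1
    exact mul_self_eq_zero.1 (by linear_combination h1)
  obtain ⟨c, hc⟩ := exists_trace_eq hF (c := (1 : F)) (one_pow 2)
  have hc' : (1 + c) + (1 + c) ^ 2 = 1 := by linear_combination hc + (1 + c) * h2
  -- a move of one component
  have hmv : ∀ (l : Fin t) (x : Fin n → F), InS 2 M x → π l x ≠ 0 → ∀ c : F, c + c ^ 2 = 1 →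
      ∃ y ∈ D l, hermForm n F 2 (π l x) y = c ∧ hermForm n F 2 y y = 1 ∧ InS 2 M (x + y) := by
    intro l x hx hxl c hc
    obtain ⟨y, hy, hxy, hyy⟩ := exists_vec hF (A.od.nd l) (by rw [A.hk]; omega) (A.od.mem l x) hxl (β := c)
      (ν := 1) (one_pow 2) (fun _ h => absurd h (trace_one_ne_zero hF hc))
    refine ⟨y, hy, hxy, hyy, ?_⟩
    have hyx : hermForm n F 2 y (π l x) = c ^ 2 := by rw [herm_swap hF (π l x) y, hxy]
    have hw' : π l x + y ∈ D l := (D l).add_mem (A.od.mem l x) hy
    have hn : hermForm n F 2 (π l x) (π l x) = hermForm n F 2 (π l x + y) (π l x + y) := by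
      rw [herm_add_left, herm_add_right hF, herm_add_right hF, hxy, hyx, hyy]
      linear_combination -hc - h2
    have h0 : π l x + y ≠ 0 := by
      intro h0
      have h1 : y = -π l x := by rw [← add_eq_zero_iff_eq_neg']; exact h0
      have h3 : c = - hermForm n F 2 (π l x) (π l x) := by rw [← hxy, h1, herm_neg_right hF]
      have h4 : c ^ 2 = c := by rw [h3, neg_pow_q hF, herm_self_pow hF]
      rw [h4] at hc
      have : (1 : F) = 0 := by linear_combination -hc + c * h2
      exact one_ne_zero this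
    obtain ⟨z, hz, hzw, hzz⟩ := exists_noniso_perp hF (A.od.nd l) (by rw [A.hk]; exact hk3) hw'
    obtain ⟨g, hg, hgx⟩ := A.od.move1 hF A.hk (x := x) hw' hxl h0 hn hz hzz (by
      rw [herm_add_left, herm_eq_zero_swap hF hzw, herm_sub_left, A.od.herm l x z hz]
      ring)
    have h5 : x - π l x + (π l x + y) = x + y := by abel
    rw [h5] at hgx
    rw [← hgx]
    exact InS.map (A.hHM hg) hg.2.1 hx
  obtain ⟨y, hy, hxy, hyy, h1⟩ := hmv i x hx hxi c hc
  have hπ : π j (x + y) = π j x := by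
    rw [map_add, A.od.zero (Ne.symm hij) hy, add_zero]
  obtain ⟨y', hy', hxy', hyy', h3⟩ := hmv j (x + y) h1 (by rw [hπ]; exact hxj) (1 + c) hc'
  rw [hπ] at hxy'
  rw [A.od.herm i x y hy] at hxy
  rw [A.od.herm j x y' hy'] at hxy'
  have h6 : (1 : F) • x + (1 : F) • (x + y + y') = y + y' := by
    rw [one_smul, one_smul]
    have : x + (x + y + y') = (2 : F) • x + (y + y') := by rw [two_smul]; abel
    rw [this, h2, zero_smul, zero_add]
  have h7 := InS.line hF hx h3 (by
    rw [herm_add_right hF, herm_add_right hF, hx.iso, hxy, hxy']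
    intro h0
    have : (1 : F) = 0 := by linear_combination h0 - c * h2
    exact one_ne_zero this) 1 1 (by
    rw [h6, herm_add_left, herm_add_right hF, herm_add_right hF, hyy, hyy', A.od.orth i j hij y hy y' hy',
      A.od.orth j i (Ne.symm hij) y' hy' y hy]
    linear_combination h2)
  rw [h6] at h7
  exact A.hp_of_one hk3 hij hy hy' (by rw [hyy]; exact one_ne_zero) h7

theorem exists_perm_two {i0 j0 i j : Fin t} (h0 : i0 ≠ j0) (h : i ≠ j) :
    ∃ σ : Equiv.Perm (Fin t), σ i0 = i ∧ σ j0 = j := by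
  refine ⟨Equiv.swap (Equiv.swap i0 i j0) j * Equiv.swap i0 i, ?_, ?_⟩
  · rw [Equiv.Perm.mul_apply, Equiv.swap_apply_left]
    apply Equiv.swap_apply_of_ne_of_ne
    · intro h1
      apply h0
      have h2 : Equiv.swap i0 i i0 = Equiv.swap i0 i j0 := by rw [Equiv.swap_apply_left]; exact h1
      exact (Equiv.swap i0 i).injective h2
    · exact h
  · rw [Equiv.Perm.mul_apply, Equiv.swap_apply_left]

omit [Fintype F] in
theorem OD.eq_pair (h : OD q D π) {i j : Fin t} (hij : i ≠ j) {x : Fin n → F}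
    (hl : ∀ l, l ≠ i → l ≠ j → π l x = 0) : x = π i x + π j x := by
  classical
  conv_lhs => rw [← h.sum x]
  rw [← Finset.sum_pair (f := fun l => π l x) hij]
  symm
  apply Finset.sum_subset (Finset.subset_univ _)
  intro l _ hl'
  simp only [Finset.mem_insert, Finset.mem_singleton, not_or] at hl'
  exact hl l hl'.1 hl'.2

/-- step 3: all pairs. -/
theorem Amb.hp_all (A : Amb q k D π M) (hk1 : 1 ≤ k) {i0 j0 : Fin t} (h0 : i0 ≠ j0) (h : HP q D M i0 j0)
    (i j : Fin t) (hij : i ≠ j) : HP q D M i j := by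
  have hF := A.hF
  obtain ⟨σ, hσi, hσj⟩ := exists_perm_two h0 hij
  obtain ⟨g, hg, hgσ⟩ := A.od.perm σ
  have hi0 : D i0 ≠ ⊥ := by
    intro h0
    have := A.hk i0
    rw [h0, finrank_bot] at this
    omega
  obtain ⟨z, hz, hzz⟩ := exists_norm_one_vector hF (D i0) (A.od.nd i0) hi0
  obtain ⟨g', hg', hg'σ, -⟩ := A.od.adjust hF A.hk hg σ hgσ hz (by rw [hzz]; exact one_ne_zero)
  intro w hw u hu hs
  set x := ((g'⁻¹ : GL (Fin n) F) : Matrix (Fin n) (Fin n) F) *ᵥ (w + u) with hx
  have hgx : (g' : Matrix (Fin n) (Fin n) F) *ᵥ x = w + u := mulVec_inv_cancel _ _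
  have hxl : ∀ l, l ≠ i0 → l ≠ j0 → π l x = 0 := by
    intro l hl hl'
    refine A.od.nd l _ (A.od.mem l x) fun v hv => ?_
    rw [A.od.herm l x v hv, ← herm_gl hg'.2.1, hgx, herm_add_left]
    have h1 := hg'σ l v hv
    rw [A.od.orth i (σ l) (by rw [← hσi]; exact fun h => hl (σ.injective h).symm) w hw _ h1,
      A.od.orth j (σ l) (by rw [← hσj]; exact fun h => hl' (σ.injective h).symm) u hu _ h1, add_zero]
  have hxe : x = π i0 x + π j0 x := A.od.eq_pair h0 hxl
  have hxx : hermForm n F q x x = 0 := by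
    rw [← herm_gl hg'.2.1, hgx, herm_add_left, herm_add_right hF, herm_add_right hF, A.od.orth i j hij w hw u hu,
      A.od.orth j i (Ne.symm hij) u hu w hw]
    linear_combination hs
  have h1 := h (π i0 x) (A.od.mem _ _) (π j0 x) (A.od.mem _ _) (by
    rw [hxe, herm_add_left, herm_add_right hF, herm_add_right hF,
      A.od.orth i0 j0 h0 _ (A.od.mem _ _) _ (A.od.mem _ _),
      A.od.orth j0 i0 (Ne.symm h0) _ (A.od.mem _ _) _ (A.od.mem _ _)] at hxx
    linear_combination hxx)
  rw [← hxe] at h1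
  rw [← hgx]
  exact InS.map (A.hHM hg') hg'.2.1 h1

open Classical in
/-- step 4: all isotropic vectors. -/
theorem Amb.inS_all (A : Amb q k D π M) (hk2 : 2 ≤ k) (ht : 2 ≤ t) (hkq : 3 ≤ q ∨ 3 ≤ k)
    (h : ∀ i j, i ≠ j → HP q D M i j) : ∀ (m : ℕ) (x : Fin n → F), hermForm n F q x x = 0 →
      (Finset.univ.filter fun i => π i x ≠ 0).card ≤ m → InS q M x := by
  have hF := A.hF
  intro m
  induction m with
  | zero =>
    intro x hx hm
    have h1 := Finset.card_eq_zero.1 (Nat.le_zero.1 hm)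
    have h2 : x = 0 := by
      rw [← A.od.sum x]
      refine Finset.sum_eq_zero fun i _ => ?_
      by_contra h0
      have : i ∈ (Finset.univ.filter fun i => π i x ≠ 0) := Finset.mem_filter.2 ⟨Finset.mem_univ i, h0⟩
      rw [h1] at this
      exact absurd this (Finset.notMem_empty i)
    rw [h2]
    exact A.inS_of_mem (D ⟨0, by omega⟩).zero_mem (herm_zero_left _)
  | succ m ih =>
    intro x hx hm
    by_cases hpair : ∃ i j, i ≠ j ∧ ∀ l, l ≠ i → l ≠ j → π l x = 0
    · obtain ⟨i, j, hij, hl⟩ := hpair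
      have hxe : x = π i x + π j x := A.od.eq_pair hij hl
      rw [hxe]
      refine h i j hij _ (A.od.mem _ _) _ (A.od.mem _ _) ?_
      rw [hxe, herm_add_left, herm_add_right hF, herm_add_right hF,
        A.od.orth i j hij _ (A.od.mem _ _) _ (A.od.mem _ _),
        A.od.orth j i (Ne.symm hij) _ (A.od.mem _ _) _ (A.od.mem _ _)] at hx
      linear_combination hx
    · push Not at hpair
      obtain ⟨i, j, hij, hxi, hxj⟩ : ∃ i j, i ≠ j ∧ π i x ≠ 0 ∧ π j x ≠ 0 := by
        have hne : (⟨0, by omega⟩ : Fin t) ≠ ⟨1, by omega⟩ := by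
          intro h0; exact absurd (congrArg Fin.val h0) (by norm_num)
        obtain ⟨i, -, -, hi⟩ := hpair _ _ hne
        by_cases hi0 : i = ⟨0, by omega⟩
        · obtain ⟨j, hj, -, hj'⟩ := hpair i ⟨1, by omega⟩ (by rw [hi0]; exact hne)
          exact ⟨i, j, Ne.symm hj, hi, hj'⟩
        · obtain ⟨j, hj, -, hj'⟩ := hpair i ⟨0, by omega⟩ hi0
          exact ⟨i, j, Ne.symm hj, hi, hj'⟩
      set ν := hermForm n F q (π i x) (π i x) with hν
      have hνq : ν ^ q = ν := herm_self_pow hF _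
      obtain ⟨δ, hδ0, hδ, hδν⟩ : ∃ δ : F, δ ≠ 0 ∧ δ + δ ^ q = 0 ∧ (δ = ν → 3 ≤ k) := by
        rcases hkq with hq | hk
        · obtain ⟨δ, h1, h2, h3⟩ := exists_trace_zero_ne' hF hq ν
          exact ⟨δ, h1, h2, fun h => absurd h h3⟩
        · obtain ⟨δ, h1, h2⟩ := exists_trace_zero_ne hF
          exact ⟨δ, h1, h2, fun _ => hk⟩
      obtain ⟨y, hy, hxy, hyy⟩ := exists_vec hF (A.od.nd j) (by rw [A.hk]; exact hk2) (A.od.mem j x) hxj
        (β := δ - ν) (ν := -ν) (by rw [neg_pow_q hF, hνq]) (fun _ h => by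
          rw [A.hk]; exact hδν (sub_eq_zero.1 h))
      have hyS : InS q M (π i x + y) := h i j hij _ (A.od.mem _ _) y hy (by rw [hyy]; ring)
      have hxy' : hermForm n F q x (π i x + y) = δ := by
        rw [herm_add_right hF, ← A.od.herm i x _ (A.od.mem i x), ← A.od.herm j x y hy, hxy]
        ring
      have hyx' : hermForm n F q (π i x + y) x = δ ^ q := by rw [herm_swap hF x, hxy']
      have hdd : hermForm n F q (x - (π i x + y)) (x - (π i x + y)) = 0 := by
        rw [herm_sub_left, herm_sub_right hF, herm_sub_right hF, hx, hxy', hyx', hyS.iso]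
        linear_combination -hδ
      have hcard : (Finset.univ.filter fun l => π l (x - (π i x + y)) ≠ 0).card ≤ m := by
        have h1 : (Finset.univ.filter fun l => π l (x - (π i x + y)) ≠ 0) ⊂
            (Finset.univ.filter fun l => π l x ≠ 0) := by
          rw [Finset.ssubset_iff_of_subset]
          · refine ⟨i, Finset.mem_filter.2 ⟨Finset.mem_univ _, hxi⟩, ?_⟩
            rw [Finset.mem_filter]
            rintro ⟨-, h2⟩
            apply h2
            rw [map_sub, map_add, A.od.fix (A.od.mem i x), A.od.zero hij hy, add_zero, sub_self]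
          · intro l hl
            rw [Finset.mem_filter] at hl ⊢
            refine ⟨Finset.mem_univ _, fun h0 => hl.2 ?_⟩
            have hli : l ≠ i := by rintro rfl; exact hxi h0
            have hlj : l ≠ j := by rintro rfl; exact hxj h0
            rw [map_sub, map_add, h0, A.od.zero hli (A.od.mem i x), A.od.zero hlj hy, add_zero, sub_self]
        have h2 := Finset.card_lt_card h1
        omega
      have h1 := ih _ hdd hcard
      have h6 : (1 : F) • (x - (π i x + y)) + (1 : F) • (π i x + y) = x := by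
        rw [one_smul, one_smul, sub_add_cancel]
      have h7 := InS.line hF h1 hyS (by
        rw [herm_sub_left, hxy', hyS.iso, sub_zero]; exact hδ0) 1 1 (by rw [h6]; exact hx)
      rwa [h6] at h7

/-- **Orthogonal decompositions into spaces of dimension `k ≥ 2`**: the stabiliser in `SU_n(q)` is maximal, if
`q ≥ 3` or `k ≥ 3`, and `t ≥ 3` or `k ≥ 3`. -/
theorem odec_maximal {F : Type*} [Field F] [Fintype F] (n q : ℕ) (hF : Fintype.card F = q ^ 2) (hn : 3 ≤ n)
    (h32 : ¬ (n = 3 ∧ q = 2)) {t : ℕ} (k : ℕ) (D : Fin t → Submodule F (Fin n → F))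
    (hD : Cfsg.Geo.IsNondegenerateMDecomposition (Cfsg.hermForm n F q) k D)
    (hk2 : 2 ≤ k) (hkq : 3 ≤ q ∨ 3 ≤ k) (htk : 3 ≤ t ∨ 3 ≤ k) :
    Cfsg.Geo.IsMaximalIn (Cfsg.GU n F q ⊓ Cfsg.Geo.specialLinear (Fin n) F)
      (Cfsg.Geo.decompositionStabilizer D ⊓ (Cfsg.GU n F q ⊓ Cfsg.Geo.specialLinear (Fin n) F)) := by
  obtain ⟨π, hOD⟩ := exists_OD hF hD
  have hk := hD.decomp.finrank_eq
  have ht := hD.decomp.two_le
  apply isMaximalIn_of inf_le_right
  · intro hle
    have hne : ∀ i, D i ≠ ⊥ := by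
      intro i h0
      have := hk i
      rw [h0, finrank_bot] at this
      omega
    have hij : (⟨0, by omega⟩ : Fin t) ≠ ⟨1, by omega⟩ := by
      intro h0; exact absurd (congrArg Fin.val h0) (by norm_num)
    set i : Fin t := ⟨0, by omega⟩
    set j : Fin t := ⟨1, by omega⟩
    obtain ⟨w, hw, hww⟩ := exists_norm_one_vector hF (D i) (hOD.nd i) (hne i)
    obtain ⟨u, hu, huu⟩ := exists_norm_one_vector hF (D j) (hOD.nd j) (hne j)
    obtain ⟨l, hl⟩ := exists_smul_norm hF (z := u) (by rw [huu]; exact one_ne_zero) (ν := -1)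
      (by rw [neg_pow_q hF, one_pow])
    have hlu : l • u ∈ D j := (D j).smul_mem _ hu
    have hx : hermForm n F q (w + l • u) (w + l • u) = 0 := by
      rw [herm_add_left, herm_add_right hF, herm_add_right hF, hww, hl, hOD.orth i j hij w hw _ hlu,
        hOD.orth j i (Ne.symm hij) _ hlu w hw]
      ring
    obtain ⟨c, hc0, hc⟩ := exists_trace_zero_ne hF
    obtain ⟨σ, hσ⟩ := (hle (uGL_mem hF hx hc)).1
    have h1 : (uGL hF (w + l • u) c hx hc : Matrix (Fin n) (Fin n) F) *ᵥ w ∈ D (σ i) := by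
      rw [← hσ i]; exact ⟨w, hw, rfl⟩
    rw [uGL_mulVec, herm_add_right hF, hww, hOD.orth i j hij w hw _ hlu, add_zero, mul_one] at h1
    have hcu0 : c • (l • u) ≠ 0 := smul_ne_zero hc0 (ne_zero_of_norm (q := q) (by
      rw [hl]; exact neg_ne_zero.2 one_ne_zero))
    have hj : π j (w + c • (w + l • u)) ≠ 0 := by
      rw [map_add, map_smul, map_add, hOD.zero (Ne.symm hij) hw, hOD.fix hlu, zero_add, zero_add]
      exact hcu0
    have hσi : σ i = j := by
      by_contra h0
      exact hj (hOD.zero (Ne.symm h0) h1)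
    have hi : π i (w + c • (w + l • u)) = 0 := by
      rw [hσi] at h1
      exact hOD.zero hij h1
    rw [map_add, map_smul, map_add, hOD.fix hw, hOD.zero hij hlu, add_zero] at hi
    -- `1 + c = 0`, but `c` has trace zero; replace `w` by its image
    have h2 : (1 + c) • w = 0 := by rw [add_smul, one_smul]; exact hi
    have hw0 : w ≠ 0 := ne_zero_of_norm (q := q) (by rw [hww]; exact one_ne_zero)
    have h3 : 1 + c = 0 := (smul_eq_zero.1 h2).resolve_right hw0
    -- use a vector of `D i` orthogonal to `w`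
    obtain ⟨z, hz, hzw, hzz⟩ := exists_noniso_perp_two hF (hOD.nd i) (by rw [hk]; exact hk2) hw
      (by rw [hww]; exact one_ne_zero)
    have h4 : (uGL hF (w + l • u) c hx hc : Matrix (Fin n) (Fin n) F) *ᵥ z ∈ D (σ i) := by
      rw [← hσ i]; exact ⟨z, hz, rfl⟩
    rw [uGL_mulVec, herm_add_right hF, hzw, hOD.orth i j hij z hz _ hlu, add_zero, mul_zero, zero_smul,
      add_zero, hσi] at h4
    have h5 : z = 0 := by rw [← hOD.fix hz, hOD.zero hij h4]
    rw [h5, herm_zero_left] at hzz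
    exact hzz rfl
  · intro M hHM hMG hM
    have A : Amb q k D π M := ⟨hF, hOD, hk, hHM, hMG⟩
    obtain ⟨x, hx, i, j, hij, hxi, hxj⟩ := A.exists_two hk2 hM
    have hq2 := two_le hF
    have hP : HP q D M i j := by
      rcases Nat.lt_or_ge q 3 with hq | hq
      · exact A.exists_hp' (hkq.resolve_left (by omega)) (by omega) hij hx hxi hxj
      · exact A.exists_hp hk2 htk hq hij hx hxi hxj
    exact su_le hF hn h32 fun y hy =>
      A.inS_all hk2 ht hkq (A.hp_all (by omega) hij hP) _ y hy le_rfl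

end Cfsg.Agent.H876
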