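import Cfsg.Agent.H876.EvenFrame
import Cfsg.Agent.S0780

/-!
# Overgroups of the monomial group of `SU_n(2)`, `n ≥ 5`, `n ≠ 6`
-/

set_option autoImplicit false

namespace Cfsg.Agent.H876.TwoFrame

open Cfsg Cfsg.Agent.LieClassical.HermBasic Cfsg.Agent.LieClassical.HermSiegel Cfsg.Agent.H927
open Cfsg.Agent.H876.EvenFrame

variable {F : Type*} [Field F] {n : ℕ} {X : Subgroup (SU n F 2)}

section

variable [Fintype F] (hF : Fintype.card F = 2 ^ 2)
include hF

theorem two_eq_zero : (2 : F) = 0 := by
  have h1 : ((Fintype.card F : ℕ) : F) = 0 := FiniteField.cast_card_eq_zero F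
  rw [hF] at h1
  push_cast at h1
  exact mul_self_eq_zero.1 (by linear_combination h1)

theorem norm_one {x : F} (hx : x ≠ 0) : x * x ^ 2 = 1 := by
  have h1 := FiniteField.pow_card_sub_one_eq_one x hx
  rw [hF] at h1
  rw [← h1]; ring

theorem herm_self_eq (x : Fin n → F) : hermForm n F 2 x x = ((supp x).card : F) := by
  classical
  rw [herm_def]
  have h1 : ∀ i, x i * x i ^ 2 = if i ∈ supp x then 1 else 0 := by
    intro i
    by_cases hi : x i = 0
    · rw [if_neg (fun h => mem_supp.1 h hi), hi, zero_mul]
    · rw [if_pos (mem_supp.2 hi), norm_one hF hi]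
  rw [Finset.sum_congr rfl (fun i _ => h1 i), Finset.sum_ite_mem, Finset.univ_inter, Finset.sum_const,
    nsmul_eq_mul, mul_one]

theorem iso_iff (x : Fin n → F) : hermForm n F 2 x x = 0 ↔ Even (supp x).card := by
  have h2 := two_eq_zero hF
  rw [herm_self_eq hF]
  constructor
  · intro h
    by_contra hodd
    rw [Nat.not_even_iff_odd] at hodd
    obtain ⟨m, hm⟩ := hodd
    rw [hm] at h
    push_cast at h
    have : (1 : F) = 0 := by linear_combination h - (m : F) * h2
    exact one_ne_zero this
  · rintro ⟨m, hm⟩
    rw [hm]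
    push_cast
    linear_combination (m : F) * h2

/-- monomial elements are transitive on vectors of given weight less than `n`. -/
theorem exists_mono_map {v v' : Fin n → F} (hc : (supp v).card = (supp v').card)
    (hlt : (supp v).card < n) : ∃ g : SU n F 2, IsMono g ∧ act g v = v' := by
  classical
  have h2 := two_eq_zero hF
  obtain ⟨k, hk⟩ := exists_notMem_of_card_lt hlt
  have hvk : v k = 0 := by by_contra h; exact hk (mem_supp.2 h)
  obtain ⟨e⟩ : Nonempty ({x // x ∈ supp v'} ≃ {x // x ∈ supp v}) :=
    ⟨Finset.equivOfCardEq hc.symm⟩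
  obtain ⟨σ, hσ⟩ : ∃ σ : Equiv.Perm (Fin n), σ = e.extendSubtype := ⟨_, rfl⟩
  have hσ1 : ∀ l, l ∈ supp v' → σ l ∈ supp v := by
    intro l hl
    rw [hσ]
    exact e.extendSubtype_mem l hl
  have hσ2 : ∀ l, l ∉ supp v' → σ l ∉ supp v := by
    intro l hl
    rw [hσ]
    exact e.extendSubtype_not_mem l hl
  set d0 : Fin n → F := fun i => if v i = 0 then 1 else v' (σ.symm i) / v i with hd0
  have hd00 : ∀ i, d0 i ≠ 0 := by
    intro i
    rw [hd0]
    dsimp only
    split_ifs with h
    · exact one_ne_zero
    · refine div_ne_zero ?_ h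
      intro h0
      have h3 : σ.symm i ∉ supp v' := fun h4 => mem_supp.1 h4 h0
      have h4 := hσ2 _ h3
      rw [Equiv.apply_symm_apply] at h4
      exact h4 (mem_supp.2 h)
  set P := ∏ i ∈ Finset.univ.erase k, d0 i with hP
  have hP0 : P ≠ 0 := Finset.prod_ne_zero_iff.2 fun i _ => hd00 i
  set d : Fin n → F := Function.update d0 k P⁻¹ with hd
  have hdne : ∀ i, d i ≠ 0 := by
    intro i
    rw [hd]
    by_cases hi : i = k
    · subst hi; rw [Function.update_self]; exact inv_ne_zero hP0
    · rw [Function.update_of_ne hi]; exact hd00 i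
  have hsign : ((Equiv.Perm.sign σ : ℤ) : F) = 1 := by
    rcases Int.units_eq_one_or (Equiv.Perm.sign σ) with h | h
    · rw [h]; simp
    · rw [h]; simp only [Units.val_neg, Units.val_one, Int.cast_neg, Int.cast_one]
      linear_combination -h2
  obtain ⟨g, hg, hact⟩ := exists_mono hF σ d (fun i => norm_one hF (hdne i)) (by
    rw [hsign, one_mul, ← Finset.mul_prod_erase _ _ (Finset.mem_univ k)]
    have h1 : ∏ i ∈ Finset.univ.erase k, d i = P := by
      apply Finset.prod_congr rfl
      intro i hi
      rw [hd, Function.update_of_ne (Finset.ne_of_mem_erase hi)]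
    rw [h1, hd, Function.update_self, inv_mul_cancel₀ hP0])
  refine ⟨g, hg, ?_⟩
  funext l
  rw [hact]
  by_cases hl : l ∈ supp v'
  · have h3 := mem_supp.1 (hσ1 l hl)
    have h4 : σ l ≠ k := by
      intro h; rw [h] at h3; exact h3 hvk
    rw [hd, Function.update_of_ne h4, hd0]
    dsimp only
    rw [if_neg h3, Equiv.symm_apply_apply, div_mul_cancel₀ _ h3]
  · have h3 : v (σ l) = 0 := by by_contra h; exact hσ2 l hl (mem_supp.2 h)
    have h4 : v' l = 0 := by by_contra h; exact hl (mem_supp.2 h)
    rw [h3, h4, mul_zero]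

omit [Fintype F] hF in
theorem prod_mulSingle [DecidableEq (Fin n)] (i : Fin n) (a : F) :
    ∏ l, (Pi.mulSingle i a : Fin n → F) l = a := by
  rw [Finset.prod_eq_single i, Pi.mulSingle_eq_same]
  · intro j _ hj
    rw [Pi.mulSingle_eq_of_ne hj]
  · intro h; exact absurd (Finset.mem_univ i) h

theorem exists_omega : ∃ w : F, w ^ 2 + w + 1 = 0 := by
  obtain ⟨c, hc, hc1⟩ := exists_norm_one_ne_conj hF
  refine ⟨c, ?_⟩
  have h1 : (c - 1) * (c ^ 2 + c + 1) = 0 := by linear_combination hc
  refine (mul_eq_zero.1 h1).resolve_left fun h => hc1 ?_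
  have : c = 1 := by linear_combination h
  rw [this, one_pow]

variable (hG : ∀ g : SU n F 2, IsMono g → g ∈ X)
include hG

/-- reduction to weight four. -/
theorem exists_four {v : Fin n → F} (hv : TX X v) (h4 : 4 ≤ (supp v).card) (hlt : (supp v).card < n) :
    ∃ w, TX X w ∧ (supp w).card = 4 := by
  classical
  have h2 := two_eq_zero hF
  obtain ⟨w, hw⟩ := exists_omega hF
  have hw3 : w * w ^ 2 = 1 := by linear_combination (w - 1) * hw
  have hw0 : w ≠ 0 := by rintro rfl; norm_num at hw
  have hw1 : w + 1 ≠ 0 := by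
    intro h
    have : (1 : F) = 0 := by linear_combination hw - w * h
    exact one_ne_zero this
  have hw21 : w ^ 2 + 1 ≠ 0 := by
    intro h
    apply hw0
    linear_combination hw - h
  obtain ⟨k, hk⟩ := exists_notMem_of_card_lt hlt
  have hvk : v k = 0 := by by_contra h; exact hk (mem_supp.2 h)
  obtain ⟨S, hS, hScard⟩ := Finset.exists_subset_card_eq h4
  obtain ⟨a, b, c, d, hab, hac, had, hbc, hbd, hcd, rfl⟩ := Finset.card_eq_four.1 hScard
  have hva : v a ≠ 0 := mem_supp.1 (hS (by simp))
  have hvb : v b ≠ 0 := mem_supp.1 (hS (by simp))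
  have hvc : v c ≠ 0 := mem_supp.1 (hS (by simp))
  have hvd : v d ≠ 0 := mem_supp.1 (hS (by simp))
  have hka : k ≠ a := by rintro rfl; exact hva hvk
  have hkb : k ≠ b := by rintro rfl; exact hvb hvk
  have hkc : k ≠ c := by rintro rfl; exact hvc hvk
  have hkd : k ≠ d := by rintro rfl; exact hvd hvk
  set κ : Fin n → F := Pi.mulSingle a w * Pi.mulSingle b (w ^ 2) * Pi.mulSingle c (w ^ 2) *
    Pi.mulSingle d (w ^ 2) * Pi.mulSingle k (w ^ 2) with hκ
  have hκa : κ a = w := by
    simp [hκ, Pi.mulSingle_eq_of_ne hab, Pi.mulSingle_eq_of_ne hac, Pi.mulSingle_eq_of_ne had,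
      Pi.mulSingle_eq_of_ne hka.symm]
  have hκb : κ b = w ^ 2 := by
    simp [hκ, Pi.mulSingle_eq_of_ne hab.symm, Pi.mulSingle_eq_of_ne hbc, Pi.mulSingle_eq_of_ne hbd,
      Pi.mulSingle_eq_of_ne hkb.symm]
  have hκc : κ c = w ^ 2 := by
    simp [hκ, Pi.mulSingle_eq_of_ne hac.symm, Pi.mulSingle_eq_of_ne hbc.symm, Pi.mulSingle_eq_of_ne hcd,
      Pi.mulSingle_eq_of_ne hkc.symm]
  have hκd : κ d = w ^ 2 := by
    simp [hκ, Pi.mulSingle_eq_of_ne had.symm, Pi.mulSingle_eq_of_ne hbd.symm, Pi.mulSingle_eq_of_ne hcd.symm,
      Pi.mulSingle_eq_of_ne hkd.symm]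
  have hκo : ∀ l, l ≠ a → l ≠ b → l ≠ c → l ≠ d → l ≠ k → κ l = 1 := by
    intro l h1 h3 h5 h6 h7
    simp [hκ, Pi.mulSingle_eq_of_ne h1, Pi.mulSingle_eq_of_ne h3, Pi.mulSingle_eq_of_ne h5,
      Pi.mulSingle_eq_of_ne h6, Pi.mulSingle_eq_of_ne h7]
  have hκ0 : ∀ l, κ l ≠ 0 := by
    intro l
    have : ∀ (i : Fin n) (x : F), x ≠ 0 → (Pi.mulSingle i x : Fin n → F) l ≠ 0 := by
      intro i x hx
      by_cases hl : l = i
      · subst hl; rwa [Pi.mulSingle_eq_same]
      · rw [Pi.mulSingle_eq_of_ne hl]; exact one_ne_zero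
    rw [hκ]
    simp only [Pi.mul_apply]
    exact mul_ne_zero (mul_ne_zero (mul_ne_zero (mul_ne_zero (this a _ hw0) (this b _ (pow_ne_zero _ hw0)))
      (this c _ (pow_ne_zero _ hw0))) (this d _ (pow_ne_zero _ hw0))) (this k _ (pow_ne_zero _ hw0))
  obtain ⟨g, hg, hact⟩ := exists_mono hF (1 : Equiv.Perm (Fin n)) κ (fun i => norm_one hF (hκ0 i)) (by
    rw [Equiv.Perm.sign_one, hκ]
    simp only [Pi.mul_apply, Finset.prod_mul_distrib, prod_mulSingle]
    rw [Units.val_one, Int.cast_one, one_mul]
    linear_combination (w ^ 6 + w ^ 3 + 1) * hw3)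
  have hv' : TX X (act g v) := hv.map (hG g hg)
  have hv'l : ∀ l, act g v l = κ l * v l := fun l => hact v l
  -- the product
  have hprod : hermForm n F 2 (act g v) v = 1 := by
    have h5 : hermForm n F 2 (act g v) v = hermForm n F 2 (act g v) v + hermForm n F 2 v v := by
      rw [hv.iso, add_zero]
    rw [h5, ← herm_add_left, herm_def]
    rw [← Finset.sum_subset (Finset.subset_univ {a, b, c, d})]
    · rw [Finset.sum_insert (by simp [hab, hac, had]), Finset.sum_insert (by simp [hbc, hbd]),
        Finset.sum_pair hcd]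
      simp only [Pi.add_apply, hv'l, hκa, hκb, hκc, hκd]
      have ea := norm_one hF hva
      have eb := norm_one hF hvb
      have ec := norm_one hF hvc
      have ed := norm_one hF hvd
      linear_combination (w + 1) * ea + (w ^ 2 + 1) * eb + (w ^ 2 + 1) * ec + (w ^ 2 + 1) * ed +
        hw + (1 + w ^ 2) * h2
    · intro l _ hl
      simp only [Finset.mem_insert, Finset.mem_singleton, not_or] at hl
      by_cases hlk : l = k
      · subst hlk
        rw [hvk]; ring
      · rw [Pi.add_apply, hv'l, hκo l hl.1 hl.2.1 hl.2.2.1 hl.2.2.2 hlk]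
        linear_combination (v l * v l ^ 2) * h2
  have h5 := hv'.add hv
  rw [hprod, one_smul] at h5
  refine ⟨_, h5, ?_⟩
  have h6 : supp (act g v + v) = {a, b, c, d} := by
    ext m
    rw [mem_supp, Pi.add_apply, hv'l]
    simp only [Finset.mem_insert, Finset.mem_singleton]
    by_cases hma : m = a
    · subst hma
      rw [hκa]
      simp only [true_or, iff_true]
      intro h; apply mul_ne_zero hw1 hva; linear_combination h
    by_cases hmb : m = b
    · subst hmb
      rw [hκb]
      simp only [true_or, or_true, iff_true]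
      intro h; apply mul_ne_zero hw21 hvb; linear_combination h
    by_cases hmc : m = c
    · subst hmc
      rw [hκc]
      simp only [true_or, or_true, iff_true]
      intro h; apply mul_ne_zero hw21 hvc; linear_combination h
    by_cases hmd : m = d
    · subst hmd
      rw [hκd]
      simp only [or_true, iff_true]
      intro h; apply mul_ne_zero hw21 hvd; linear_combination h
    by_cases hmk : m = k
    · subst hmk
      rw [hvk]
      simp [hma, hmb, hmc, hmd]
    · rw [hκo m hma hmb hmc hmd hmk]
      simp only [hma, hmb, hmc, hmd, or_self, iff_false, not_not]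
      linear_combination (v m) * h2
  rw [h6, hScard]

/-- from weight `n` to weight six. -/
theorem exists_six {v : Fin n → F} (hv : TX X v) (hn : 6 ≤ n) (hfull : ∀ i, v i ≠ 0) :
    ∃ w, TX X w ∧ (supp w).card = 6 := by
  classical
  have h2 := two_eq_zero hF
  obtain ⟨w, hw⟩ := exists_omega hF
  have hw0 : w ≠ 0 := by rintro rfl; norm_num at hw
  -- a good parameter
  have hpar : ∀ x y : F, x ≠ 0 → y ≠ 0 → ∃ t : F, t ≠ 0 ∧ x + t ^ 2 * y ≠ 0 := by
    intro x y hx hy
    by_cases h : x + y = 0
    · refine ⟨w, hw0, fun h1 => ?_⟩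
      have h3 : (w ^ 2 - 1) * y = 0 := by linear_combination h1 - h
      rcases mul_eq_zero.1 h3 with h4 | h4
      · have : w = 0 := by linear_combination hw - h4 - h2
        exact hw0 this
      · exact hy h4
    · exact ⟨1, one_ne_zero, by rw [one_pow, one_mul]; exact h⟩
  obtain ⟨e, he⟩ : ∃ e : Fin 6 → Fin n, Function.Injective e :=
    ⟨Fin.castLE hn, Fin.castLE_injective hn⟩
  have hne : ∀ x y : Fin 6, x ≠ y → e x ≠ e y := fun x y h h' => h (he h')
  obtain ⟨t0, ht0, hl0⟩ := hpar _ _ (hfull (e 0)) (hfull (e 1))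
  obtain ⟨t1, ht1, hl1⟩ := hpar _ _ (hfull (e 2)) (hfull (e 3))
  obtain ⟨t2, ht2, hl2⟩ := hpar _ _ (hfull (e 4)) (hfull (e 5))
  have hu0 := tx_pair hF h2 hG (hne 0 1 (by decide)) (norm_one hF ht0)
  have hu1 := tx_pair hF h2 hG (hne 2 3 (by decide)) (norm_one hF ht1)
  have hu2 := tx_pair hF h2 hG (hne 4 5 (by decide)) (norm_one hF ht2)
  obtain ⟨u0, hud0⟩ : ∃ u : Fin n → F, u = Pi.single (e 0) 1 + t0 • Pi.single (e 1) 1 := ⟨_, rfl⟩
  obtain ⟨u1, hud1⟩ : ∃ u : Fin n → F, u = Pi.single (e 2) 1 + t1 • Pi.single (e 3) 1 := ⟨_, rfl⟩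
  obtain ⟨u2, hud2⟩ : ∃ u : Fin n → F, u = Pi.single (e 4) 1 + t2 • Pi.single (e 5) 1 := ⟨_, rfl⟩
  rw [← hud0] at hu0
  rw [← hud1] at hu1
  rw [← hud2] at hu2
  have hh0 : ∀ x, hermForm n F 2 x u0 = x (e 0) + t0 ^ 2 * x (e 1) := fun x => by
    rw [hud0, herm_right_pair hF]
  have hh1 : ∀ x, hermForm n F 2 x u1 = x (e 2) + t1 ^ 2 * x (e 3) := fun x => by
    rw [hud1, herm_right_pair hF]
  have hh2 : ∀ x, hermForm n F 2 x u2 = x (e 4) + t2 ^ 2 * x (e 5) := fun x => by
    rw [hud2, herm_right_pair hF]
  have ev0 : ∀ y : Fin 6, y ≠ 0 → y ≠ 1 → u0 (e y) = 0 := by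
    intro y h1 h3
    rw [hud0]
    simp [Pi.single_eq_of_ne (hne y 0 h1), Pi.single_eq_of_ne (hne y 1 h3)]
  have ev1 : ∀ y : Fin 6, y ≠ 2 → y ≠ 3 → u1 (e y) = 0 := by
    intro y h1 h3
    rw [hud1]
    simp [Pi.single_eq_of_ne (hne y 2 h1), Pi.single_eq_of_ne (hne y 3 h3)]
  obtain ⟨a0, ha0⟩ : ∃ a, a = v (e 0) + t0 ^ 2 * v (e 1) := ⟨_, rfl⟩
  obtain ⟨a1, ha1⟩ : ∃ a, a = v (e 2) + t1 ^ 2 * v (e 3) := ⟨_, rfl⟩
  obtain ⟨a2, ha2⟩ : ∃ a, a = v (e 4) + t2 ^ 2 * v (e 5) := ⟨_, rfl⟩
  rw [← ha0] at hl0
  rw [← ha1] at hl1
  rw [← ha2] at hl2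
  have e0 : hermForm n F 2 v u0 = a0 := by rw [hh0, ha0]
  have e1 : hermForm n F 2 (v + a0 • u0) u1 = a1 := by
    rw [herm_add_left, herm_smul_left, hh1 u0, ev0 2 (by decide) (by decide), ev0 3 (by decide) (by decide),
      hh1, ha1]
    ring
  have e2 : hermForm n F 2 (v + a0 • u0 + a1 • u1) u2 = a2 := by
    rw [herm_add_left, herm_add_left, herm_smul_left, herm_smul_left, hh2 u0, hh2 u1,
      ev0 4 (by decide) (by decide), ev0 5 (by decide) (by decide),
      ev1 4 (by decide) (by decide), ev1 5 (by decide) (by decide), hh2, ha2]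
    ring
  have s1 := hv.add hu0
  rw [e0] at s1
  have s2 := s1.add hu1
  rw [e1] at s2
  have s3 := s2.add hu2
  rw [e2] at s3
  have f0 : hermForm n F 2 u0 v = a0 ^ 2 := by rw [herm_swap hF v u0, e0]
  have f1 : hermForm n F 2 u1 v = a1 ^ 2 := by rw [herm_swap hF v u1, hh1, ha1]
  have f2 : hermForm n F 2 u2 v = a2 ^ 2 := by rw [herm_swap hF v u2, hh2, ha2]
  have e3 : hermForm n F 2 (v + a0 • u0 + a1 • u1 + a2 • u2) v = 1 := by
    rw [herm_add_left, herm_add_left, herm_add_left, herm_smul_left, herm_smul_left, herm_smul_left,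
      hv.iso, f0, f1, f2]
    linear_combination norm_one hF hl0 + norm_one hF hl1 + norm_one hF hl2 + h2
  have s4 := s3.add hv
  rw [e3, one_smul] at s4
  have h6 : v + a0 • u0 + a1 • u1 + a2 • u2 + v = a0 • u0 + a1 • u1 + a2 • u2 := by
    have : v + a0 • u0 + a1 • u1 + a2 • u2 + v = (2 : F) • v + (a0 • u0 + a1 • u1 + a2 • u2) := by
      rw [two_smul]; abel
    rw [this, h2, zero_smul, zero_add]
  rw [h6] at s4
  refine ⟨_, s4, ?_⟩
  have h7 : supp (a0 • u0 + a1 • u1 + a2 • u2) = Finset.univ.image e := by
    ext m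
    rw [mem_supp]
    simp only [Finset.mem_image, Finset.mem_univ, true_and, Pi.add_apply, Pi.smul_apply, smul_eq_mul]
    constructor
    · intro h
      by_contra hcon
      push Not at hcon
      apply h
      rw [hud0, hud1, hud2]
      simp [Pi.single_eq_of_ne (hcon 0).symm, Pi.single_eq_of_ne (hcon 1).symm,
        Pi.single_eq_of_ne (hcon 2).symm, Pi.single_eq_of_ne (hcon 3).symm,
        Pi.single_eq_of_ne (hcon 4).symm, Pi.single_eq_of_ne (hcon 5).symm]
    · rintro ⟨y, rfl⟩
      rw [hud0, hud1, hud2]
      simp only [Pi.add_apply, Pi.smul_apply, smul_eq_mul, Pi.single_apply, he.eq_iff]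
      fin_cases y <;> simp [hl0, hl1, hl2, ht0, ht1, ht2]
  rw [h7, Finset.card_image_of_injective _ he, Finset.card_univ, Fintype.card_fin]

/-- all isotropic vectors. -/
theorem all_tx (hn : 5 ≤ n) (h6 : n ≠ 6) (hX : ∃ g ∈ X, ¬ IsMono g) :
    ∀ (m : ℕ) (x : Fin n → F), hermForm n F 2 x x = 0 → (supp x).card = m → TX X x := by
  classical
  have h2 := two_eq_zero hF
  obtain ⟨w, hw⟩ := exists_omega hF
  have hw0 : w ≠ 0 := by rintro rfl; norm_num at hw
  have hw1 : w + 1 ≠ 0 := by
    intro h
    have : (1 : F) = 0 := by linear_combination hw - w * h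
    exact one_ne_zero this
  have hw21 : w ^ 2 + 1 ≠ 0 := by
    intro h
    apply hw0
    linear_combination hw - h
  -- a vector of weight four
  obtain ⟨v0, hv0, hv04⟩ : ∃ v, TX X v ∧ (supp v).card = 4 := by
    obtain ⟨v, hv, hv3⟩ := exists_three hF h2 hG (by omega) hX
    have hev := (iso_iff hF v).1 hv.iso
    have hv4 : 4 ≤ (supp v).card := by
      obtain ⟨m, hm⟩ := hev; omega
    by_cases hlt : (supp v).card < n
    · exact exists_four hF hG hv hv4 hlt
    · have h1 : supp v = Finset.univ := by
        apply Finset.eq_univ_of_card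
        rw [Fintype.card_fin]
        have := Finset.card_le_univ (supp v)
        rw [Fintype.card_fin] at this
        omega
      have hn8 : 8 ≤ n := by
        rw [h1, Finset.card_univ, Fintype.card_fin] at hev
        obtain ⟨m, hm⟩ := hev
        omega
      obtain ⟨v', hv', hc'⟩ := exists_six hF hG hv (by omega) (fun i => mem_supp.1 (by
        rw [h1]; exact Finset.mem_univ i))
      exact exists_four hF hG hv' (by omega) (by omega)
  intro m
  induction m using Nat.strong_induction_on with
  | _ m ih =>
    intro x hx hm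
    have hev := (iso_iff hF x).1 hx
    rw [hm] at hev
    rcases Nat.lt_or_ge m 1 with h0 | h1
    · -- `x = 0`
      have hx0 : x = 0 := by
        funext i
        by_contra h
        have h3 : i ∈ supp x := mem_supp.2 h
        have h4 := Finset.card_pos.2 ⟨i, h3⟩
        omega
      subst hx0
      refine ⟨hx, 1, X.one_mem, fun y => ?_⟩
      rw [act_one, smul_zero, add_zero]
    rcases Nat.lt_or_ge m 3 with h3 | h3
    · -- weight two
      have hm2 : (supp x).card = 2 := by
        obtain ⟨l, hl⟩ := hev; omega
      obtain ⟨i, j, hij, hs⟩ := Finset.card_eq_two.1 hm2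
      have hxi : x i ≠ 0 := mem_supp.1 (by rw [hs]; simp)
      have hxj : x j ≠ 0 := mem_supp.1 (by rw [hs]; simp)
      have h5 := (tx_pair hF h2 hG hij (norm_one hF (div_ne_zero hxj hxi))).smul (norm_one hF hxi)
      have h7 : x i • (Pi.single i 1 + (x j / x i) • Pi.single j (1 : F)) = x := by
        funext l
        simp only [Pi.smul_apply, Pi.add_apply, smul_eq_mul]
        by_cases hli : l = i
        · subst hli
          rw [Pi.single_eq_same, Pi.single_eq_of_ne hij]; ring
        by_cases hlj : l = j
        · subst hlj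
          rw [Pi.single_eq_same, Pi.single_eq_of_ne hli]
          field_simp
          ring
        rw [Pi.single_eq_of_ne hli, Pi.single_eq_of_ne hlj]
        have : x l = 0 := by
          by_contra h
          have := mem_supp.2 h
          rw [hs, Finset.mem_insert, Finset.mem_singleton] at this
          rcases this with h | h
          · exact hli h
          · exact hlj h
        rw [this]; ring
      rwa [h7] at h5
    rcases Nat.lt_or_ge m 5 with h5 | h5
    · -- weight four
      have hm4 : (supp x).card = 4 := by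
        obtain ⟨l, hl⟩ := hev; omega
      obtain ⟨g, hg, hgx⟩ := exists_mono_map hF (v := v0) (v' := x) (by omega) (by omega)
      rw [← hgx]
      exact hv0.map (hG g hg)
    · by_cases hlt : m < n
      · -- a zero coordinate
        obtain ⟨k, hk⟩ := exists_notMem_of_card_lt (s := supp x) (by omega)
        have hxk : x k = 0 := by by_contra h; exact hk (mem_supp.2 h)
        obtain ⟨S, hS, hScard⟩ := Finset.exists_subset_card_eq (s := supp x) (n := 3) (by omega)
        have hkS : k ∉ S := fun h => hk (hS h)
        obtain ⟨v, hv⟩ : ∃ v : Fin n → F, v = fun l => if l ∈ S then x l else if l = k then 1 else 0 :=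
          ⟨_, rfl⟩
        obtain ⟨u, hu⟩ : ∃ u : Fin n → F, u = fun l => if l ∈ S then 0 else if l = k then 1 else x l :=
          ⟨_, rfl⟩
        have hsv : supp v = insert k S := by
          ext l
          rw [mem_supp, hv, Finset.mem_insert]
          dsimp only
          by_cases hl : l ∈ S
          · rw [if_pos hl]
            exact ⟨fun _ => Or.inr hl, fun _ => mem_supp.1 (hS hl)⟩
          · rw [if_neg hl]
            by_cases hlk : l = k
            · rw [if_pos hlk]
              exact ⟨fun _ => Or.inl hlk, fun _ => one_ne_zero⟩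
            · rw [if_neg hlk]
              simp [hl, hlk]
        have hsu : supp u = insert k (supp x \ S) := by
          ext l
          rw [mem_supp, hu, Finset.mem_insert, Finset.mem_sdiff]
          dsimp only
          by_cases hl : l ∈ S
          · rw [if_pos hl]
            have : l ≠ k := by rintro rfl; exact hkS hl
            simp [hl, this]
          · rw [if_neg hl]
            by_cases hlk : l = k
            · rw [if_pos hlk]
              exact ⟨fun _ => Or.inl hlk, fun _ => one_ne_zero⟩
            · rw [if_neg hlk]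
              simp [hl, hlk, mem_supp]
        have hcv : (supp v).card = 4 := by
          rw [hsv, Finset.card_insert_of_notMem hkS, hScard]
        have hcu : (supp u).card = m - 2 := by
          rw [hsu, Finset.card_insert_of_notMem (fun h => hk (Finset.mem_sdiff.1 h).1),
            Finset.card_sdiff_of_subset hS, hm, hScard]
          omega
        have hTv : TX X v := ih 4 (by omega) v ((iso_iff hF v).2 (by rw [hcv]; exact ⟨2, rfl⟩)) hcv
        have hTu : TX X u := ih (m - 2) (by omega) u ((iso_iff hF u).2 (by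
          rw [hcu]; obtain ⟨l, hl⟩ := hev; exact ⟨l - 1, by omega⟩)) hcu
        have huv : hermForm n F 2 u v = 1 := by
          rw [herm_def, Finset.sum_eq_single k]
          · rw [hu, hv]
            dsimp only
            rw [if_neg hkS, if_neg hkS, if_pos rfl, if_pos rfl, one_pow, one_mul]
          · intro l _ hl
            rw [hu, hv]
            dsimp only
            by_cases hlS : l ∈ S
            · rw [if_pos hlS]; ring
            · rw [if_neg hlS, if_neg hlS, if_neg hl, if_neg hl]; ring
          · intro h; exact absurd (Finset.mem_univ k) h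
        have h7 := hTu.add hTv
        rw [huv, one_smul] at h7
        have h8 : u + v = x := by
          funext l
          rw [Pi.add_apply, hu, hv]
          dsimp only
          by_cases hlS : l ∈ S
          · rw [if_pos hlS, if_pos hlS, zero_add]
          · rw [if_neg hlS, if_neg hlS]
            by_cases hlk : l = k
            · subst hlk
              rw [if_pos rfl, if_pos rfl, hxk]; linear_combination h2
            · rw [if_neg hlk, if_neg hlk, add_zero]
        rwa [h8] at h7
      · -- full support
        have hmn : m = n := by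
          have := Finset.card_le_univ (supp x)
          rw [Fintype.card_fin] at this
          omega
        have hfull : ∀ i, x i ≠ 0 := by
          intro i
          have h1 : supp x = Finset.univ := by
            apply Finset.eq_univ_of_card
            rw [Fintype.card_fin, hm, hmn]
          exact mem_supp.1 (by rw [h1]; exact Finset.mem_univ i)
        have hn8 : 8 ≤ n := by
          rw [hmn] at hev
          obtain ⟨l, hl⟩ := hev
          omega
        obtain ⟨S, -, hScard⟩ := Finset.exists_subset_card_eq (s := (Finset.univ : Finset (Fin n))) (n := 4)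
          (by rw [Finset.card_univ, Fintype.card_fin]; omega)
        obtain ⟨a, b, c, d, hab, hac, had, hbc, hbd, hcd, rfl⟩ := Finset.card_eq_four.1 hScard
        obtain ⟨v, hv⟩ : ∃ v : Fin n → F, v = fun l => if l = a then w ^ 2 * x l else if l = b then w * x l
          else if l = c ∨ l = d then x l else 0 := ⟨_, rfl⟩
        obtain ⟨u, hu⟩ : ∃ u : Fin n → F, u = fun l => if l = a then w * x l else if l = b then w ^ 2 * x l
          else if l = c ∨ l = d then 0 else x l := ⟨_, rfl⟩
        have hsv : supp v = {a, b, c, d} := by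
          ext l
          rw [mem_supp, hv]
          simp only [Finset.mem_insert, Finset.mem_singleton]
          by_cases hla : l = a
          · simp [hla, hw0, hfull a]
          by_cases hlb : l = b
          · subst hlb
            simp [hla, hw0, hfull l]
          by_cases hlc : l = c
          · subst hlc
            simp [hla, hlb, hfull l]
          by_cases hld : l = d
          · subst hld
            simp [hla, hlb, hfull l]
          simp [hla, hlb, hlc, hld]
        have hsu : supp u = Finset.univ \ {c, d} := by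
          ext l
          rw [mem_supp, hu]
          simp only [Finset.mem_sdiff, Finset.mem_univ, true_and, Finset.mem_insert, Finset.mem_singleton]
          by_cases hla : l = a
          · subst hla
            simp [hw0, hfull l, hac, had]
          by_cases hlb : l = b
          · subst hlb
            simp [hla, hw0, hfull l, hbc, hbd]
          by_cases hlc : l = c
          · subst hlc
            simp [hla, hlb]
          by_cases hld : l = d
          · subst hld
            simp [hla, hlb]
          simp [hla, hlb, hlc, hld, hfull l]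
        have hcv : (supp v).card = 4 := by rw [hsv, hScard]
        have hcu : (supp u).card = m - 2 := by
          rw [hsu, Finset.card_sdiff_of_subset (Finset.subset_univ _), Finset.card_univ, Fintype.card_fin,
            Finset.card_pair hcd, hmn]
        have hTv : TX X v := ih 4 (by omega) v ((iso_iff hF v).2 (by rw [hcv]; exact ⟨2, rfl⟩)) hcv
        have hTu : TX X u := ih (m - 2) (by omega) u ((iso_iff hF u).2 (by
          rw [hcu]; obtain ⟨l, hl⟩ := hev; exact ⟨l - 1, by omega⟩)) hcu
        have huv : hermForm n F 2 u v = 1 := by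
          rw [herm_def, ← Finset.sum_subset (Finset.subset_univ {a, b})]
          · rw [Finset.sum_pair hab, hu, hv]
            simp only [if_true, hab.symm, if_false]
            have ea := norm_one hF (hfull a)
            have eb := norm_one hF (hfull b)
            have hw3 : w ^ 3 = 1 := by linear_combination (w - 1) * hw
            linear_combination (w ^ 5) * ea + (w ^ 4) * eb + (w ^ 2 + w) * hw3 + hw - h2
          · intro l _ hl
            simp only [Finset.mem_insert, Finset.mem_singleton, not_or] at hl
            rw [hu, hv]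
            simp only [hl.1, hl.2, if_false]
            by_cases hlc : l = c ∨ l = d
            · rw [if_pos hlc]; ring
            · rw [if_neg hlc, if_neg hlc]; ring
        have h7 := hTu.add hTv
        rw [huv, one_smul] at h7
        have h8 : u + v = x := by
          funext l
          rw [Pi.add_apply, hu, hv]
          dsimp only
          by_cases hla : l = a
          · rw [if_pos hla, if_pos hla]
            linear_combination (x l) * hw - (x l) * h2
          · rw [if_neg hla, if_neg hla]
            by_cases hlb : l = b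
            · rw [if_pos hlb, if_pos hlb]
              linear_combination (x l) * hw - (x l) * h2
            · rw [if_neg hlb, if_neg hlb]
              by_cases hlc : l = c ∨ l = d
              · rw [if_pos hlc, if_pos hlc, zero_add]
              · rw [if_neg hlc, if_neg hlc, add_zero]
        rwa [h8] at h7

/-- `q = 2`, `n ≥ 5`, `n ≠ 6`: a subgroup containing the monomial elements and a non-monomial one is
everything. -/
theorem eq_top_two (hn : 5 ≤ n) (h6 : n ≠ 6) (hX : ∃ g ∈ X, ¬ IsMono g) : X = ⊤ := by
  have h2 := two_eq_zero hF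
  rw [eq_top_iff, ← Cfsg.Agent.S0780.result hF n (by omega) (by omega), Subgroup.closure_le]
  rintro B ⟨v, c, hv, hB⟩
  rcases Cfsg.Agent.ClassicalGeometry.UnitTransv.eq_one_or_utv hF hv hB with rfl | ⟨hc0, hc, rfl⟩
  · exact X.one_mem
  · obtain ⟨-, g, hg, hact⟩ := all_tx hF hG hn h6 hX _ v hv rfl
    by_cases hc00 : c = 0
    · subst hc00
      have h3 : Cfsg.Agent.ClassicalGeometry.UnitTransv.utv hF v 0 hv hc = 1 := by
        apply ext_act
        intro x
        have h1 := Cfsg.Agent.ClassicalGeometry.UnitTransv.act_utv hF hv hc x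
        rw [zero_mul, zero_smul, add_zero] at h1
        rw [act_one]
        exact h1
      rw [SetLike.mem_coe, h3]
      exact X.one_mem
    have hc1 : c = 1 := by
      have h3 : c * (1 + c) = 0 := by linear_combination hc
      have h4 := (mul_eq_zero.1 h3).resolve_left hc00
      linear_combination h4 - h2
    subst hc1
    have h3 : Cfsg.Agent.ClassicalGeometry.UnitTransv.utv hF v 1 hv hc = g := by
      apply ext_act
      intro x
      have h1 := Cfsg.Agent.ClassicalGeometry.UnitTransv.act_utv hF hv hc x
      rw [one_mul] at h1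
      rw [hact]
      exact h1
    rw [SetLike.mem_coe, h3]
    exact hg

end

end Cfsg.Agent.H876.TwoFrame
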