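import Cfsg.Agent.H876.OddFinal
import Cfsg.Agent.H876.TwoFrame
import Cfsg.Agent.H876.OMax

/-!
# `SU_n(q)`: the stabiliser of an orthonormal frame is maximal

`frame_maximal`: reduction to subgroups of `SU n F q` containing the monomial elements (`IsMono`).
`frame_top`: `n ≥ 8`, all `q`. `frame_maximal_eight`.
-/

set_option autoImplicit false
open Cfsg
open scoped Matrix MatrixGroups

namespace Cfsg.Agent.H876.FrameMax

open Cfsg.Agent.LieClassical.HermBasic Cfsg.Agent.ClassicalGeometry.UnitTransv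
open Cfsg.Agent.ClassicalGeometry.HermOrtho Cfsg.Agent.H927 Cfsg.Agent.H876.MonoBasic

variable {F : Type*} [Field F] {n q t : ℕ}

theorem card_mul {k : ℕ} {D : Fin t → Submodule F (Fin n → F)} (hD : Geo.IsMDecomposition k D) :
    t * k = n := by
  classical
  have hint : DirectSum.IsInternal D :=
    DirectSum.isInternal_submodule_of_iSupIndep_of_iSup_eq_top hD.indep hD.iSup_eq_top
  have e := (LinearEquiv.ofBijective (DirectSum.coeLinearMap D) hint).finrank_eq
  rw [Module.finrank_directSum, Module.finrank_fintype_fun_eq_card, Fintype.card_fin] at e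
  simp only [hD.finrank_eq, Finset.sum_const, Finset.card_univ, Fintype.card_fin, smul_eq_mul] at e
  exact e

variable [Fintype F]

theorem act_eq_act (A : SU n F q) (x : Fin n → F) :
    Cfsg.Agent.LieClassical.HermSiegel.act A x = act A x := rfl

theorem exists_not_mono (hF : Fintype.card F = q ^ 2) (hn : 4 ≤ n) : ∃ g : SU n F q, ¬ IsMono g := by
  classical
  obtain ⟨l, hl⟩ := exists_norm_eq hF (c := -1) (by rw [neg_pow_q hF, one_pow])
  obtain ⟨c, hc0, hc⟩ := exists_trace_zero_ne hF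
  obtain ⟨p0, hp0⟩ : ∃ p : Fin n, p = ⟨0, by omega⟩ := ⟨_, rfl⟩
  obtain ⟨p1, hp1⟩ : ∃ p : Fin n, p = ⟨1, by omega⟩ := ⟨_, rfl⟩
  obtain ⟨p2, hp2⟩ : ∃ p : Fin n, p = ⟨2, by omega⟩ := ⟨_, rfl⟩
  obtain ⟨p3, hp3⟩ : ∃ p : Fin n, p = ⟨3, by omega⟩ := ⟨_, rfl⟩
  have h01 : p0 ≠ p1 := by rw [hp0, hp1]; simp [Fin.ext_iff]
  have h02 : p0 ≠ p2 := by rw [hp0, hp2]; simp [Fin.ext_iff]
  have h03 : p0 ≠ p3 := by rw [hp0, hp3]; simp [Fin.ext_iff]
  have h12 : p1 ≠ p2 := by rw [hp1, hp2]; simp [Fin.ext_iff]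
  have h13 : p1 ≠ p3 := by rw [hp1, hp3]; simp [Fin.ext_iff]
  have h23 : p2 ≠ p3 := by rw [hp2, hp3]; simp [Fin.ext_iff]
  have hl0 : l ≠ 0 := by
    rintro rfl
    rw [zero_mul] at hl
    exact one_ne_zero (neg_eq_zero.1 hl.symm)
  obtain ⟨v, hv⟩ : ∃ v : Fin n → F, v = Pi.single p0 1 + Pi.single p1 1 +
    l • Pi.single p2 1 + l • Pi.single p3 1 := ⟨_, rfl⟩
  have v0 : v p0 = 1 := by
    rw [hv]; simp [h01, h02, h03]
  have v1 : v p1 = 1 := by
    rw [hv]; simp [h01.symm, h12, h13]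
  have v2 : v p2 = l := by
    rw [hv]; simp [h02.symm, h12.symm, h23]
  have v3 : v p3 = l := by
    rw [hv]; simp [h03.symm, h13.symm, h23.symm]
  have hvv : hermForm n F q v v = 0 := by
    conv_lhs => arg 4; rw [hv]
    rw [herm_add_left, herm_add_left, herm_add_left, herm_smul_left, herm_smul_left,
      H927.herm_single_left, H927.herm_single_left, H927.herm_single_left, H927.herm_single_left,
      v0, v1, v2, v3, one_pow, hl]
    ring
  refine ⟨utv hF v c hvv hc, fun hm => ?_⟩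
  obtain ⟨i, d, hd⟩ := hm p0
  rw [act_eq_act, act_utv, H927.herm_single_left, v0, one_pow, mul_one] at hd
  have e1 := congrFun hd p1
  have e2 := congrFun hd p2
  simp only [Pi.add_apply, Pi.smul_apply, smul_eq_mul, v1, v2, Pi.single_eq_of_ne h01.symm,
    Pi.single_eq_of_ne h02.symm, zero_add, mul_one] at e1 e2
  by_cases hi : i = p1
  · subst hi
    rw [Pi.single_eq_of_ne h12.symm, mul_zero] at e2
    exact mul_ne_zero hc0 hl0 e2
  · rw [Pi.single_eq_of_ne (Ne.symm hi), mul_zero] at e1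
    exact hc0 e1

/-- The stabiliser of an orthonormal frame is maximal, given the statement for subgroups of `SU n F q`. -/
theorem frame_maximal (hF : Fintype.card F = q ^ 2) (hn : 4 ≤ n) (D : Fin t → Submodule F (Fin n → F))
    (hD : Cfsg.Geo.IsNondegenerateMDecomposition (Cfsg.hermForm n F q) 1 D)
    (htop : ∀ X : Subgroup (SU n F q), (∀ g, IsMono g → g ∈ X) → (∃ g ∈ X, ¬ IsMono g) → X = ⊤) :
    Cfsg.Geo.IsMaximalIn (Cfsg.GU n F q ⊓ Cfsg.Geo.specialLinear (Fin n) F)
      (Cfsg.Geo.decompositionStabilizer D ⊓ (Cfsg.GU n F q ⊓ Cfsg.Geo.specialLinear (Fin n) F)) := by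
  classical
  have htn : t = n := by
    have := card_mul hD.decomp
    omega
  subst htn
  have hk := hD.decomp.finrank_eq
  have hnd : ∀ i, Nd q (D i) := fun i => nd_of_geo (hD.nondegenerate i)
  have hne : ∀ i, D i ≠ ⊥ := by
    intro i h0
    have := hk i
    rw [h0, finrank_bot] at this
    omega
  choose b hbD hb1 using fun i => exists_norm_one_vector hF (D i) (hnd i) (hne i)
  have hbb : ∀ i j, hermForm t F q (b i) (b j) = if i = j then 1 else 0 := by
    intro i j
    split_ifs with h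
    · subst h; exact hb1 i
    · exact hD.orthogonal i j h _ (hbD i) _ (hbD j)
  obtain ⟨P, hP, hPx⟩ := exists_GU_of_orthonormal hF hbb
  have hPe : ∀ j, (P : Matrix (Fin t) (Fin t) F) *ᵥ Pi.single j 1 = b j := by
    intro j
    rw [hPx, Finset.sum_eq_single j]
    · rw [Pi.single_eq_same, one_smul]
    · intro i _ hi
      rw [Pi.single_eq_of_ne hi, zero_smul]
    · intro h; exact absurd (Finset.mem_univ j) h
  have hspan : ∀ i, ∀ x ∈ D i, ∃ c : F, x = c • b i := by
    intro i x hx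
    refine ⟨hermForm t F q x (b i), ?_⟩
    rw [← sub_eq_zero]
    by_contra hne0
    have h2 : Module.finrank F (Submodule.span F {b i, x - hermForm t F q x (b i) • b i}) ≤ 1 := by
      rw [← hk i]
      apply Submodule.finrank_mono
      rw [Submodule.span_le]
      rintro y (rfl | rfl)
      · exact hbD i
      · exact (D i).sub_mem hx ((D i).smul_mem _ (hbD i))
    have h3 : LinearIndependent F ![b i, x - hermForm t F q x (b i) • b i] := by
      rw [LinearIndependent.pair_iff]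
      intro c d hcd
      have h4 := congrArg (fun v => hermForm t F q v (b i)) hcd
      simp only [herm_add_left, herm_smul_left, herm_sub_left, hb1, herm_zero_left] at h4
      have hc : c = 0 := by linear_combination h4
      subst hc
      rw [zero_smul, zero_add] at hcd
      exact ⟨rfl, (smul_eq_zero.1 hcd).resolve_right hne0⟩
    have h4 := finrank_span_eq_card h3
    rw [Fintype.card_fin] at h4
    have h5 : Set.range ![b i, x - hermForm t F q x (b i) • b i] =
        {b i, x - hermForm t F q x (b i) • b i} := by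
      simp [Matrix.range_cons, Matrix.range_empty, Set.pair_comm]
    rw [h5] at h4
    omega
  -- conjugation by `P`
  have hconj : ∀ g ∈ GU t F q ⊓ Geo.specialLinear (Fin t) F,
      P * g * P⁻¹ ∈ GU t F q ⊓ Geo.specialLinear (Fin t) F := by
    rintro g ⟨hg1, hg2⟩
    refine ⟨(GU t F q).mul_mem ((GU t F q).mul_mem hP hg1) ((GU t F q).inv_mem hP), ?_⟩
    have h1 := MonoidHom.mem_ker.1 hg2
    refine MonoidHom.mem_ker.2 ?_
    rw [map_mul, map_mul, h1, mul_one, map_inv, mul_inv_cancel]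
  have hconj' : ∀ g ∈ GU t F q ⊓ Geo.specialLinear (Fin t) F,
      P⁻¹ * g * P ∈ GU t F q ⊓ Geo.specialLinear (Fin t) F := by
    rintro g ⟨hg1, hg2⟩
    refine ⟨(GU t F q).mul_mem ((GU t F q).mul_mem ((GU t F q).inv_mem hP) hg1) hP, ?_⟩
    have h1 := MonoidHom.mem_ker.1 hg2
    refine MonoidHom.mem_ker.2 ?_
    rw [map_mul, map_mul, h1, mul_one, map_inv, inv_mul_cancel]
  have hmono1 : ∀ A : SU t F q, IsMono A → P * suGL t F q A * P⁻¹ ∈
      Geo.decompositionStabilizer D ⊓ (GU t F q ⊓ Geo.specialLinear (Fin t) F) := by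
    intro A hA
    obtain ⟨σ, d, hd0, hd⟩ := IsMono.exists_perm hA
    refine mem_H_of hk (hconj _ (suGL_mem A)) σ fun i x hx => ?_
    obtain ⟨c, rfl⟩ := hspan i x hx
    rw [Matrix.mulVec_smul, mul_mulVec, mul_mulVec, ← hPe i, inv_mulVec_cancel, suGL_mulVec, ← act_eq_act, hd,
      Matrix.mulVec_smul, hPe]
    exact (D _).smul_mem _ ((D _).smul_mem _ (hbD _))
  have hmono2 : ∀ A : SU t F q, P * suGL t F q A * P⁻¹ ∈
      Geo.decompositionStabilizer D ⊓ (GU t F q ⊓ Geo.specialLinear (Fin t) F) → IsMono A := by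
    rintro A ⟨⟨σ, hσ⟩, -⟩ j
    have h1 : ((P * suGL t F q A * P⁻¹ : GL (Fin t) F) : Matrix (Fin t) (Fin t) F) *ᵥ b j ∈ D (σ j) := by
      rw [← hσ j]; exact ⟨b j, hbD j, rfl⟩
    obtain ⟨c, hc⟩ := hspan _ _ h1
    rw [mul_mulVec, mul_mulVec, ← hPe j, inv_mulVec_cancel, suGL_mulVec, ← hPe (σ j),
      ← Matrix.mulVec_smul, mulVec_eq_iff, inv_mulVec_cancel] at hc
    exact ⟨σ j, c, hc⟩
  apply isMaximalIn_of inf_le_right
  · intro hle
    obtain ⟨A, hA⟩ := exists_not_mono hF hn
    exact hA (hmono2 A (hle (hconj _ (suGL_mem A))))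
  · rintro M hHM hMG ⟨g, hgM, hgH⟩
    let φ : SU t F q →* GL (Fin t) F := ((MulAut.conj P).toMonoidHom).comp (suGL t F q)
    have hφ : ∀ A, φ A = P * suGL t F q A * P⁻¹ := fun A => rfl
    have hX := htop (M.comap φ) (fun A hA => by
      rw [Subgroup.mem_comap, hφ]; exact hHM (hmono1 A hA)) (by
      obtain ⟨A, hA⟩ := exists_suGL_eq (hconj' g (hMG hgM))
      have h1 : φ A = g := by rw [hφ, hA]; group
      refine ⟨A, by rw [Subgroup.mem_comap, h1]; exact hgM, fun hm => hgH ?_⟩
      rw [← h1, hφ]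
      exact hmono1 A hm)
    intro h hh
    obtain ⟨A, hA⟩ := exists_suGL_eq (hconj' h hh)
    have h1 : φ A = h := by rw [hφ, hA]; group
    have h2 : A ∈ M.comap φ := by rw [hX]; trivial
    rw [Subgroup.mem_comap, h1] at h2
    exact h2

/-- overgroups of the monomial group, `n ≥ 8`, all `q`. -/
theorem frame_top (hF : Fintype.card F = q ^ 2) (hn : 8 ≤ n) (X : Subgroup (SU n F q))
    (hG : ∀ g, IsMono g → g ∈ X) (hX : ∃ g ∈ X, ¬ IsMono g) : X = ⊤ := by
  have hcard : 1 < Fintype.card F := Fintype.one_lt_card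
  have hq1 : 2 ≤ q := by
    by_contra h
    interval_cases q <;> omega
  by_cases hq2 : q = 2
  · subst hq2
    exact TwoFrame.eq_top_two hF hG (by omega) (by omega) hX
  by_cases h2 : (2 : F) = 0
  · have hq3 : q ≠ 3 := by
      rintro rfl
      have h9 : ((Fintype.card F : ℕ) : F) = 0 := Nat.cast_card_eq_zero F
      rw [hF] at h9
      have h10 : (1 : F) = 0 := by
        have h11 : ((3 ^ 2 : ℕ) : F) = 9 := by norm_num
        rw [h11] at h9
        linear_combination h9 - 4 * h2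
      exact one_ne_zero h10
    exact EvenFrame.eq_top_even hF h2 hG (by omega) (by omega) hX
  · exact OddFrame.eq_top_odd hF hG h2 hn (by omega) hX

/-- **Stabilisers of orthonormal frames are maximal in `SU_n(q)`**, `n ≥ 8`, all `q`. -/
theorem frame_maximal_eight (hF : Fintype.card F = q ^ 2) (hn : 8 ≤ n)
    (D : Fin t → Submodule F (Fin n → F))
    (hD : Cfsg.Geo.IsNondegenerateMDecomposition (Cfsg.hermForm n F q) 1 D) :
    Cfsg.Geo.IsMaximalIn (Cfsg.GU n F q ⊓ Cfsg.Geo.specialLinear (Fin n) F)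
      (Cfsg.Geo.decompositionStabilizer D ⊓ (Cfsg.GU n F q ⊓ Cfsg.Geo.specialLinear (Fin n) F)) :=
  frame_maximal hF (by omega) D hD (frame_top hF hn)

end Cfsg.Agent.H876.FrameMax
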