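import Cfsg.Agent.S0780
import Cfsg.Agent.ClassicalGeometry.UnitTransv
import Cfsg.Agent.ClassicalGeometry.HermOrtho
import Cfsg.Agent.H876.Basic

/-!
# The special unitary group as a subgroup of `GL` and the root vectors of an overgroup

`suGL : SU n F q →* GL (Fin n) F`; `InS q M v`: `v` is isotropic and the subgroup `M` of `GL` contains the full
transvection group with centre `v`. `InS.map`, `InS.smul`, `InS.line` (hyperbolic lines through two
non-orthogonal points); `su_le` : a subgroup with `InS` for all isotropic vectors contains `SU`.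
-/

set_option autoImplicit false
open Cfsg
open scoped Matrix MatrixGroups

namespace Cfsg.Agent.H876

open Cfsg.Agent.LieClassical.HermBasic Cfsg.Agent.ClassicalGeometry.UnitTransv
open Cfsg.Agent.ClassicalGeometry.HermOrtho

variable {F : Type*} [Field F] {n q : ℕ}

/-- `SU` as a subgroup of `GL`. -/
noncomputable def suGL (n : ℕ) (F : Type*) [Field F] (q : ℕ) : SU n F q →* GL (Fin n) F :=
  Matrix.SpecialLinearGroup.toGL.comp (SU n F q).subtype

theorem suGL_mulVec (A : SU n F q) (x : Fin n → F) :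
    (suGL n F q A : Matrix (Fin n) (Fin n) F) *ᵥ x = act A x := rfl

theorem suGL_mem (A : SU n F q) : suGL n F q A ∈ GU n F q ⊓ Geo.specialLinear (Fin n) F := by
  refine ⟨A.2, ?_⟩
  show Matrix.GeneralLinearGroup.det (Matrix.SpecialLinearGroup.toGL (A : Matrix.SpecialLinearGroup (Fin n) F)) = 1
  apply Units.ext
  exact (A : Matrix.SpecialLinearGroup (Fin n) F).2

theorem exists_suGL_eq {g : GL (Fin n) F} (hg : g ∈ GU n F q ⊓ Geo.specialLinear (Fin n) F) :
    ∃ A : SU n F q, suGL n F q A = g := by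
  obtain ⟨h1, h2⟩ := hg
  have hdet : (g : Matrix (Fin n) (Fin n) F).det = 1 := by
    have := congrArg Units.val (MonoidHom.mem_ker.1 h2)
    exact this
  exact ⟨⟨⟨(g : Matrix (Fin n) (Fin n) F), hdet⟩, h1⟩, Units.ext rfl⟩

theorem herm_gl {g : GL (Fin n) F} (hg : g ∈ GU n F q) (x y : Fin n → F) :
    hermForm n F q ((g : Matrix (Fin n) (Fin n) F) *ᵥ x) ((g : Matrix (Fin n) (Fin n) F) *ᵥ y) =
      hermForm n F q x y := hg x y

theorem herm_gl_inv {g : GL (Fin n) F} (hg : g ∈ GU n F q) (x y : Fin n → F) :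
    hermForm n F q (((g⁻¹ : GL (Fin n) F) : Matrix (Fin n) (Fin n) F) *ᵥ x) y =
      hermForm n F q x ((g : Matrix (Fin n) (Fin n) F) *ᵥ y) := by
  rw [← herm_gl hg, mulVec_inv_cancel]

/-- `v` is isotropic and `M` contains all transvections with centre `v`. -/
def InS (q : ℕ) (M : Subgroup (GL (Fin n) F)) (v : Fin n → F) : Prop :=
  hermForm n F q v v = 0 ∧ ∀ c : F, c + c ^ q = 0 → ∀ g : GL (Fin n) F,
    (∀ x, (g : Matrix (Fin n) (Fin n) F) *ᵥ x = x + (c * hermForm n F q x v) • v) → g ∈ M

variable {M : Subgroup (GL (Fin n) F)}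

theorem InS.iso {v : Fin n → F} (h : InS q M v) : hermForm n F q v v = 0 := h.1

theorem InS.mono {M' : Subgroup (GL (Fin n) F)} (hM : M ≤ M') {v : Fin n → F} (h : InS q M v) :
    InS q M' v := ⟨h.1, fun c hc g hg => hM (h.2 c hc g hg)⟩

theorem InS.map {g : GL (Fin n) F} (hgM : g ∈ M) (hg : g ∈ GU n F q) {v : Fin n → F}
    (h : InS q M v) : InS q M ((g : Matrix (Fin n) (Fin n) F) *ᵥ v) := by
  refine ⟨by rw [herm_gl hg, h.1], fun c hc t ht => ?_⟩
  have h1 : g⁻¹ * t * g ∈ M := by
    refine h.2 c hc _ fun x => ?_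
    rw [mul_mulVec, mul_mulVec, ht, Matrix.mulVec_add, inv_mulVec_cancel, Matrix.mulVec_smul,
      inv_mulVec_cancel, herm_gl hg]
  have h2 := M.mul_mem (M.mul_mem hgM h1) (M.inv_mem hgM)
  have h3 : g * (g⁻¹ * t * g) * g⁻¹ = t := by group
  rwa [h3] at h2

theorem InS.of_map {g : GL (Fin n) F} (hgM : g ∈ M) (hg : g ∈ GU n F q) {v : Fin n → F}
    (h : InS q M ((g : Matrix (Fin n) (Fin n) F) *ᵥ v)) : InS q M v := by
  have := InS.map (M.inv_mem hgM) ((GU n F q).inv_mem hg) h
  rwa [inv_mulVec_cancel] at this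

variable [Fintype F] (hF : Fintype.card F = q ^ 2)
include hF

/-- the transvection with centre `v` as an element of `GL`. -/
noncomputable def uGL (v : Fin n → F) (c : F) (hv : hermForm n F q v v = 0) (hc : c + c ^ q = 0) :
    GL (Fin n) F := suGL n F q (utv hF v c hv hc)

theorem uGL_mulVec {v : Fin n → F} {c : F} (hv : hermForm n F q v v = 0) (hc : c + c ^ q = 0)
    (x : Fin n → F) : (uGL hF v c hv hc : Matrix (Fin n) (Fin n) F) *ᵥ x =
      x + (c * hermForm n F q x v) • v := by
  rw [uGL, suGL_mulVec, act_utv]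

theorem uGL_mem {v : Fin n → F} {c : F} (hv : hermForm n F q v v = 0) (hc : c + c ^ q = 0) :
    uGL hF v c hv hc ∈ GU n F q ⊓ Geo.specialLinear (Fin n) F := suGL_mem _

theorem InS.smul {v : Fin n → F} (h : InS q M v) (a : F) : InS q M (a • v) := by
  refine ⟨by rw [herm_smul_left, herm_smul_right, h.1, mul_zero, mul_zero], fun c hc t ht => ?_⟩
  refine h.2 (c * (a * a ^ q)) ?_ t fun x => ?_
  · rw [mul_pow, norm_pow_q hF]
    linear_combination (a * a ^ q) * hc
  · rw [ht, herm_smul_right, smul_smul]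
    congr 2
    ring

theorem InS.uGL_mem' {v : Fin n → F} (h : InS q M v) {c : F} (hc : c + c ^ q = 0) :
    uGL hF v c h.1 hc ∈ M := h.2 c hc _ (uGL_mulVec hF h.1 hc)

theorem inS_of_forall {v : Fin n → F} (hv : hermForm n F q v v = 0)
    (h : ∀ c (hc : c + c ^ q = 0), uGL hF v c hv hc ∈ M) : InS q M v := by
  refine ⟨hv, fun c hc g hg => ?_⟩
  have : g = uGL hF v c hv hc := gl_ext fun x => by rw [hg, uGL_mulVec]
  rw [this]
  exact h c hc

/-- Hyperbolic lines: every isotropic vector in the span of two non-orthogonal root vectors of `M` is a root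
vector of `M`. -/
theorem InS.line {u v : Fin n → F} (hu : InS q M u) (hv : InS q M v)
    (huv : hermForm n F q u v ≠ 0) (a b : F)
    (hw : hermForm n F q (a • u + b • v) (a • u + b • v) = 0) : InS q M (a • u + b • v) := by
  by_cases hb : b = 0
  · subst hb
    rw [zero_smul, add_zero]
    exact InS.smul hF hu a
  · have hvu : hermForm n F q v u ≠ 0 := fun h => huv (herm_eq_zero_swap hF h)
    set c := a / b / hermForm n F q v u with hc
    have hsw : hermForm n F q u v = hermForm n F q v u ^ q := herm_swap hF v u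
    have htr : c + c ^ q = 0 := by
      have h1 : a * b ^ q * hermForm n F q u v + a ^ q * b * hermForm n F q v u = 0 := by
        rw [herm_add_left, herm_add_right hF, herm_add_right hF, herm_smul_left, herm_smul_left,
          herm_smul_left, herm_smul_left, herm_smul_right, herm_smul_right, herm_smul_right, herm_smul_right,
          hu.1, hv.1] at hw
        linear_combination hw
      have hq : (hermForm n F q v u) ^ q ≠ 0 := by rw [← hsw]; exact huv
      have hbq : b ^ q ≠ 0 := pow_ne_zero _ hb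
      rw [hsw] at h1
      rw [hc, div_pow, div_pow]
      rw [div_add_div _ _ hvu hq, div_eq_zero_iff]
      left
      field_simp
      linear_combination h1
    have h1 : InS q M ((uGL hF u c hu.1 htr : Matrix (Fin n) (Fin n) F) *ᵥ v) :=
      InS.map (InS.uGL_mem' hF hu htr) (uGL_mem hF hu.1 htr).1 hv
    rw [uGL_mulVec] at h1
    have h2 := InS.smul hF h1 b
    have h3 : b • (v + (c * hermForm n F q v u) • u) = a • u + b • v := by
      rw [smul_add, smul_smul, add_comm]
      congr 2
      rw [hc]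
      field_simp
    rwa [h3] at h2

/-- a subgroup of `GL` with all isotropic vectors as root vectors contains `SU`. -/
theorem su_le (hn : 3 ≤ n) (h32 : ¬ (n = 3 ∧ q = 2))
    (h : ∀ v : Fin n → F, hermForm n F q v v = 0 → InS q M v) :
    GU n F q ⊓ Geo.specialLinear (Fin n) F ≤ M := by
  intro g hg
  obtain ⟨A, rfl⟩ := exists_suGL_eq hg
  have key : (⊤ : Subgroup (SU n F q)) ≤ M.comap (suGL n F q) := by
    rw [← Cfsg.Agent.S0780.result hF n hn h32, Subgroup.closure_le]
    rintro B ⟨v, c, hv, hB⟩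
    rw [SetLike.mem_coe, Subgroup.mem_comap]
    rcases eq_one_or_utv hF hv hB with rfl | ⟨-, hc, rfl⟩
    · rw [map_one]; exact M.one_mem
    · exact InS.uGL_mem' hF (h v hv) hc
  exact key (Subgroup.mem_top A)

end Cfsg.Agent.H876
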