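import Cfsg.Agent.H927.FrameTop

/-!
# Overgroups of the monomial group of `SU_n(q)`, `q` even: a transvection of small weight

`TX X v`: `v` is isotropic and the transvection `x ↦ x + h(x,v) v` is in `X` (characteristic two).
`exists_three`: if `X` contains the monomial elements and a non-monomial one, there is `v` with `TX X v` of
weight at least three. `eq_top_even`: for `q ≥ 4` and `n ≥ 5` then `X = ⊤`.
-/

set_option autoImplicit false

namespace Cfsg.Agent.H876.EvenFrame

open Cfsg Cfsg.Agent.LieClassical.HermBasic Cfsg.Agent.LieClassical.HermSiegel Cfsg.Agent.H927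
open Cfsg.Agent.ClassicalGeometry.UnitTransv (utv act_utv)

variable {F : Type*} [Field F] {n q : ℕ}

/-- the transvection with centre `v` and parameter one is in `X`. -/
def TX (X : Subgroup (SU n F q)) (v : Fin n → F) : Prop :=
  hermForm n F q v v = 0 ∧ ∃ g ∈ X, ∀ x, act g x = x + hermForm n F q x v • v

variable {X : Subgroup (SU n F q)}

theorem TX.iso {v : Fin n → F} (h : TX X v) : hermForm n F q v v = 0 := h.1

theorem TX.map {v : Fin n → F} (h : TX X v) {g : SU n F q} (hg : g ∈ X) : TX X (act g v) := by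
  obtain ⟨hv, t, ht, hact⟩ := h
  refine ⟨by rw [herm_act, hv], g * t * g⁻¹, X.mul_mem (X.mul_mem hg ht) (X.inv_mem hg), fun x => ?_⟩
  have h1 : hermForm n F q (act g⁻¹ x) v = hermForm n F q x (act g v) := by
    rw [← herm_act g, act_act_inv]
  rw [act_mul, act_mul, hact, act_add, act_smul, act_act_inv, h1]

theorem TX.add {u v : Fin n → F} (hu : TX X u) (hv : TX X v) :
    TX X (u + hermForm n F q u v • v) := by
  obtain ⟨-, t, ht, hact⟩ := hv
  rw [← hact]
  exact hu.map ht

theorem TX.smul {v : Fin n → F} (h : TX X v) {c : F} (hc : c * c ^ q = 1) : TX X (c • v) := by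
  obtain ⟨hv, t, ht, hact⟩ := h
  refine ⟨by rw [herm_smul_left, herm_smul_right, hv, mul_zero, mul_zero], t, ht, fun x => ?_⟩
  rw [hact, herm_smul_right, smul_smul]
  congr 2
  linear_combination (-hermForm n F q x v) * hc

variable [Fintype F] (hF : Fintype.card F = q ^ 2) (h2 : (2 : F) = 0)
  (hG : ∀ g : SU n F q, IsMono g → g ∈ X)
include hF h2 hG

omit hG in
theorem herm_pair {i j : Fin n} (hij : i ≠ j) {α : F} (hα : α * α ^ q = 1) :
    hermForm n F q (Pi.single i 1 + α • Pi.single j 1) (Pi.single i 1 + α • Pi.single j 1) = 0 := by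
  rw [herm_add_left, herm_add_right hF, herm_add_right hF, herm_smul_left, herm_smul_left, herm_smul_right,
    herm_smul_right, herm_single_self hF, herm_single_self hF, herm_single_ne hF hij,
    herm_single_ne hF hij.symm]
  linear_combination hα + h2

omit hG h2 in
theorem herm_right_pair (x : Fin n → F) (i j : Fin n) (α : F) :
    hermForm n F q x (Pi.single i 1 + α • Pi.single j 1) = x i + α ^ q * x j := by
  rw [herm_add_right hF, herm_smul_right, H927.herm_single_right hF, H927.herm_single_right hF]

theorem tx_pair {i j : Fin n} (hij : i ≠ j) {α : F} (hα : α * α ^ q = 1) :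
    TX X (Pi.single i 1 + α • Pi.single j 1) := by
  have hv := herm_pair hF h2 hij hα
  have hc : (1 : F) + 1 ^ q = 0 := by rw [one_pow]; linear_combination h2
  have hact : ∀ x, act (utv hF _ 1 hv hc : SU n F q) x =
      x + hermForm n F q x (Pi.single i 1 + α • Pi.single j 1) • (Pi.single i 1 + α • Pi.single j 1) := by
    intro x
    have h1 := act_utv hF hv hc x
    rw [one_mul] at h1
    exact h1
  refine ⟨hv, utv hF _ 1 hv hc, hG _ ?_, hact⟩
  intro k
  by_cases hki : k = i
  · subst hki
    refine ⟨j, α, ?_⟩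
    rw [hact, herm_right_pair hF, Pi.single_eq_same, Pi.single_eq_of_ne hij.symm, mul_zero, add_zero, one_smul,
      ← add_assoc, ← two_smul F, h2, zero_smul, zero_add]
  by_cases hkj : k = j
  · subst hkj
    refine ⟨i, α ^ q, ?_⟩
    rw [hact, herm_right_pair hF, Pi.single_eq_same, Pi.single_eq_of_ne (Ne.symm hki), mul_one, zero_add,
      smul_add, smul_smul, add_left_comm, mul_comm, hα, one_smul, ← two_smul F, h2, zero_smul, add_zero]
  · refine ⟨k, 1, ?_⟩
    rw [hact, herm_right_pair hF, Pi.single_eq_of_ne (Ne.symm hki), Pi.single_eq_of_ne (Ne.symm hkj), mul_zero,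
      add_zero, zero_smul, add_zero, one_smul]

omit hG h2 in
/-- the weight of a non-zero isotropic vector is at least two. -/
theorem two_le_card {v : Fin n → F} (hv : hermForm n F q v v = 0) (h0 : v ≠ 0) : 2 ≤ (supp v).card := by
  by_contra hlt
  have h1 : (supp v).card ≤ 1 := by omega
  rw [Finset.card_le_one] at h1
  obtain ⟨l, hl⟩ : ∃ l, v l ≠ 0 := by
    by_contra hcon
    push Not at hcon
    exact h0 (funext hcon)
  have h3 : v = v l • Pi.single l 1 := by
    funext m
    rw [Pi.smul_apply, smul_eq_mul]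
    by_cases hm : m = l
    · subst hm
      rw [Pi.single_eq_same, mul_one]
    · rw [Pi.single_eq_of_ne hm, mul_zero]
      by_contra h4
      exact hm (h1 m (mem_supp.2 h4) l (mem_supp.2 hl))
  rw [h3, herm_smul_left, herm_smul_right, herm_single_self hF, mul_one] at hv
  rcases mul_eq_zero.1 hv with h | h
  · exact hl h
  · exact hl ((pow_q_eq_zero hF).1 h)

omit [Fintype F] hF h2 hG in
theorem exists_notMem_of_card_lt {s : Finset (Fin n)} (h : s.card < n) : ∃ i, i ∉ s := by
  by_contra hcon
  push Not at hcon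
  have h1 : (Finset.univ : Finset (Fin n)) ⊆ s := fun i _ => hcon i
  have h3 := Finset.card_le_card h1
  rw [Finset.card_univ, Fintype.card_fin] at h3
  omega

/-- If `X` is not monomial, it contains a transvection of weight at least three. -/
theorem exists_three (hn : 4 ≤ n) (hX : ∃ g ∈ X, ¬ IsMono g) : ∃ v, TX X v ∧ 3 ≤ (supp v).card := by
  classical
  by_contra hcon
  push Not at hcon
  obtain ⟨g, hg, hng⟩ := hX
  apply hng
  -- norm-one element different from one
  obtain ⟨α, hα, hα1⟩ := exists_norm_one_ne_conj hF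
  have hα1' : α ≠ 1 := by
    rintro rfl; exact hα1 (one_pow q)
  have hαq : α ^ q ≠ 1 := by
    intro h
    rw [h, mul_one] at hα
    exact hα1' hα
  -- the common support
  have key : ∀ j k : Fin n, j ≠ k → ∃ Q : Finset (Fin n), Q.card = 2 ∧
      supp (act g (Pi.single j 1)) ⊆ Q ∧ supp (act g (Pi.single k 1)) ⊆ Q := by
    intro j k hjk
    have hv := tx_pair hF h2 hG hjk (α := 1) (by rw [one_pow, mul_one])
    have hv' := tx_pair hF h2 hG hjk hα
    rw [one_smul] at hv
    obtain ⟨v, hvd⟩ : ∃ v : Fin n → F, v = Pi.single j 1 + Pi.single k 1 := ⟨_, rfl⟩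
    obtain ⟨v', hvd'⟩ : ∃ v' : Fin n → F, v' = Pi.single j 1 + α • Pi.single k 1 := ⟨_, rfl⟩
    rw [← hvd] at hv
    rw [← hvd'] at hv'
    have hvj : v j = 1 := by rw [hvd, Pi.add_apply, Pi.single_eq_same, Pi.single_eq_of_ne hjk, add_zero]
    have hvk : v k = 1 := by rw [hvd, Pi.add_apply, Pi.single_eq_same, Pi.single_eq_of_ne hjk.symm, zero_add]
    have hhx : ∀ x, hermForm n F q x v = x j + x k := by
      intro x
      have := herm_right_pair hF x j k 1
      rw [one_smul, one_pow, one_mul] at this
      rw [hvd, this]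
    have hhx' : ∀ x, hermForm n F q x v' = x j + α ^ q * x k := by
      intro x
      rw [hvd', herm_right_pair hF]
    have hvv' : hermForm n F q v v' ≠ 0 := by
      rw [hhx', hvj, hvk, mul_one]
      intro h
      apply hαq
      linear_combination h - h2
    obtain ⟨a, ha⟩ : ∃ a, a = act g v := ⟨_, rfl⟩
    obtain ⟨b, hb⟩ : ∃ b, b = act g v' := ⟨_, rfl⟩
    have hab : hermForm n F q a b ≠ 0 := by rw [ha, hb, herm_act]; exact hvv'
    have hTa : TX X a := by rw [ha]; exact hv.map hg
    have hTb : TX X b := by rw [hb]; exact hv'.map hg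
    have ha0 : a ≠ 0 := by
      rintro h; rw [h, herm_zero_left] at hab; exact hab rfl
    have hb0 : b ≠ 0 := by
      rintro h; rw [h, herm_zero_right hF] at hab; exact hab rfl
    have hca : (supp a).card = 2 := by
      have := hcon a hTa; have := two_le_card hF hTa.iso ha0; omega
    have hcb : (supp b).card = 2 := by
      have := hcon b hTb; have := two_le_card hF hTb.iso hb0; omega
    -- the supports agree
    have hsupp : supp a = supp b := by
      by_contra hne
      obtain ⟨k', hk'b, hk'a⟩ : ∃ k', k' ∈ supp b ∧ k' ∉ supp a := by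
        by_contra hc
        push Not at hc
        exact hne (Finset.eq_of_subset_of_card_le hc (by rw [hca, hcb])).symm
      obtain ⟨l, hl⟩ := exists_notMem_of_card_lt (s := supp a ∪ supp b) (n := n) (by
        have h3 : (supp a ∪ supp b).card < (supp a).card + (supp b).card := by
          have h4 := Finset.card_union_add_card_inter (supp a) (supp b)
          have h5 : (supp a ∩ supp b).card ≠ 0 := by
            intro h0
            rw [Finset.card_eq_zero] at h0
            apply hab
            rw [herm_def]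
            refine Finset.sum_eq_zero fun i _ => ?_
            by_cases hi : a i = 0
            · rw [hi, zero_mul]
            · by_cases hi' : b i = 0
              · rw [hi', zero_pow_q hF, mul_zero]
              · have : i ∈ supp a ∩ supp b := Finset.mem_inter.2 ⟨mem_supp.2 hi, mem_supp.2 hi'⟩
                rw [h0] at this
                exact absurd this (Finset.notMem_empty i)
          omega
        omega)
      rw [Finset.mem_union, not_or] at hl
      have hkl : k' ≠ l := by rintro rfl; exact hl.2 hk'b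
      have hc := tx_pair hF h2 hG hkl (α := 1) (by rw [one_pow, mul_one])
      rw [one_smul] at hc
      obtain ⟨c, hcd⟩ : ∃ c : Fin n → F, c = Pi.single k' 1 + Pi.single l 1 := ⟨_, rfl⟩
      rw [← hcd] at hc
      have hxc : ∀ x, hermForm n F q x c = x k' + x l := by
        intro x
        have := herm_right_pair hF x k' l 1
        rw [one_smul, one_pow, one_mul] at this
        rw [hcd, this]
      have hak' : a k' = 0 := by by_contra h; exact hk'a (mem_supp.2 h)
      have hal : a l = 0 := by by_contra h; exact hl.1 (mem_supp.2 h)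
      have hbl : b l = 0 := by by_contra h; exact hl.2 (mem_supp.2 h)
      have hac : hermForm n F q a c = 0 := by rw [hxc, hak', hal, add_zero]
      have hbc : hermForm n F q b c ≠ 0 := by
        rw [hxc, hbl, add_zero]; exact mem_supp.1 hk'b
      obtain ⟨c', hcd'⟩ : ∃ c', c' = act g⁻¹ c := ⟨_, rfl⟩
      have hgc' : act g c' = c := by rw [hcd', act_act_inv]
      have hTc' : TX X c' := by rw [hcd']; exact hc.map (X.inv_mem hg)
      have h3 : hermForm n F q c' v = 0 := by
        rw [← herm_act g, hgc', ← ha]; exact herm_eq_zero_swap hF hac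
      have h4 : hermForm n F q c' v' ≠ 0 := by
        rw [← herm_act g, hgc', ← hb]
        exact fun h => hbc (herm_eq_zero_swap hF h)
      rw [hhx] at h3
      rw [hhx'] at h4
      have h5 : c' k = c' j := by linear_combination h3 - c' j * h2
      have h6 : c' j ≠ 0 := by
        intro h0
        apply h4
        rw [h5, h0, mul_zero, add_zero]
      have h7 : supp c' = {j, k} := by
        symm
        apply Finset.eq_of_subset_of_card_le
        · intro m hm
          rw [Finset.mem_insert, Finset.mem_singleton] at hm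
          rw [mem_supp]
          rcases hm with rfl | rfl
          · exact h6
          · rw [h5]; exact h6
        · rw [Finset.card_pair hjk]
          have := hcon c' hTc'
          omega
      have h8 : c' = c' j • v := by
        funext m
        rw [Pi.smul_apply, smul_eq_mul, hvd, Pi.add_apply]
        by_cases hmj : m = j
        · subst hmj
          rw [Pi.single_eq_same, Pi.single_eq_of_ne hjk, add_zero, mul_one]
        · by_cases hmk : m = k
          · subst hmk
            rw [Pi.single_eq_same, Pi.single_eq_of_ne hmj, zero_add, mul_one, h5]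
          · rw [Pi.single_eq_of_ne hmj, Pi.single_eq_of_ne hmk, add_zero, mul_zero]
            by_contra h9
            have h10 := mem_supp.2 h9
            rw [h7, Finset.mem_insert, Finset.mem_singleton] at h10
            rcases h10 with h10 | h10
            · exact hmj h10
            · exact hmk h10
      have h9 : c = c' j • a := by rw [← hgc', h8, act_smul, ha]; simp [hvj]
      have h10 : c k' = 1 := by
        rw [hcd, Pi.add_apply, Pi.single_eq_same, Pi.single_eq_of_ne hkl, add_zero]
      rw [h9, Pi.smul_apply, hak', smul_zero] at h10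
      exact zero_ne_one h10
    refine ⟨supp a, hca, ?_, ?_⟩
    · intro m hm
      by_contra hma
      have h3 : a m = 0 := by by_contra h; exact hma (mem_supp.2 h)
      have h4 : b m = 0 := by by_contra h; exact hma (hsupp ▸ mem_supp.2 h)
      have h5 : a m = act g (Pi.single j 1) m + act g (Pi.single k 1) m := by
        rw [ha, hvd, act_add, Pi.add_apply]
      have h6 : b m = act g (Pi.single j 1) m + α * act g (Pi.single k 1) m := by
        rw [hb, hvd', act_add, act_smul, Pi.add_apply, Pi.smul_apply, smul_eq_mul]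
      have h7 : (α - 1) * act g (Pi.single j 1) m = 0 := by
        linear_combination α * (h3 - h5) - (h4 - h6)
      exact mem_supp.1 hm ((mul_eq_zero.1 h7).resolve_left (sub_ne_zero.2 hα1'))
    · intro m hm
      by_contra hma
      have h3 : a m = 0 := by by_contra h; exact hma (mem_supp.2 h)
      have h4 : b m = 0 := by by_contra h; exact hma (hsupp ▸ mem_supp.2 h)
      have h5 : a m = act g (Pi.single j 1) m + act g (Pi.single k 1) m := by
        rw [ha, hvd, act_add, Pi.add_apply]
      have h6 : b m = act g (Pi.single j 1) m + α * act g (Pi.single k 1) m := by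
        rw [hb, hvd', act_add, act_smul, Pi.add_apply, Pi.smul_apply, smul_eq_mul]
      have h7 : (α - 1) * act g (Pi.single k 1) m = 0 := by
        linear_combination -(h3 - h5) + (h4 - h6)
      exact mem_supp.1 hm ((mul_eq_zero.1 h7).resolve_left (sub_ne_zero.2 hα1'))
  -- every column has weight one
  intro j
  obtain ⟨k1, hk1⟩ := exists_notMem_of_card_lt (s := {j}) (n := n) (by simp; omega)
  obtain ⟨k2, hk2⟩ := exists_notMem_of_card_lt (s := {j, k1}) (n := n)
    (lt_of_le_of_lt Finset.card_le_two (by omega))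
  simp only [Finset.mem_insert, Finset.mem_singleton, not_or] at hk1 hk2
  obtain ⟨Q1, hQ1, hj1, hk1'⟩ := key j k1 (Ne.symm hk1)
  obtain ⟨Q2, hQ2, hj2, hk2'⟩ := key j k2 (Ne.symm hk2.1)
  have hQ : Q1 ≠ Q2 := by
    rintro rfl
    obtain ⟨a, b, hab, rfl⟩ := Finset.card_eq_two.1 hQ1
    set x := act g (Pi.single j 1) with hx
    set y := act g (Pi.single k1 1) with hy
    set z := act g (Pi.single k2 1) with hz
    have hout : ∀ w : Fin n → F, supp w ⊆ {a, b} → ∀ l, l ≠ a → l ≠ b → w l = 0 := by
      intro w hw l hla hlb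
      by_contra h
      have := hw (mem_supp.2 h)
      simp only [Finset.mem_insert, Finset.mem_singleton] at this
      rcases this with h | h
      · exact hla h
      · exact hlb h
    have hyz : hermForm n F q y z = 0 := by
      rw [hy, hz, herm_act, herm_single_ne hF (Ne.symm hk2.2)]
    have hzz : hermForm n F q z z = 1 := by rw [hz, herm_act, herm_single_self hF]
    have hcross : y a * z b - y b * z a = 0 := by
      -- the combination with the cross product
      have h3 : (y a * z b - y b * z a) • x + (z a * x b - z b * x a) • y + (x a * y b - x b * y a) • z = 0 := by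
        funext l
        simp only [Pi.add_apply, Pi.smul_apply, smul_eq_mul, Pi.zero_apply]
        by_cases hla : l = a
        · subst hla; ring
        by_cases hlb : l = b
        · subst hlb; ring
        rw [hout x hj1 l hla hlb, hout y hk1' l hla hlb, hout z hk2' l hla hlb]
        ring
      have h4 : act g ((y a * z b - y b * z a) • Pi.single j 1 + (z a * x b - z b * x a) • Pi.single k1 1 +
          (x a * y b - x b * y a) • Pi.single k2 1) = 0 := by
        rw [act_add, act_add, act_smul, act_smul, act_smul]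
        exact h3
      rw [act_eq_zero] at h4
      have h5 := congrFun h4 j
      rw [Pi.add_apply, Pi.add_apply, Pi.smul_apply, Pi.smul_apply, Pi.smul_apply, Pi.single_eq_same,
        Pi.single_eq_of_ne (Ne.symm hk1), Pi.single_eq_of_ne (Ne.symm hk2.1)] at h5
      simpa using h5
    rw [herm_two hab (hout y hk1')] at hyz
    rw [herm_two hab (hout z hk2')] at hzz
    have hya : y a = 0 := by
      have : y a * (z a * z a ^ q + z b * z b ^ q) = 0 := by
        linear_combination z a * hyz + z b ^ q * hcross
      rw [hzz, mul_one] at this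
      exact this
    have hyb : y b = 0 := by
      have : y b * (z a * z a ^ q + z b * z b ^ q) = 0 := by
        linear_combination z b * hyz - z a ^ q * hcross
      rw [hzz, mul_one] at this
      exact this
    have hyy : hermForm n F q y y = 1 := by rw [hy, herm_act, herm_single_self hF]
    rw [herm_two hab (hout y hk1'), hya, hyb, zero_mul, add_zero] at hyy
    exact zero_ne_one hyy
  have hcard : (supp (act g (Pi.single j 1))).card ≤ 1 := by
    by_contra hlt
    have h3 : supp (act g (Pi.single j 1)) = Q1 :=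
      Finset.eq_of_subset_of_card_le hj1 (by omega)
    have h4 : supp (act g (Pi.single j 1)) = Q2 :=
      Finset.eq_of_subset_of_card_le hj2 (by omega)
    exact hQ (h3.symm.trans h4)
  obtain ⟨l, hl⟩ : ∃ l, act g (Pi.single j 1) l ≠ 0 := by
    by_contra hc
    push Not at hc
    have h3 : act g (Pi.single j 1) = 0 := funext hc
    rw [act_eq_zero] at h3
    have h4 := congrFun h3 j
    rw [Pi.single_eq_same] at h4
    exact one_ne_zero h4
  refine ⟨l, act g (Pi.single j 1) l, ?_⟩
  rw [Finset.card_le_one] at hcard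
  funext m
  rw [Pi.smul_apply, smul_eq_mul]
  by_cases hm : m = l
  · subst hm; rw [Pi.single_eq_same, mul_one]
  · rw [Pi.single_eq_of_ne hm, mul_zero]
    by_contra h0
    exact hm (hcard m (mem_supp.2 h0) l (mem_supp.2 hl))

omit h2 hG in
open Classical in
/-- the number of values of `t ↦ ρ + Tr(t w)` on the elements of norm one. -/
theorem card_values {w ρ : F} (hw : w ≠ 0) (hρ : ρ ^ q = ρ) :
    ((Finset.univ.filter (fun t : F => t * t ^ q = 1)).image (fun t => ρ + (t * w + (t * w) ^ q))) ⊆
        Finset.univ.filter (fun t : F => t ^ q = t) ∧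
      q + 1 ≤ 2 * ((Finset.univ.filter (fun t : F => t * t ^ q = 1)).image
        (fun t => ρ + (t * w + (t * w) ^ q))).card := by
  set S : Finset F := Finset.univ.filter (fun t => t * t ^ q = 1) with hS
  have hScard : S.card = q + 1 := by
    rw [← card_norm_eq_one hF, Nat.card_eq_fintype_card, Fintype.card_subtype]
  constructor
  · intro x hx
    rw [Finset.mem_image] at hx
    obtain ⟨t, ht, rfl⟩ := hx
    rw [Finset.mem_filter]
    refine ⟨Finset.mem_univ _, ?_⟩
    rw [add_pow_q hF, hρ, trace_pow_q hF]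
  · rw [← hScard]
    apply Finset.card_le_mul_card_image
    intro a ha
    -- the fibre consists of roots of a quadratic polynomial
    have hq2 : (Polynomial.C w * Polynomial.X ^ 2 + Polynomial.C (ρ - a) * Polynomial.X +
        Polynomial.C (w ^ q) : Polynomial F) ≠ 0 := by
      intro h0
      have h1 := Polynomial.degree_quadratic (a := w) (b := ρ - a) (c := w ^ q) hw
      rw [h0, Polynomial.degree_zero] at h1
      exact absurd h1 (by decide)
    have hsub : {x ∈ S | ρ + (x * w + (x * w) ^ q) = a} ⊆ (Polynomial.C w * Polynomial.X ^ 2 +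
        Polynomial.C (ρ - a) * Polynomial.X + Polynomial.C (w ^ q) : Polynomial F).roots.toFinset := by
      intro x hx
      rw [Finset.mem_filter, hS, Finset.mem_filter] at hx
      rw [Multiset.mem_toFinset, Polynomial.mem_roots hq2, Polynomial.IsRoot]
      simp only [Polynomial.eval_add, Polynomial.eval_mul, Polynomial.eval_C,
        Polynomial.eval_pow, Polynomial.eval_X]
      have h1 := hx.2
      rw [mul_pow] at h1
      linear_combination x * h1 - w ^ q * hx.1.2
    refine (Finset.card_le_card hsub).trans ((Multiset.toFinset_card_le _).trans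
      ((Polynomial.card_roots' _).trans ?_))
    compute_degree

omit h2 hG in
open Classical in
theorem card_fix : (Finset.univ.filter (fun t : F => t ^ q = t)).card = q := by
  have := card_fixed hF
  rw [Nat.card_eq_fintype_card, Fintype.card_subtype] at this
  exact this

omit hG in
theorem even_q : Even q := by
  have h1 : ((Fintype.card F : ℕ) : F) = 0 := FiniteField.cast_card_eq_zero F
  rw [hF] at h1
  by_contra hodd
  rw [Nat.not_even_iff_odd] at hodd
  obtain ⟨m, hm⟩ := hodd
  have h3 : ((q : ℕ) : F) = 1 := by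
    rw [hm]; push_cast; linear_combination (m : F) * h2
  push_cast at h1
  rw [h3, one_pow] at h1
  exact one_ne_zero h1

omit hG in
/-- two sums of values -/
theorem exists_values {w w' ρ ρ' : F} (hw : w ≠ 0) (hw' : w' ≠ 0) (hρ : ρ ^ q = ρ)
    (hρ' : ρ' ^ q = ρ') :
    ∃ t t' : F, t * t ^ q = 1 ∧ t' * t' ^ q = 1 ∧
      (ρ + (t * w + (t * w) ^ q)) + (ρ' + (t' * w' + (t' * w') ^ q)) = 1 ∧
      ρ' + (t' * w' + (t' * w') ^ q) ≠ 0 := by
  classical
  have hev := even_q hF h2
  obtain ⟨h1, h3⟩ := card_values hF hw hρ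
  obtain ⟨h4, h5⟩ := card_values hF hw' hρ'
  have hT := card_fix (F := F) hF
  set T : Finset F := Finset.univ.filter (fun t => t ^ q = t) with hTd
  set A : Finset F := (Finset.univ.filter (fun t : F => t * t ^ q = 1)).image
    (fun t => ρ + (t * w + (t * w) ^ q)) with hA
  set B : Finset F := (Finset.univ.filter (fun t : F => t * t ^ q = 1)).image
    (fun t => ρ' + (t * w' + (t * w') ^ q)) with hB
  set B' : Finset F := (B.erase 0).image (fun x => 1 - x) with hB'
  have hinj : Function.Injective (fun x : F => 1 - x) := by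
    intro x y h
    have h : 1 - x = 1 - y := h
    linear_combination -h
  have hB'card : B.card ≤ B'.card + 1 := by
    have h7 : B'.card = (B.erase 0).card := Finset.card_image_of_injective _ hinj
    have h6 := Finset.pred_card_le_card_erase (s := B) (a := (0 : F))
    omega
  have hB'T : B' ⊆ T := by
    intro x hx
    rw [hB', Finset.mem_image] at hx
    obtain ⟨y, hy, rfl⟩ := hx
    have := h4 (Finset.mem_of_mem_erase hy)
    rw [hTd, Finset.mem_filter] at this ⊢
    refine ⟨Finset.mem_univ _, ?_⟩
    rw [sub_pow_q hF, one_pow, this.2]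
  have hnd : ¬ Disjoint A B' := by
    intro hd
    have h6 := Finset.card_le_card (Finset.union_subset h1 hB'T)
    rw [Finset.card_union_of_disjoint hd, hT] at h6
    obtain ⟨m, hm⟩ := hev
    omega
  rw [Finset.not_disjoint_iff] at hnd
  obtain ⟨x, hx, hx'⟩ := hnd
  rw [hB', Finset.mem_image] at hx'
  obtain ⟨y, hy, rfl⟩ := hx'
  rw [Finset.mem_erase] at hy
  rw [hA, Finset.mem_image] at hx
  obtain ⟨t, ht, htx⟩ := hx
  rw [hB, Finset.mem_image] at hy
  obtain ⟨hy0, t', ht', hty⟩ := hy
  rw [Finset.mem_filter] at ht ht'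
  refine ⟨t, t', ht.2, ht'.2, ?_, ?_⟩
  · rw [htx, hty]; ring
  · rw [hty]; exact hy0

omit h2 hG in
theorem norm_add_mul (a b t : F) :
    (a + t ^ q * b) * (a + t ^ q * b) ^ q = a * a ^ q + (t * t ^ q) * (b * b ^ q) +
      (t * (a * b ^ q) + (t * (a * b ^ q)) ^ q) := by
  rw [add_pow_q hF, mul_pow, mul_pow, mul_pow, pow_q_pow_q hF, pow_q_pow_q hF]
  ring

/-- the key step: a vector of weight four. -/
theorem exists_four {v : Fin n → F} (hv : TX X v) {i j k l : Fin n} (hij : i ≠ j) (hik : i ≠ k) (hil : i ≠ l)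
    (hjk : j ≠ k) (hjl : j ≠ l) (hkl : k ≠ l) (hi : v i ≠ 0) (hj : v j ≠ 0) (hk : v k ≠ 0) (hl : v l ≠ 0)
    (hne : v i * v i ^ q ≠ v j * v j ^ q) :
    ∃ w, TX X w ∧ supp w = {i, j, k, l} := by
  classical
  obtain ⟨t, t', ht, ht', hsum, hne'⟩ := exists_values hF h2 (w := v i * v j ^ q) (w' := v k * v l ^ q)
    (ρ := v i * v i ^ q + v j * v j ^ q) (ρ' := v k * v k ^ q + v l * v l ^ q)
    (mul_ne_zero hi (pow_ne_zero _ hj)) (mul_ne_zero hk (pow_ne_zero _ hl))
    (by rw [add_pow_q hF, norm_pow_q hF, norm_pow_q hF])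
    (by rw [add_pow_q hF, norm_pow_q hF, norm_pow_q hF])
  have hlam : v i * v i ^ q + v j * v j ^ q + (t * (v i * v j ^ q) + (t * (v i * v j ^ q)) ^ q) =
      (v i + t ^ q * v j) * (v i + t ^ q * v j) ^ q := by
    rw [norm_add_mul hF, ht, one_mul]
  have hlam' : v k * v k ^ q + v l * v l ^ q + (t' * (v k * v l ^ q) + (t' * (v k * v l ^ q)) ^ q) =
      (v k + t' ^ q * v l) * (v k + t' ^ q * v l) ^ q := by
    rw [norm_add_mul hF, ht', one_mul]
  rw [hlam, hlam'] at hsum
  rw [hlam'] at hne'
  obtain ⟨lam, hlamd⟩ : ∃ lam, lam = v i + t ^ q * v j := ⟨_, rfl⟩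
  obtain ⟨lam', hlamd'⟩ : ∃ lam', lam' = v k + t' ^ q * v l := ⟨_, rfl⟩
  rw [← hlamd, ← hlamd'] at hsum
  rw [← hlamd'] at hne'
  have hl'0 : lam' ≠ 0 := left_ne_zero_of_mul hne'
  have hl0 : lam ≠ 0 := by
    rintro h0
    have h3 : v i = -(t ^ q * v j) := by rw [hlamd] at h0; linear_combination h0
    apply hne
    rw [h3, neg_pow_q hF, mul_pow, pow_q_pow_q hF]
    linear_combination (v j * v j ^ q) * ht
  have ht0 : t ≠ 0 := n1_ne_zero ht
  have ht0' : t' ≠ 0 := n1_ne_zero ht'
  have hu := tx_pair hF h2 hG hij ht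
  have hu' := tx_pair hF h2 hG hkl ht'
  obtain ⟨u, hud⟩ : ∃ u : Fin n → F, u = Pi.single i 1 + t • Pi.single j 1 := ⟨_, rfl⟩
  obtain ⟨u', hud'⟩ : ∃ u' : Fin n → F, u' = Pi.single k 1 + t' • Pi.single l 1 := ⟨_, rfl⟩
  rw [← hud] at hu
  rw [← hud'] at hu'
  have hhu : ∀ x, hermForm n F q x u = x i + t ^ q * x j := fun x => by rw [hud, herm_right_pair hF]
  have hhu' : ∀ x, hermForm n F q x u' = x k + t' ^ q * x l := fun x => by rw [hud', herm_right_pair hF]
  have huk : u k = 0 := by
    rw [hud]; simp [Pi.single_eq_of_ne hik.symm, Pi.single_eq_of_ne hjk.symm]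
  have hul : u l = 0 := by
    rw [hud]; simp [Pi.single_eq_of_ne hil.symm, Pi.single_eq_of_ne hjl.symm]
  have h1 := hv.add hu
  have h3 := h1.add hu'
  have e1 : hermForm n F q v u = lam := by rw [hhu, hlamd]
  have e2 : hermForm n F q (v + lam • u) u' = lam' := by
    rw [herm_add_left, herm_smul_left, hhu' u, huk, hul, hhu', hlamd']; ring
  rw [e1, e2] at h3
  rw [e1] at h1
  have e3 : hermForm n F q u v = lam ^ q := by rw [herm_swap hF v u, e1]
  have e4 : hermForm n F q u' v = lam' ^ q := by
    rw [herm_swap hF v u', hhu', hlamd']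
  have e5 : hermForm n F q (v + lam • u + lam' • u') v = 1 := by
    rw [herm_add_left, herm_add_left, herm_smul_left, herm_smul_left, hv.iso, e3, e4]
    linear_combination hsum
  have h5 := h3.add hv
  rw [e5, one_smul] at h5
  have h6 : v + lam • u + lam' • u' + v = lam • u + lam' • u' := by
    have : v + lam • u + lam' • u' + v = (2 : F) • v + (lam • u + lam' • u') := by
      rw [two_smul]; abel
    rw [this, h2, zero_smul, zero_add]
  rw [h6] at h5
  refine ⟨_, h5, ?_⟩
  ext m
  rw [mem_supp, hud, hud']
  simp only [Pi.add_apply, Pi.smul_apply, smul_eq_mul, Finset.mem_insert, Finset.mem_singleton]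
  by_cases hmi : m = i
  · subst hmi
    simp [hij, hik, hil, hl0]
  by_cases hmj : m = j
  · subst hmj
    simp [hij.symm, hjk, hjl, hl0, ht0]
  by_cases hmk : m = k
  · subst hmk
    simp [hik.symm, hjk.symm, hkl, hl'0]
  by_cases hml : m = l
  · subst hml
    simp [hil.symm, hjl.symm, hkl.symm, hl'0, ht0']
  simp [hmi, hmj, hmk, hml]

/-- for `q ≥ 4`: a vector of weight between `3` and `n - 1`. -/
theorem exists_mid (hq : 4 ≤ q) (hn : 5 ≤ n) {v : Fin n → F} (hv : TX X v) (h3 : 3 ≤ (supp v).card) :
    ∃ w, TX X w ∧ 3 ≤ (supp w).card ∧ (supp w).card < n := by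
  classical
  by_cases hlt : (supp v).card < n
  · exact ⟨v, hv, h3, hlt⟩
  have hfull : ∀ (v : Fin n → F), ¬ (supp v).card < n → ∀ i, v i ≠ 0 := by
    intro v hlt i
    have h1 : supp v = Finset.univ := by
      apply Finset.eq_univ_of_card
      rw [Fintype.card_fin]
      have := Finset.card_le_univ (supp v)
      rw [Fintype.card_fin] at this
      omega
    exact mem_supp.1 (by rw [h1]; exact Finset.mem_univ i)
  have hsix : ∀ s : Finset (Fin n), s.card ≤ 4 → ∃ i, i ∉ s := fun s hs =>
    exists_notMem_of_card_lt (by omega)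
  -- if the norms are not all equal
  have hdiff : ∀ v : Fin n → F, TX X v → ¬ (supp v).card < n → (∃ i j, v i * v i ^ q ≠ v j * v j ^ q) →
      ∃ w, TX X w ∧ 3 ≤ (supp w).card ∧ (supp w).card < n := by
    intro v hv hlt ⟨i, j, hne⟩
    have hij : i ≠ j := by rintro rfl; exact hne rfl
    obtain ⟨k, hk⟩ := hsix {i, j} (Finset.card_le_two.trans (by norm_num))
    obtain ⟨l, hl⟩ := hsix {i, j, k} (Finset.card_le_three.trans (by norm_num))
    simp only [Finset.mem_insert, Finset.mem_singleton, not_or] at hk hl
    obtain ⟨w, hw, hws⟩ := exists_four hF h2 hG hv hij (Ne.symm hk.1) (Ne.symm hl.1) (Ne.symm hk.2)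
      (Ne.symm hl.2.1) (Ne.symm hl.2.2) (hfull v hlt i) (hfull v hlt j) (hfull v hlt k) (hfull v hlt l) hne
    have hcard : (supp w).card = 4 := by
      rw [hws]
      rw [Finset.card_insert_of_notMem, Finset.card_insert_of_notMem, Finset.card_pair]
      · exact Ne.symm hl.2.2
      · simp only [Finset.mem_insert, Finset.mem_singleton, not_or]
        exact ⟨Ne.symm hk.2, Ne.symm hl.2.1⟩
      · simp only [Finset.mem_insert, Finset.mem_singleton, not_or]
        exact ⟨hij, Ne.symm hk.1, Ne.symm hl.1⟩
    exact ⟨w, hw, by omega, by omega⟩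
  by_cases hall : ∃ i j, v i * v i ^ q ≠ v j * v j ^ q
  · exact hdiff v hv hlt hall
  push Not at hall
  have hv0 := hfull v hlt
  have hij : (⟨0, by omega⟩ : Fin n) ≠ ⟨1, by omega⟩ := by
    intro h; exact absurd (Fin.mk.inj h) (by norm_num)
  obtain ⟨i, hi⟩ : ∃ i : Fin n, i = ⟨0, by omega⟩ := ⟨_, rfl⟩
  obtain ⟨j, hj⟩ : ∃ j : Fin n, j = ⟨1, by omega⟩ := ⟨_, rfl⟩
  rw [← hi, ← hj] at hij
  -- a good value
  obtain ⟨t, ht, ht0, ht1⟩ : ∃ t : F, t * t ^ q = 1 ∧
      t * (v i * v j ^ q) + (t * (v i * v j ^ q)) ^ q ≠ 0 ∧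
      t * (v i * v j ^ q) + (t * (v i * v j ^ q)) ^ q ≠ 1 := by
    obtain ⟨h4, h5⟩ := card_values hF (w := v i * v j ^ q) (ρ := 0)
      (mul_ne_zero (hv0 i) (pow_ne_zero _ (hv0 j))) (zero_pow_q hF)
    by_contra hcon
    push Not at hcon
    have h6 : ((Finset.univ.filter (fun t : F => t * t ^ q = 1)).image
        (fun t => 0 + (t * (v i * v j ^ q) + (t * (v i * v j ^ q)) ^ q))) ⊆ {0, 1} := by
      intro x hx
      rw [Finset.mem_image] at hx
      obtain ⟨t, ht, rfl⟩ := hx
      rw [Finset.mem_filter] at ht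
      rw [Finset.mem_insert, Finset.mem_singleton, zero_add]
      by_cases h0 : t * (v i * v j ^ q) + (t * (v i * v j ^ q)) ^ q = 0
      · exact Or.inl h0
      · exact Or.inr (hcon t ht.2 h0)
    have h7 := Finset.card_le_card h6
    have h8 : ({0, 1} : Finset F).card ≤ 2 := Finset.card_le_two
    have h9 := even_q hF h2
    obtain ⟨m, hm⟩ := h9
    omega
  obtain ⟨x, hx⟩ : ∃ x, x = t * (v i * v j ^ q) + (t * (v i * v j ^ q)) ^ q := ⟨_, rfl⟩
  rw [← hx] at ht0 ht1
  have hu := tx_pair hF h2 hG hij ht
  obtain ⟨u, hud⟩ : ∃ u : Fin n → F, u = Pi.single i 1 + t • Pi.single j 1 := ⟨_, rfl⟩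
  rw [← hud] at hu
  obtain ⟨lam, hlam⟩ : ∃ lam, lam = v i + t ^ q * v j := ⟨_, rfl⟩
  have hNl : lam * lam ^ q = x := by
    rw [hlam, norm_add_mul hF, ht, one_mul, hx, hall i j]
    linear_combination (v j * v j ^ q) * h2
  have hvu : hermForm n F q v u = lam := by rw [hud, herm_right_pair hF, hlam]
  have huv : hermForm n F q u v = lam ^ q := by rw [herm_swap hF v u, hvu]
  have hw := hu.add hv
  rw [huv] at hw
  obtain ⟨w, hwd⟩ : ∃ w, w = u + lam ^ q • v := ⟨_, rfl⟩
  rw [← hwd] at hw
  have hlq : lam ^ q ≠ 0 := by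
    intro h0
    apply ht0
    rw [← hNl, h0, mul_zero]
  have hwk : ∀ k, k ≠ i → k ≠ j → w k = lam ^ q * v k := by
    intro k hki hkj
    rw [hwd, hud]
    simp [Pi.single_eq_of_ne hki, Pi.single_eq_of_ne hkj]
  have hwi : w i = 1 + lam ^ q * v i := by
    rw [hwd, hud]
    simp [Pi.single_eq_of_ne hij]
  have hcard : 3 ≤ (supp w).card := by
    have h4 : (Finset.univ.erase i).erase j ⊆ supp w := by
      intro k hk
      rw [Finset.mem_erase, Finset.mem_erase] at hk
      rw [mem_supp, hwk k hk.2.1 hk.1]
      exact mul_ne_zero hlq (hv0 k)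
    have h5 := Finset.card_le_card h4
    rw [Finset.card_erase_of_mem (Finset.mem_erase.2 ⟨hij.symm, Finset.mem_univ _⟩),
      Finset.card_erase_of_mem (Finset.mem_univ _), Finset.card_univ, Fintype.card_fin] at h5
    omega
  by_cases hlt' : (supp w).card < n
  · exact ⟨w, hw, hcard, hlt'⟩
  refine hdiff w hw hlt' ?_
  obtain ⟨k, hk⟩ := hsix {i, j} (Finset.card_le_two.trans (by norm_num))
  simp only [Finset.mem_insert, Finset.mem_singleton, not_or] at hk
  refine ⟨i, k, fun h => ht1 ?_⟩
  rw [hwk k hk.1 hk.2, hwi] at h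
  -- norms
  have e1 : (1 + lam ^ q * v i) * (1 + lam ^ q * v i) ^ q = 1 + (lam ^ q * v i + lam * v i ^ q) +
      (lam * lam ^ q) * (v i * v i ^ q) := by
    rw [add_pow_q hF, one_pow, mul_pow, pow_q_pow_q hF]; ring
  have e2 : (lam ^ q * v k) * (lam ^ q * v k) ^ q = (lam * lam ^ q) * (v k * v k ^ q) := by
    rw [mul_pow, pow_q_pow_q hF]; ring
  have e3 : lam ^ q * v i + lam * v i ^ q = x := by
    rw [hlam, add_pow_q hF, mul_pow, pow_q_pow_q hF, hx, mul_pow, mul_pow, pow_q_pow_q hF]
    linear_combination (v i * v i ^ q) * h2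
  rw [e1, e2, e3, hall k i] at h
  linear_combination h - h2

/-- `q ≥ 4` even, `n ≥ 5`: a subgroup containing the monomial elements and a non-monomial one is everything. -/
theorem eq_top_even (hq : 4 ≤ q) (hn : 5 ≤ n) (hX : ∃ g ∈ X, ¬ IsMono g) : X = ⊤ := by
  obtain ⟨v, hv, h3⟩ := exists_three hF h2 hG (by omega) hX
  obtain ⟨w, hw, hw3, hwn⟩ := exists_mid hF h2 hG hq hn hv h3
  obtain ⟨k, hk⟩ := exists_notMem_of_card_lt hwn
  have hwk : w k = 0 := by by_contra h; exact hk (mem_supp.2 h)
  obtain ⟨hiso, g, hg, hact⟩ := hw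
  refine eq_top_of_fix hF hG (by omega) (by omega) hg ?_ (k := k) (c := 1) ?_
  · intro hmono
    obtain ⟨i, hi⟩ : (supp w).Nonempty := Finset.card_pos.1 (by omega)
    obtain ⟨l, c, hlc⟩ := hmono i
    rw [hact, H927.herm_single_left] at hlc
    obtain ⟨a, ha⟩ : ((supp w \ {i, l})).Nonempty := by
      rw [← Finset.card_pos]
      have h5 := Finset.le_card_sdiff {i, l} (supp w)
      have h6 : ({i, l} : Finset (Fin n)).card ≤ 2 := Finset.card_le_two
      omega
    simp only [Finset.mem_sdiff, Finset.mem_insert, Finset.mem_singleton, not_or] at ha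
    have h7 := congrFun hlc a
    rw [Pi.add_apply, Pi.smul_apply, Pi.smul_apply, Pi.single_eq_of_ne ha.2.1, Pi.single_eq_of_ne ha.2.2,
      zero_add, smul_zero, smul_eq_mul] at h7
    rcases mul_eq_zero.1 h7 with h8 | h8
    · exact mem_supp.1 hi ((pow_q_eq_zero hF).1 h8)
    · exact mem_supp.1 ha.1 h8
  · rw [hact, H927.herm_single_left, hwk, zero_pow_q hF, zero_smul, add_zero, one_smul]

end Cfsg.Agent.H876.EvenFrame
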