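import Cfsg.Agent.H876.OddFinal

/-!
# Overgroups of the monomial group of `SU_4(q)`, `q ≥ 4`: non-monomial elements have no zero entry

Under `hstar` (an element of `X` fixing a coordinate line is monomial).
-/

set_option autoImplicit false

namespace Cfsg.Agent.H876.Four

open Cfsg Cfsg.Agent.LieClassical.HermBasic Cfsg.Agent.LieClassical.HermSiegel Cfsg.Agent.H927
open Cfsg.Agent.H876.MonoBasic Cfsg.Agent.H876.OddFrame

variable {F : Type*} [Field F] {n q : ℕ}

/-- matrix entries -/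
def ent (g : SU n F q) (i k : Fin n) : F := act g (Pi.single k 1) i

/-- diagonal elements with given entries -/
def Dg (g : SU n F q) (d : Fin n → F) : Prop := ∀ x l, act g x l = d l * x l

theorem Dg.single {g : SU n F q} {d : Fin n → F} (h : Dg g d) (k : Fin n) :
    act g (Pi.single k 1) = d k • Pi.single k 1 := by
  funext l
  rw [h, Pi.smul_apply, smul_eq_mul]
  by_cases hl : l = k
  · subst hl; rfl
  · rw [Pi.single_eq_of_ne hl, mul_zero, mul_zero]

theorem Dg.isDiag {g : SU n F q} {d : Fin n → F} (h : Dg g d) : IsDiag g := ⟨d, h.single⟩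

theorem Dg.isMono {g : SU n F q} {d : Fin n → F} (h : Dg g d) : IsMono g := h.isDiag.isMono

theorem exists_dg_of_isDiag {g : SU n F q} (h : IsDiag g) : ∃ d, Dg g d := by
  obtain ⟨d, hd⟩ := h
  exact ⟨d, fun x l => act_perm_apply (σ := Equiv.refl _) hd x l⟩

theorem ent_mono {g : SU n F q} {σ : Equiv.Perm (Fin n)} {d : Fin n → F}
    (hd : ∀ j, act g (Pi.single j 1) = d j • Pi.single (σ j) 1) (i j : Fin n) :
    ent g i j = if i = σ j then d j else 0 := by
  rw [ent, hd, Pi.smul_apply, smul_eq_mul]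
  split_ifs with h
  · rw [h, Pi.single_eq_same, mul_one]
  · rw [Pi.single_eq_of_ne h, mul_zero]

theorem act_eq_sum (g : SU n F q) (x : Fin n → F) (i : Fin n) : act g x i = ∑ k, x k * ent g i k := by
  classical
  have h1 : x = ∑ k, x k • (Pi.single k 1 : Fin n → F) := by
    conv_lhs => rw [← Finset.univ_sum_single x]
    refine Finset.sum_congr rfl fun k _ => ?_
    rw [← Pi.single_smul, smul_eq_mul, mul_one]
  conv_lhs => rw [h1]
  rw [act_sum, Finset.sum_apply]
  refine Finset.sum_congr rfl fun k _ => ?_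
  rw [act_smul, Pi.smul_apply, smul_eq_mul]
  rfl

/-- a non-monomial element from two non-zero entries in a column. -/
theorem not_isMono {g : SU n F q} {k i j : Fin n} (hij : i ≠ j) (hi : ent g i k ≠ 0)
    (hj : ent g j k ≠ 0) : ¬ IsMono g := by
  intro hm
  obtain ⟨m, c, hc⟩ := hm k
  have e1 : ent g i k = c * (Pi.single m 1 : Fin n → F) i := by rw [ent, hc]; rfl
  have e2 : ent g j k = c * (Pi.single m 1 : Fin n → F) j := by rw [ent, hc]; rfl
  by_cases h : m = i
  · rw [h, Pi.single_eq_of_ne (Ne.symm hij), mul_zero] at e2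
    exact hj e2
  · rw [Pi.single_eq_of_ne (Ne.symm h), mul_zero] at e1
    exact hi e1

theorem isMono_of_col {g : SU n F q} (h : ∀ k i j, i ≠ j → ent g i k ≠ 0 → ent g j k = 0) : IsMono g := by
  intro k
  obtain ⟨i, hi⟩ : ∃ i, ent g i k ≠ 0 := by
    by_contra hcon
    push Not at hcon
    have h1 : act g (Pi.single k 1) = 0 := funext hcon
    rw [act_eq_zero] at h1
    exact single_ne_zero k h1
  refine ⟨i, ent g i k, ?_⟩
  funext j
  rw [Pi.smul_apply, smul_eq_mul]
  by_cases hji : j = i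
  · subst hji; rw [Pi.single_eq_same, mul_one]; rfl
  · rw [Pi.single_eq_of_ne hji, mul_zero]
    exact h k i j (Ne.symm hji) hi

theorem univ_four {i j k l : Fin 4} (hij : i ≠ j) (hik : i ≠ k) (hil : i ≠ l) (hjk : j ≠ k)
    (hjl : j ≠ l) (hkl : k ≠ l) : (Finset.univ : Finset (Fin 4)) = {i, j, k, l} := by
  revert i j k l
  decide

theorem sum_four {M : Type*} [AddCommMonoid M] {i j k l : Fin 4} (hij : i ≠ j) (hik : i ≠ k)
    (hil : i ≠ l) (hjk : j ≠ k) (hjl : j ≠ l) (hkl : k ≠ l) (f : Fin 4 → M) :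
    ∑ x, f x = f i + f j + f k + f l := by
  rw [univ_four hij hik hil hjk hjl hkl, Finset.sum_insert (by simp [hij, hik, hil]),
    Finset.sum_insert (by simp [hjk, hjl]), Finset.sum_insert (by simp [hkl]), Finset.sum_singleton,
    add_assoc, add_assoc]

theorem prod_four {M : Type*} [CommMonoid M] {i j k l : Fin 4} (hij : i ≠ j) (hik : i ≠ k)
    (hil : i ≠ l) (hjk : j ≠ k) (hjl : j ≠ l) (hkl : k ≠ l) (f : Fin 4 → M) :
    ∏ x, f x = f i * f j * f k * f l := by
  rw [univ_four hij hik hil hjk hjl hkl, Finset.prod_insert (by simp [hij, hik, hil]),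
    Finset.prod_insert (by simp [hjk, hjl]), Finset.prod_insert (by simp [hkl]), Finset.prod_singleton,
    mul_assoc, mul_assoc]

theorem exists_three_others (i : Fin 4) : ∃ j k l : Fin 4, i ≠ j ∧ i ≠ k ∧ i ≠ l ∧ j ≠ k ∧ j ≠ l ∧ k ≠ l := by
  revert i
  decide

theorem exists_two_others {i j : Fin 4} (h : i ≠ j) : ∃ k l : Fin 4, i ≠ k ∧ i ≠ l ∧ j ≠ k ∧ j ≠ l ∧ k ≠ l := by
  revert i j
  decide

section

variable [Fintype F] (hF : Fintype.card F = q ^ 2)
include hF

theorem exists_dg (d : Fin n → F) (hd : ∀ i, d i * d i ^ q = 1) (hdet : ∏ i, d i = 1) :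
    ∃ g : SU n F q, Dg g d := by
  obtain ⟨g, -, hg⟩ := exists_mono hF (1 : Equiv.Perm (Fin n)) d hd (by
    rw [Equiv.Perm.sign_one, hdet]; simp)
  exact ⟨g, fun x l => by rw [hg, Equiv.Perm.one_apply]⟩

theorem ent_inv (g : SU n F q) (i k : Fin n) : ent g⁻¹ k i = ent g i k ^ q :=
  act_inv_single hF g i k

theorem row_herm (g : SU n F q) (i j : Fin n) :
    ∑ k, ent g i k * ent g j k ^ q = hermForm n F q (Pi.single j 1) (Pi.single i (1 : F)) := by
  rw [← herm_act g⁻¹, herm_def]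
  refine Finset.sum_congr rfl fun k _ => ?_
  have e1 : act g⁻¹ (Pi.single i 1) k = ent g i k ^ q := ent_inv hF g i k
  have e2 : act g⁻¹ (Pi.single j 1) k = ent g j k ^ q := ent_inv hF g j k
  rw [e1, e2, pow_q_pow_q hF]
  ring

theorem row_norm (g : SU n F q) (i : Fin n) : ∑ k, ent g i k * ent g i k ^ q = 1 := by
  rw [row_herm hF, herm_single_self hF]

theorem row_orth (g : SU n F q) {i j : Fin n} (hij : i ≠ j) : ∑ k, ent g i k * ent g j k ^ q = 0 := by
  rw [row_herm hF, herm_single_ne hF hij.symm]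

theorem col_norm (g : SU n F q) (k : Fin n) : ∑ i, ent g i k * ent g i k ^ q = 1 := by
  have h1 := herm_act g (Pi.single k 1) (Pi.single k (1 : F))
  rw [herm_single_self hF] at h1
  exact h1

theorem col_orth (g : SU n F q) {k l : Fin n} (hkl : k ≠ l) : ∑ i, ent g i k * ent g i l ^ q = 0 := by
  have h1 := herm_act g (Pi.single k 1) (Pi.single l (1 : F))
  rw [herm_single_ne hF hkl] at h1
  exact h1

/-- the entries of a conjugate of a diagonal element. -/
theorem ent_conj {d : SU n F q} {δ : Fin n → F} (hd : Dg d δ) (g : SU n F q) (k l : Fin n) :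
    ent (g⁻¹ * d * g) k l = ∑ i, δ i * (ent g i l * ent g i k ^ q) := by
  have h1 : ent (g⁻¹ * d * g) k l = hermForm n F q (act (g⁻¹ * d * g) (Pi.single l 1)) (Pi.single k 1) := by
    rw [H927.herm_single_right hF]; rfl
  rw [h1, ← herm_act g, act_mul, act_mul, act_act_inv, herm_def]
  refine Finset.sum_congr rfl fun i _ => ?_
  rw [hd]
  simp only [ent]
  ring

theorem exists_fourth (hq : 4 ≤ q) : ∃ c : F, c * c ^ q = 1 ∧ c ^ 4 ≠ 1 := by
  obtain ⟨c, hc, hP⟩ := exists_norm_one_not_root hF (Polynomial.X ^ 4 - 1 : Polynomial F)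
    (Polynomial.X_pow_sub_C_ne_zero (by norm_num) (1 : F)) (by
      have : (Polynomial.X ^ 4 - 1 : Polynomial F).natDegree ≤ 4 := by compute_degree
      omega)
  refine ⟨c, hc, fun h => hP ?_⟩
  simp [h]

variable {X : Subgroup (SU n F q)} (hG : ∀ g : SU n F q, IsMono g → g ∈ X)
  (hstar : ∀ y ∈ X, ∀ (k : Fin n) (c : F), act y (Pi.single k 1) = c • Pi.single k 1 → IsMono y)
include hG hstar

/-- two zeros in a row: the columns have one non-zero entry. -/
theorem col_of_zeros (hq : 4 ≤ q) {g : SU n F q} (hg : g ∈ X) {k l j : Fin n} (hkl : k ≠ l)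
    (hjk : ent g j k = 0) (hjl : ent g j l = 0) {i₁ i₂ : Fin n} (hi : i₁ ≠ i₂) (h1 : ent g i₁ k ≠ 0) :
    ent g i₂ k = 0 := by
  by_contra h2
  have z1 := (cp hF hG hstar (by omega) hg hkl hjk hjl i₁).resolve_left (fun h => h1 h.1)
  have z2 := (cp hF hG hstar (by omega) hg hkl hjk hjl i₂).resolve_left (fun h => h2 h.1)
  obtain ⟨c, hc, hc4⟩ := exists_fourth hF hq
  have hT : TorIn X (act g (Pi.single k 1)) (act g (Pi.single l 1)) :=
    (torIn_single hF hG hkl).map hF hg
  obtain ⟨y, hy, hact⟩ := hT c hc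
  have hjk' : act g (Pi.single k 1) j = 0 := hjk
  have hjl' : act g (Pi.single l 1) j = 0 := hjl
  have hmono : IsMono y := by
    apply hstar y hy j 1
    rw [hact, H927.herm_single_left, H927.herm_single_left, hjk', hjl', zero_pow_q hF]
    simp
  -- row relations
  have hrow : ∀ a b : Fin n, (∀ m, m ≠ k → m ≠ l → ent g a m = 0) →
      ∑ m, ent g a m * ent g b m ^ q = ent g a k * ent g b k ^ q + ent g a l * ent g b l ^ q := by
    intro a b ha
    rw [Fintype.sum_eq_add k l hkl]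
    rintro m ⟨hm1, hm2⟩
    rw [ha m hm1 hm2, zero_mul]
  have r1 := row_norm hF g i₁
  rw [hrow i₁ i₁ z1] at r1
  have r2 := row_orth hF g (Ne.symm hi)
  rw [hrow i₂ i₁ z2] at r2
  obtain ⟨ν, hν⟩ : ∃ ν, ν = ent g i₁ k * ent g i₁ k ^ q := ⟨_, rfl⟩
  have hν0 : ν ≠ 0 := by rw [hν]; exact mul_ne_zero h1 (pow_ne_zero _ h1)
  have hνq : ν ^ q = ν := by rw [hν, norm_pow_q hF]
  have e1 : ent y i₁ i₁ = c ^ q + ν * (c - c ^ q) := by
    have h3 := congrFun (hact (Pi.single i₁ 1)) i₁
    rw [H927.herm_single_left, H927.herm_single_left] at h3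
    simp only [Pi.add_apply, Pi.smul_apply, smul_eq_mul, Pi.single_eq_same] at h3
    change ent y i₁ i₁ = 1 + (c - 1) * ent g i₁ k ^ q * ent g i₁ k +
      (c ^ q - 1) * ent g i₁ l ^ q * ent g i₁ l at h3
    rw [h3, hν]
    linear_combination (c ^ q - 1) * r1
  have e2 : ent y i₂ i₁ = (c - c ^ q) * (ent g i₂ k * ent g i₁ k ^ q) := by
    have h3 := congrFun (hact (Pi.single i₁ 1)) i₂
    rw [H927.herm_single_left, H927.herm_single_left] at h3
    simp only [Pi.add_apply, Pi.smul_apply, smul_eq_mul, Pi.single_eq_of_ne (Ne.symm hi)] at h3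
    change ent y i₂ i₁ = 0 + (c - 1) * ent g i₁ k ^ q * ent g i₂ k +
      (c ^ q - 1) * ent g i₁ l ^ q * ent g i₂ l at h3
    rw [h3]
    linear_combination (c ^ q - 1) * r2
  refine not_isMono (g := y) (k := i₁) hi ?_ ?_ hmono
  · rw [e1]
    intro h0
    have h3 : 1 - ν + c ^ 2 * ν = 0 := by linear_combination c * h0 - (1 - ν) * hc
    have h4 := congrArg (fun x => x ^ q) h3
    simp only [add_pow_q hF, sub_pow_q hF, mul_pow, one_pow, hνq, zero_pow_q hF] at h4
    have h5 : ν * (c ^ 4 - 1) = 0 := by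
      linear_combination c ^ 2 * h3 - c ^ 2 * h4 + ν * (c * c ^ q + 1) * hc
    rcases mul_eq_zero.1 h5 with h6 | h6
    · exact hν0 h6
    · exact hc4 (sub_eq_zero.1 h6)
  · rw [e2]
    refine mul_ne_zero (fun h0 => hc4 ?_) (mul_ne_zero h2 (pow_ne_zero _ h1))
    have h3 : c ^ 2 = 1 := by
      have h4 : c = c ^ q := sub_eq_zero.1 h0
      calc c ^ 2 = c * c := by ring
        _ = c * c ^ q := by rw [← h4]
        _ = 1 := hc
    calc c ^ 4 = (c ^ 2) ^ 2 := by ring
      _ = 1 := by rw [h3, one_pow]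

/-- two zeros in a row: the element is monomial. -/
theorem mono_of_zeros4 (hn : 4 ≤ n) (hq : 4 ≤ q) {g : SU n F q} (hg : g ∈ X) {k l j : Fin n} (hkl : k ≠ l)
    (hjk : ent g j k = 0) (hjl : ent g j l = 0) : IsMono g := by
  classical
  have hcol : ∀ i₁ i₂, i₁ ≠ i₂ → ent g i₁ k ≠ 0 → ent g i₂ k = 0 := fun i₁ i₂ hi h =>
    col_of_zeros hF hG hstar hq hg hkl hjk hjl hi h
  obtain ⟨a, ha⟩ : ∃ a, ent g a k ≠ 0 := by
    by_contra hcon
    push Not at hcon
    have h1 : act g (Pi.single k 1) = 0 := funext hcon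
    rw [act_eq_zero] at h1
    exact single_ne_zero k h1
  have hrow : ∀ m, m ≠ k → ent g a m = 0 := by
    intro m hm
    have h1 := col_orth hF g hm
    rw [Finset.sum_eq_single a] at h1
    · rcases mul_eq_zero.1 h1 with h | h
      · exact h
      · exact absurd ((pow_q_eq_zero hF).1 h) ha
    · intro b _ hb
      rw [hcol a b (Ne.symm hb) ha, zero_pow_q hF, mul_zero]
    · intro h; exact absurd (Finset.mem_univ a) h
  apply isMono_of_col
  intro m i₁ i₂ hi h1
  by_cases hmk : m = k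
  · subst hmk; exact hcol i₁ i₂ hi h1
  · obtain ⟨m', hm'⟩ := EvenFrame.exists_notMem_of_card_lt (s := ({k, m} : Finset (Fin n))) (n := n)
      (lt_of_le_of_lt Finset.card_le_two (by omega))
    simp only [Finset.mem_insert, Finset.mem_singleton, not_or] at hm'
    exact col_of_zeros hF hG hstar hq hg (k := m) (l := m') (j := a) (Ne.symm hm'.2) (hrow m hmk)
      (hrow m' hm'.1) hi h1

end

section

variable [Fintype F] (hF : Fintype.card F = q ^ 2)
include hF

/-- the homology with centre `k`, up to scalars. -/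
theorem exists_hom (k : Fin 4) {c : F} (hc : c * c ^ q = 1) :
    ∃ d : SU 4 F q, Dg d (fun l => if l = k then (c ^ q) ^ 3 else c) ∧
      ∀ x, act d x = c • x + (((c ^ q) ^ 3 - c) * x k) • Pi.single k 1 := by
  obtain ⟨j, l, m, h1, h2, h3, h4, h5, h6⟩ := exists_three_others k
  obtain ⟨d, hd⟩ := exists_dg hF (n := 4) (fun l => if l = k then (c ^ q) ^ 3 else c) (by
    intro i
    split_ifs
    · rw [← pow_mul (c ^ q) 3 q, mul_comm 3 q, pow_mul (c ^ q) q 3, pow_q_pow_q hF]
      linear_combination ((c * c ^ q) ^ 2 + c * c ^ q + 1) * hc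
    · exact hc) (by
    rw [prod_four h1 h2 h3 h4 h5 h6, if_pos rfl, if_neg h1.symm, if_neg h2.symm, if_neg h3.symm]
    linear_combination ((c * c ^ q) ^ 2 + c * c ^ q + 1) * hc)
  refine ⟨d, hd, fun x => ?_⟩
  funext i
  rw [hd, Pi.add_apply, Pi.smul_apply, Pi.smul_apply, smul_eq_mul, smul_eq_mul]
  show (if i = k then (c ^ q) ^ 3 else c) * x i = _
  split_ifs with h
  · subst h; rw [Pi.single_eq_same]; ring
  · rw [Pi.single_eq_of_ne h]; ring

theorem hom_ne {c : F} (hc : c * c ^ q = 1) (hc4 : c ^ 4 ≠ 1) : (c ^ q) ^ 3 - c ≠ 0 := by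
  intro h
  apply hc4
  have h1 : (c ^ q) ^ 3 = c := sub_eq_zero.1 h
  calc c ^ 4 = c ^ 3 * (c ^ q) ^ 3 := by rw [h1]; ring
    _ = (c * c ^ q) ^ 3 := by ring
    _ = 1 := by rw [hc, one_pow]

variable {X : Subgroup (SU 4 F q)} (hG : ∀ g : SU 4 F q, IsMono g → g ∈ X)
  (hstar : ∀ y ∈ X, ∀ (k : Fin 4) (c : F), act y (Pi.single k 1) = c • Pi.single k 1 → IsMono y)
include hG hstar

/-- **non-monomial elements have no zero entry.** -/
theorem zero_free (hq : 4 ≤ q) {g : SU 4 F q} (hg : g ∈ X) (hgm : ¬ IsMono g) (i j : Fin 4) :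
    ent g i j ≠ 0 := by
  intro h0
  have hne : ∀ a, a ≠ j → ent g i a ≠ 0 := by
    intro a ha h1
    exact hgm (mono_of_zeros4 hF hG hstar le_rfl hq hg ha h1 h0)
  obtain ⟨c, hc, hc4⟩ := exists_fourth hF hq
  obtain ⟨d, hd, hact⟩ := exists_hom hF i hc
  have hdX : d ∈ X := hG d hd.isMono
  have hy : g⁻¹ * d * g ∈ X := X.mul_mem (X.mul_mem (X.inv_mem hg) hdX) hg
  have hya : ∀ a, act (g⁻¹ * d * g) (Pi.single a 1) =
      c • Pi.single a 1 + (((c ^ q) ^ 3 - c) * ent g i a) • act g⁻¹ (Pi.single i 1) := by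
    intro a
    rw [act_mul, act_mul, hact, act_add, act_smul, act_inv_act, act_smul]
    rfl
  have hmono : IsMono (g⁻¹ * d * g) := by
    apply hstar _ hy j c
    rw [hya, h0, mul_zero, zero_smul, add_zero]
  obtain ⟨a, b, e, h1, h2, h3, h4, h5, h6⟩ := exists_three_others j
  refine not_isMono (g := g⁻¹ * d * g) (k := a) (i := b) (j := e) h6 ?_ ?_ hmono
  · have : ent (g⁻¹ * d * g) b a = ((c ^ q) ^ 3 - c) * ent g i a * ent g i b ^ q := by
      rw [ent, hya, Pi.add_apply, Pi.smul_apply, Pi.smul_apply, Pi.single_eq_of_ne h4.symm, smul_zero, zero_add,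
        smul_eq_mul]
      congr 1
      exact ent_inv hF g i b
    rw [this]
    exact mul_ne_zero (mul_ne_zero (hom_ne hF hc hc4) (hne a h1.symm)) (pow_ne_zero _ (hne b h2.symm))
  · have : ent (g⁻¹ * d * g) e a = ((c ^ q) ^ 3 - c) * ent g i a * ent g i e ^ q := by
      rw [ent, hya, Pi.add_apply, Pi.smul_apply, Pi.smul_apply, Pi.single_eq_of_ne h5.symm, smul_zero, zero_add,
        smul_eq_mul]
      congr 1
      exact ent_inv hF g i e
    rw [this]
    exact mul_ne_zero (mul_ne_zero (hom_ne hF hc hc4) (hne a h1.symm)) (pow_ne_zero _ (hne e h3.symm))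

end

theorem perm_twelve : ∀ σ : Equiv.Perm (Fin 4), σ ^ 12 = 1 := by decide +kernel

/-- permutations of odd order of four points -/
theorem perm_cube {σ : Equiv.Perm (Fin 4)} {M : ℕ} (hM : Odd M) (h : σ ^ M = 1) : σ ^ 3 = 1 := by
  have h12 := perm_twelve σ
  have h1 : orderOf σ ∣ 12 := orderOf_dvd_of_pow_eq_one h12
  have h2 : orderOf σ ∣ M := orderOf_dvd_of_pow_eq_one h
  have h3 : Odd (orderOf σ) := Odd.of_dvd_nat hM h2
  apply orderOf_dvd_iff_pow_eq_one.1
  have h4 : orderOf σ ≤ 12 := Nat.le_of_dvd (by norm_num) h1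
  interval_cases h : orderOf σ <;> simp_all (decide := true)

end Cfsg.Agent.H876.Four
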