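import Cfsg.Agent.H876.FourBase

/-!
# Overgroups of the monomial group of `SU_4(q)`, `q ≥ 4` even
-/

set_option autoImplicit false

namespace Cfsg.Agent.H876.Four

open Cfsg Cfsg.Agent.LieClassical.HermBasic Cfsg.Agent.LieClassical.HermSiegel Cfsg.Agent.H927
open Cfsg.Agent.H876.MonoBasic Cfsg.Agent.H876.OddFrame

variable {F : Type*} [Field F] {n q : ℕ}

/-- powers of a monomial element -/
theorem perm_pow {y : SU n F q} {σ : Equiv.Perm (Fin n)} {d : Fin n → F} (hd0 : ∀ j, d j ≠ 0)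
    (hd : ∀ j, act y (Pi.single j 1) = d j • Pi.single (σ j) 1) (k : ℕ) :
    ∀ j, ∃ c : F, c ≠ 0 ∧ act (y ^ k) (Pi.single j 1) = c • Pi.single ((σ ^ k) j) 1 := by
  induction k with
  | zero => intro j; exact ⟨1, one_ne_zero, by rw [pow_zero, act_one, one_smul]; rfl⟩
  | succ k ih =>
    intro j
    obtain ⟨c, hc0, hc⟩ := ih (σ j)
    refine ⟨d j * c, mul_ne_zero (hd0 j) hc0, ?_⟩
    rw [pow_succ, act_mul, hd, act_smul, hc, smul_smul, pow_succ, Equiv.Perm.mul_apply]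

theorem perm_pow_eq_one {y : SU n F q} {σ : Equiv.Perm (Fin n)} {d : Fin n → F} (hd0 : ∀ j, d j ≠ 0)
    (hd : ∀ j, act y (Pi.single j 1) = d j • Pi.single (σ j) 1) {k : ℕ} (h : IsDiag (y ^ k)) :
    σ ^ k = 1 := by
  obtain ⟨ζ, hζ⟩ := h
  ext j : 1
  obtain ⟨c, hc0, hc⟩ := perm_pow hd0 hd k j
  rw [hζ] at hc
  rw [Equiv.Perm.one_apply]
  by_contra hne
  have h2 := congrFun hc ((σ ^ k) j)
  rw [Pi.smul_apply, Pi.smul_apply, Pi.single_eq_same, Pi.single_eq_of_ne hne, smul_zero, smul_eq_mul,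
    mul_one] at h2
  exact hc0 h2.symm

theorem perm_fix : ∀ σ : Equiv.Perm (Fin 4), σ ^ 3 = 1 → ∃ s, σ s = s := by decide +kernel

theorem Dg.pow {g : SU n F q} {d : Fin n → F} (h : Dg g d) (k : ℕ) : Dg (g ^ k) (fun l => d l ^ k) := by
  induction k with
  | zero => intro x l; rw [pow_zero, act_one]; simp
  | succ k ih => intro x l; rw [pow_succ, act_mul, ih, h]; ring

section

variable [Fintype F] (hF : Fintype.card F = q ^ 2)
include hF

/-- two values of traces agree -/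
theorem exists_values_eq {w w' ρ ρ' : F} (hw : w ≠ 0) (hw' : w' ≠ 0) (hρ : ρ ^ q = ρ)
    (hρ' : ρ' ^ q = ρ') :
    ∃ t t' : F, t * t ^ q = 1 ∧ t' * t' ^ q = 1 ∧
      ρ + (t * w + (t * w) ^ q) = ρ' + (t' * w' + (t' * w') ^ q) := by
  classical
  obtain ⟨h1, h3⟩ := EvenFrame.card_values hF hw hρ
  obtain ⟨h4, h5⟩ := EvenFrame.card_values hF hw' hρ'
  have hT := EvenFrame.card_fix (F := F) hF
  set T : Finset F := Finset.univ.filter (fun t : F => t ^ q = t) with hTd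
  set A : Finset F := (Finset.univ.filter (fun t : F => t * t ^ q = 1)).image
    (fun t => ρ + (t * w + (t * w) ^ q)) with hA
  set B : Finset F := (Finset.univ.filter (fun t : F => t * t ^ q = 1)).image
    (fun t => ρ' + (t * w' + (t * w') ^ q)) with hB
  have hnd : ¬ Disjoint A B := by
    intro hd
    have h6 := Finset.card_le_card (Finset.union_subset h1 h4)
    rw [Finset.card_union_of_disjoint hd, hT] at h6
    omega
  rw [Finset.not_disjoint_iff] at hnd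
  obtain ⟨x, hx, hx'⟩ := hnd
  rw [hA, Finset.mem_image] at hx
  rw [hB, Finset.mem_image] at hx'
  obtain ⟨t, ht, htx⟩ := hx
  obtain ⟨t', ht', htx'⟩ := hx'
  rw [Finset.mem_filter] at ht ht'
  exact ⟨t, t', ht.2, ht'.2, htx.trans htx'.symm⟩

/-- a vanishing combination with coefficients of norm one -/
theorem exists_sum_zero {κ : Fin 4 → F} (h0 : ∀ i, κ i ≠ 0) :
    ∃ d : Fin 4 → F, (∀ i, d i * d i ^ q = 1) ∧ ∑ i, d i * κ i = 0 := by
  obtain ⟨t, t', ht, ht', hval⟩ := exists_values_eq hF (w := κ 0 * κ 1 ^ q) (w' := κ 2 * κ 3 ^ q)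
    (ρ := κ 0 * κ 0 ^ q + κ 1 * κ 1 ^ q) (ρ' := κ 2 * κ 2 ^ q + κ 3 * κ 3 ^ q)
    (mul_ne_zero (h0 0) (pow_ne_zero _ (h0 1))) (mul_ne_zero (h0 2) (pow_ne_zero _ (h0 3)))
    (by rw [add_pow_q hF, norm_pow_q hF, norm_pow_q hF])
    (by rw [add_pow_q hF, norm_pow_q hF, norm_pow_q hF])
  have e1 := EvenFrame.norm_add_mul hF (κ 0) (κ 1) t
  have e2 := EvenFrame.norm_add_mul hF (κ 2) (κ 3) t'
  rw [ht, one_mul, hval] at e1
  rw [ht', one_mul] at e2
  have hN : (κ 0 + t ^ q * κ 1) * (κ 0 + t ^ q * κ 1) ^ q = (κ 2 + t' ^ q * κ 3) * (κ 2 + t' ^ q * κ 3) ^ q := by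
    rw [e1, e2]
  obtain ⟨η, hη, hη0⟩ : ∃ η : F, η * η ^ q = 1 ∧ η * (κ 0 + t ^ q * κ 1) = -(κ 2 + t' ^ q * κ 3) := by
    by_cases hA : κ 0 + t ^ q * κ 1 = 0
    · rw [hA, zero_mul] at hN
      have hB := (norm_eq_zero hF).1 hN.symm
      exact ⟨1, by rw [one_pow, one_mul], by rw [hA, hB]; ring⟩
    · refine ⟨-(κ 2 + t' ^ q * κ 3) / (κ 0 + t ^ q * κ 1), ?_, div_mul_cancel₀ _ hA⟩
      rw [div_pow, div_mul_div_comm, neg_pow_q hF, neg_mul_neg, ← hN]
      exact div_self (fun h => hA ((norm_eq_zero hF).1 h))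
  have htq : t ^ q * (t ^ q) ^ q = 1 := by rw [pow_q_pow_q hF, mul_comm]; exact ht
  have htq' : t' ^ q * (t' ^ q) ^ q = 1 := by rw [pow_q_pow_q hF, mul_comm]; exact ht'
  refine ⟨![η, η * t ^ q, 1, t' ^ q], ?_, ?_⟩
  · intro i
    fin_cases i
    · exact hη
    · show η * t ^ q * (η * t ^ q) ^ q = 1
      rw [mul_pow]
      linear_combination (t ^ q * (t ^ q) ^ q) * hη + htq
    · show (1 : F) * 1 ^ q = 1
      rw [one_pow, one_mul]
    · exact htq'
  · rw [Fin.sum_univ_four]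
    show η * κ 0 + η * t ^ q * κ 1 + 1 * κ 2 + t' ^ q * κ 3 = 0
    linear_combination hη0

theorem four_dvd (h2 : (2 : F) = 0) (hq : 4 ≤ q) : ∃ k, q = 4 * k := by
  obtain ⟨p, f, hp, hchar, hpf, hf⟩ := exists_prime_pow hF
  have hp2 : p = 2 := by
    have h3 : p ∣ 2 := by
      rw [← CharP.cast_eq_zero_iff F p 2]
      exact_mod_cast h2
    exact (Nat.prime_dvd_prime_iff_eq hp Nat.prime_two).1 h3
  subst hp2
  have hf2 : 2 ≤ f := by
    by_contra h
    interval_cases f <;> omega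
  obtain ⟨m, rfl⟩ := Nat.exists_eq_add_of_le hf2
  exact ⟨2 ^ m, by rw [hpf, pow_add]; norm_num⟩

variable {X : Subgroup (SU 4 F q)} (hG : ∀ g : SU 4 F q, IsMono g → g ∈ X)
include hG

/-- **Overgroups of the monomial group**: `n = 4`, `q ≥ 4` even. -/
theorem eq_top_four_even (h2 : (2 : F) = 0) (hq : 4 ≤ q) (hX : ∃ g ∈ X, ¬ IsMono g) : X = ⊤ := by
  classical
  by_contra htop
  have hstar : ∀ y ∈ X, ∀ (k : Fin 4) (c : F), act y (Pi.single k 1) = c • Pi.single k 1 → IsMono y := by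
    intro y hy k c hk
    by_contra hny
    exact htop (eq_top_of_fix hF hG (by omega) (by omega) hy hny hk)
  obtain ⟨g, hg, hgm⟩ := hX
  have hz := zero_free hF hG hstar hq hg hgm
  obtain ⟨κ, hκ⟩ : ∃ κ : Fin 4 → F, κ = fun i => ent g i 0 * ent g i 0 ^ q := ⟨_, rfl⟩
  have hκ0 : ∀ i, κ i ≠ 0 := fun i => by
    rw [hκ]; exact mul_ne_zero (hz i 0) (pow_ne_zero _ (hz i 0))
  obtain ⟨d, hd, hsum⟩ := exists_sum_zero hF hκ0
  -- correct the determinant
  obtain ⟨k, hk⟩ := four_dvd hF h2 hq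
  obtain ⟨c, hc⟩ : ∃ c, c = ∏ i, d i := ⟨_, rfl⟩
  have hcn : c * c ^ q = 1 := by
    rw [hc, ← Finset.prod_pow, ← Finset.prod_mul_distrib]
    exact Finset.prod_eq_one fun i _ => hd i
  have hlam : (c ^ k) * (c ^ k) ^ q = 1 := by
    rw [← pow_mul, mul_comm k q, pow_mul, ← mul_pow, hcn, one_pow]
  have hlam4 : (c ^ k) ^ 4 * c = 1 := by
    rw [← pow_mul, mul_comm k 4, ← hk, mul_comm]; exact hcn
  obtain ⟨D, hD⟩ := exists_dg hF (n := 4) (fun i => c ^ k * d i) (by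
    intro i
    rw [mul_pow]
    linear_combination (d i * d i ^ q) * hlam + hd i) (by
    rw [Finset.prod_mul_distrib, Finset.prod_const, Finset.card_univ, Fintype.card_fin, ← hc]
    exact hlam4)
  have hDX : D ∈ X := hG D hD.isMono
  have hyX : g⁻¹ * D * g ∈ X := X.mul_mem (X.mul_mem (X.inv_mem hg) hDX) hg
  have h00 : ent (g⁻¹ * D * g) 0 0 = 0 := by
    rw [ent_conj hF hD]
    have : ∀ i, c ^ k * d i * (ent g i 0 * ent g i 0 ^ q) = c ^ k * (d i * κ i) := by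
      intro i; rw [hκ]; ring
    rw [Finset.sum_congr rfl fun i _ => this i, ← Finset.mul_sum, hsum, mul_zero]
  have hym : IsMono (g⁻¹ * D * g) := by
    by_contra hnm
    exact zero_free hF hG hstar hq hyX hnm 0 0 h00
  obtain ⟨σ, e, he0, he⟩ := IsMono.exists_perm hym
  have hpow : (g⁻¹ * D * g) ^ (q + 1) = 1 := by
    have h3 : (g⁻¹ * D * g) ^ (q + 1) = g⁻¹ * D ^ (q + 1) * g := by
      have := conj_pow (i := q + 1) (a := g⁻¹) (b := D)
      rwa [inv_inv] at this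
    have h4 : D ^ (q + 1) = 1 := by
      apply ext_act
      intro x
      funext l
      rw [hD.pow, act_one]
      show (c ^ k * d l) ^ (q + 1) * x l = x l
      rw [pow_succ', mul_pow]
      linear_combination (x l * (d l * d l ^ q)) * hlam + (x l) * hd l
    rw [h3, h4]; group
  have hσ : σ ^ (q + 1) = 1 := perm_pow_eq_one he0 he (by
    rw [hpow]; exact ⟨fun _ => 1, fun j => by rw [act_one, one_smul]⟩)
  have hodd : Odd (q + 1) := ⟨2 * k, by omega⟩
  obtain ⟨s, hs⟩ := perm_fix σ (perm_cube hodd hσ)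
  have h5 : act D (act g (Pi.single s 1)) = e s • act g (Pi.single s 1) := by
    have h6 := congrArg (act g) (he s)
    rw [hs, act_mul, act_mul, act_act_inv, act_smul] at h6
    exact h6
  have h7 : ∀ i, c ^ k * d i = e s := by
    intro i
    have h8 := congrFun h5 i
    rw [hD, Pi.smul_apply, smul_eq_mul] at h8
    exact mul_right_cancel₀ (hz i s) h8
  have h9 := ent_conj hF hD g 0 0
  rw [h00] at h9
  have h10 : ∀ i, c ^ k * d i * (ent g i 0 * ent g i 0 ^ q) = e s * (ent g i 0 * ent g i 0 ^ q) :=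
    fun i => by rw [h7]
  rw [Finset.sum_congr rfl fun i _ => h10 i, ← Finset.mul_sum, col_norm hF, mul_one] at h9
  exact he0 s h9.symm

end

end Cfsg.Agent.H876.Four
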