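import Cfsg.Agent.H876.FourThree

/-!
# Overgroups of the monomial group of `SU_4(q)`, `q ≥ 5` odd
-/

set_option autoImplicit false

namespace Cfsg.Agent.H876.Four

open Cfsg Cfsg.Agent.LieClassical.HermBasic Cfsg.Agent.LieClassical.HermSiegel Cfsg.Agent.H927
open Cfsg.Agent.H876.MonoBasic Cfsg.Agent.H876.OddFrame

variable {F : Type*} [Field F] {q : ℕ}

/-- norms of the entries -/
def K (g : SU 4 F q) (i k : Fin 4) : F := ent g i k * ent g i k ^ q

theorem three_comb : ∀ σ τ : Equiv.Perm (Fin 4), σ ^ 3 = 1 → σ ≠ 1 → τ ^ 3 = 1 → τ ≠ 1 →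
    (∃ r a b c : Fin 4, r ≠ a ∧ r ≠ b ∧ r ≠ c ∧ a ≠ b ∧ a ≠ c ∧ b ≠ c ∧ σ r = r ∧ τ a = b ∧ τ b = c) ∨
    (∃ r s j j' : Fin 4, r ≠ s ∧ r ≠ j ∧ r ≠ j' ∧ s ≠ j ∧ s ≠ j' ∧ j ≠ j' ∧ σ r = r ∧ σ s = j ∧
      ((τ j' = j ∧ τ j = r) ∨ τ j = j')) := by
  decide +kernel

section

variable [Fintype F] (hF : Fintype.card F = q ^ 2)
include hF

theorem K_sum (g : SU 4 F q) (k : Fin 4) : ∑ i, K g i k = 1 := col_norm hF g k

/-- the conjugates of a homology. -/
theorem exists_hom_conj {g : SU 4 F q} (hz : ∀ i j, ent g i j ≠ 0) (k : Fin 4) {lam : F}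
    (hlam : lam * lam ^ q = 1) (hlam4 : lam ^ 4 ≠ 1) :
    ∃ d : SU 4 F q, IsMono d ∧ ¬ IsMono (g * d * g⁻¹) ∧
      ∀ i j, i ≠ j → K (g * d * g⁻¹) i j =
        (2 - lam ^ 4 - (lam ^ 4) ^ q) * (K g i k * K g j k) := by
  obtain ⟨d, hd, hact⟩ := exists_hom hF k hlam
  have hs := hom_ne hF hlam hlam4
  have hent : ∀ i j, i ≠ j → ent (g * d * g⁻¹) i j =
      ((lam ^ q) ^ 3 - lam) * (ent g j k ^ q * ent g i k) := by
    intro i j hij
    have h1 : act (g * d * g⁻¹) (Pi.single j 1) =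
        lam • Pi.single j 1 + (((lam ^ q) ^ 3 - lam) * act g⁻¹ (Pi.single j 1) k) • act g (Pi.single k 1) := by
      rw [act_mul, act_mul, hact, act_add, act_smul, act_act_inv, act_smul]
    have h2 : act g⁻¹ (Pi.single j 1) k = ent g j k ^ q := ent_inv hF g j k
    rw [ent, h1, h2, Pi.add_apply, Pi.smul_apply, Pi.smul_apply, Pi.single_eq_of_ne hij, smul_zero,
      zero_add, smul_eq_mul, mul_assoc]
    rfl
  refine ⟨d, hd.isMono, ?_, ?_⟩
  · obtain ⟨a, b, e, h1, h2, h3, h4, h5, h6⟩ := exists_three_others k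
    refine not_isMono (k := k) h4 ?_ ?_
    · rw [hent a k h1.symm]
      exact mul_ne_zero hs (mul_ne_zero (pow_ne_zero _ (hz _ _)) (hz _ _))
    · rw [hent b k h2.symm]
      exact mul_ne_zero hs (mul_ne_zero (pow_ne_zero _ (hz _ _)) (hz _ _))
  · intro i j hij
    have h1 : ((lam ^ q) ^ 3 - lam) * ((lam ^ q) ^ 3 - lam) ^ q = 2 - lam ^ 4 - (lam ^ 4) ^ q := by
      have h2 : ((lam ^ q) ^ 3 - lam) ^ q = lam ^ 3 - lam ^ q := by
        rw [sub_pow_q hF, ← pow_mul (lam ^ q) 3 q, mul_comm 3 q, pow_mul (lam ^ q) q 3, pow_q_pow_q hF]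
      have h3 : (lam ^ 4) ^ q = (lam ^ q) ^ 4 := by rw [← pow_mul, ← pow_mul, mul_comm]
      rw [h2, h3]
      linear_combination ((lam * lam ^ q) ^ 2 + lam * lam ^ q + 2) * hlam
    rw [K, hent i j hij, mul_pow, mul_pow, pow_q_pow_q hF, ← h1, K, K]
    ring

variable {X : Subgroup (SU 4 F q)} (hG : ∀ g : SU 4 F q, IsMono g → g ∈ X)
  (hstar : ∀ y ∈ X, ∀ (k : Fin 4) (c : F), act y (Pi.single k 1) = c • Pi.single k 1 → IsMono y)
  (h2 : (2 : F) ≠ 0)
include hG hstar h2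

/-- (α) -/
theorem alpha (hq : 4 ≤ q) {g : SU 4 F q} (hg : g ∈ X) (hgm : ¬ IsMono g) (k : Fin 4)
    {i j m l : Fin 4} (h1 : i ≠ j) (n2 : i ≠ m) (n3 : i ≠ l) (n4 : j ≠ m) (n5 : j ≠ l) (n6 : m ≠ l) :
    K g i k + K g j k ≠ K g m k + K g l k := by
  intro h
  obtain ⟨b, hb⟩ := exists_B (F := F) hF h1
  have hbX : b ∈ X := hG b hb.isDiag.isMono
  have hD : Dg b (fun a => if a = i ∨ a = j then -1 else 1) := by
    intro x a
    rw [hb]
    show _ = (if a = i ∨ a = j then (-1 : F) else 1) * x a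
    split_ifs <;> ring
  have hyX : g⁻¹ * b * g ∈ X := X.mul_mem (X.mul_mem (X.inv_mem hg) hbX) hg
  have h0 : ent (g⁻¹ * b * g) k k = 0 := by
    rw [ent_conj hF hD, sum_four h1 n2 n3 n4 n5 n6]
    rw [if_pos (Or.inl rfl), if_pos (Or.inr rfl), if_neg (by
      rintro (h | h)
      · exact n2 h.symm
      · exact n4 h.symm), if_neg (by
      rintro (h | h)
      · exact n3 h.symm
      · exact n5 h.symm)]
    simp only [K] at h
    linear_combination -h
  have hym : IsMono (g⁻¹ * b * g) := by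
    by_contra hnm
    exact zero_free hF hG hstar hq hyX hnm k k h0
  exact hgm (mono_of_conj4 hF hG hstar h2 hq hg h1 hb hym)

/-- (T) -/
theorem three_equal (hq : 4 ≤ q) {g : SU 4 F q} (hg : g ∈ X) (hgm : ¬ IsMono g) (k : Fin 4) :
    ∃ r a b c : Fin 4, r ≠ a ∧ r ≠ b ∧ r ≠ c ∧ a ≠ b ∧ a ≠ c ∧ b ≠ c ∧ K g a k = K g b k ∧
      K g b k = K g c k := by
  have hz := zero_free hF hG hstar hq hg hgm
  obtain ⟨lam, hlam, hlam4⟩ := exists_fourth hF hq
  obtain ⟨d, hdm, hym, hK⟩ := exists_hom_conj hF hz k hlam hlam4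
  have hyX : g * d * g⁻¹ ∈ X := X.mul_mem (X.mul_mem hg (hG d hdm)) (X.inv_mem hg)
  have hK0 : ∀ i, K g i k ≠ 0 := fun i => mul_ne_zero (hz i k) (pow_ne_zero _ (hz i k))
  have hzy := zero_free hF hG hstar hq hyX hym
  obtain ⟨t, ht⟩ : ∃ t, t = 2 - lam ^ 4 - (lam ^ 4) ^ q := ⟨_, rfl⟩
  rw [← ht] at hK
  have ht0 : t ≠ 0 := by
    intro h
    have h3 := hK 0 1 (by decide)
    rw [h, zero_mul] at h3
    exact mul_ne_zero (hzy 0 1) (pow_ne_zero _ (hzy 0 1)) h3
  -- cancellation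
  have hcan : ∀ {i j l : Fin 4}, i ≠ j → i ≠ l → K (g * d * g⁻¹) i j = K (g * d * g⁻¹) i l →
      K g j k = K g l k := by
    intro i j l hij hil h
    rw [hK i j hij, hK i l hil] at h
    exact mul_left_cancel₀ (hK0 i) (mul_left_cancel₀ ht0 h)
  obtain ⟨σ, τ, hσ, hσ1, hτ, hτ1, hinv⟩ := three_cycles hF hG hstar h2 hq hyX hym
  have hinv' : ∀ i j, K (g * d * g⁻¹) (σ i) (τ j) = K (g * d * g⁻¹) i j := hinv
  rcases three_comb σ τ hσ hσ1 hτ hτ1 with ⟨r, a, b, c, n1, n2, n3, n4, n5, n6, m1, m2, m3⟩ |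
    ⟨r, s, j, j', n1, n2, n3, n4, n5, n6, m1, m2, m3 | m3⟩
  · refine ⟨r, a, b, c, n1, n2, n3, n4, n5, n6, ?_, ?_⟩
    · have h3 := hinv' r a
      rw [m1, m2] at h3
      exact hcan n1 n2 h3.symm
    · have h3 := hinv' r b
      rw [m1, m3] at h3
      exact hcan n2 n3 h3.symm
  · exfalso
    have h3 := hinv' r j'
    rw [m1, m3.1] at h3
    have h4 := hcan n2 n3 h3
    have h5 := hinv' s j
    rw [m2, m3.2, hK _ _ n2.symm, hK _ _ n4] at h5
    have h6 : K g r k = K g s k := by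
      have h7 := mul_left_cancel₀ ht0 h5
      rw [mul_comm (K g s k)] at h7
      exact mul_left_cancel₀ (hK0 j) h7
    exact alpha hF hG hstar h2 hq hg hgm k n2 n1 n3 n4.symm n6 n5 (by rw [h6, h4])
  · refine ⟨r, s, j', j, n1, n3, n2, n5, n4, n6.symm, ?_, ?_⟩
    · have h5 := hinv' s j
      rw [m2, m3, hK _ _ n6, hK _ _ n4] at h5
      have h7 := mul_left_cancel₀ ht0 h5
      rw [mul_comm (K g s k)] at h7
      exact (mul_left_cancel₀ (hK0 j) h7).symm
    · have h3 := hinv' r j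
      rw [m1, m3] at h3
      exact hcan n3 n2 h3

/-- (β) -/
theorem beta (hq : 4 ≤ q) {g : SU 4 F q} (hg : g ∈ X) (hgm : ¬ IsMono g) (k : Fin 4)
    {i j : Fin 4} (hij : i ≠ j) (hK : K g i k = K g j k) {a : F} (ha : a * a ^ q = 1) (ha1 : a ≠ 1) :
    (2 - a - a ^ q) * K g i k ≠ 1 := by
  classical
  intro h
  have hz := zero_free hF hG hstar hq hg hgm
  obtain ⟨m, l, n2, n3, n4, n5, n6⟩ := exists_two_others hij
  obtain ⟨δ, hδ⟩ : ∃ δ : Fin 4 → F, δ = fun x => if x = i then a else if x = j then a ^ q else 1 :=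
    ⟨_, rfl⟩
  have di : δ i = a := by rw [hδ]; simp
  have dj : δ j = a ^ q := by rw [hδ]; simp [hij.symm]
  have dm : δ m = 1 := by rw [hδ]; simp [n2.symm, n4.symm]
  have dl : δ l = 1 := by rw [hδ]; simp [n3.symm, n5.symm]
  obtain ⟨D, hD⟩ := exists_dg hF (n := 4) δ (by
    intro x
    rw [hδ]
    show (if x = i then a else if x = j then a ^ q else 1) *
      (if x = i then a else if x = j then a ^ q else 1) ^ q = 1
    split_ifs
    · exact ha
    · rw [pow_q_pow_q hF, mul_comm]; exact ha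
    · rw [one_pow, one_mul]) (by
    rw [prod_four hij n2 n3 n4 n5 n6, di, dj, dm, dl, mul_one, mul_one]
    exact ha)
  have hDX : D ∈ X := hG D hD.isMono
  have hyX : g⁻¹ * D * g ∈ X := X.mul_mem (X.mul_mem (X.inv_mem hg) hDX) hg
  have hsum := K_sum hF g k
  rw [sum_four hij n2 n3 n4 n5 n6] at hsum
  have h0 : ent (g⁻¹ * D * g) k k = 0 := by
    rw [ent_conj hF hD, sum_four hij n2 n3 n4 n5 n6, di, dj, dm, dl]
    simp only [K] at hsum h hK
    linear_combination hsum - h + (1 - a ^ q) * hK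
  have hym : IsMono (g⁻¹ * D * g) := by
    by_contra hnm
    exact zero_free hF hG hstar hq hyX hnm k k h0
  obtain ⟨σ, e, he0, he⟩ := IsMono.exists_perm hym
  by_cases hfix : ∃ s, σ s = s
  · obtain ⟨s, hs⟩ := hfix
    have h5 : act D (act g (Pi.single s 1)) = e s • act g (Pi.single s 1) := by
      have h6 := congrArg (act g) (he s)
      rw [hs, act_mul, act_mul, act_act_inv, act_smul] at h6
      exact h6
    have h7 : ∀ i, δ i = e s := by
      intro i
      have h8 := congrFun h5 i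
      rw [hD, Pi.smul_apply, smul_eq_mul] at h8
      exact mul_right_cancel₀ (hz i s) h8
    apply ha1
    rw [← di, ← dm, h7, h7]
  · push Not at hfix
    have htr : ∑ x, ent (g⁻¹ * D * g) x x = 0 := by
      apply Finset.sum_eq_zero
      intro x _
      rw [ent_mono he, if_neg (hfix x).symm]
    have htr2 : ∑ x, ent (g⁻¹ * D * g) x x = ∑ x, δ x := by
      simp only [ent_conj hF hD]
      rw [Finset.sum_comm]
      refine Finset.sum_congr rfl fun x _ => ?_
      rw [← Finset.mul_sum, row_norm hF, mul_one]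
    rw [htr2, sum_four hij n2 n3 n4 n5 n6, di, dj, dm, dl] at htr
    have ham : a = -1 := by
      have h8 : (a + 1) ^ 2 = 0 := by linear_combination a * htr - ha
      have h9 := pow_eq_zero_iff (two_ne_zero) |>.1 h8
      linear_combination h9
    have hB : IsB D i j := by
      intro x l'
      rw [hD, hδ]
      show (if l' = i then a else if l' = j then a ^ q else 1) * x l' = _
      have haq : a ^ q = -1 := by rw [ham, neg_pow_q hF, one_pow]
      rw [haq, ham]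
      by_cases c1 : l' = i
      · rw [if_pos c1, if_pos (Or.inl c1)]; ring
      · by_cases c2 : l' = j
        · rw [if_neg c1, if_pos c2, if_pos (Or.inr c2)]; ring
        · rw [if_neg c1, if_neg c2, if_neg (by tauto)]; ring
    exact hgm (mono_of_conj4 hF hG hstar h2 hq hg hij hB hym)

theorem no_nonmono (hq : 4 ≤ q) {g : SU 4 F q} (hg : g ∈ X) : IsMono g := by
  by_contra hgm
  have hz := zero_free hF hG hstar hq hg hgm
  obtain ⟨r, i, j, m, n1, n2, n3, n4, n5, n6, hKij, hKjm⟩ := three_equal hF hG hstar h2 hq hg hgm 0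
  obtain ⟨lam, hlam, hlam4⟩ := exists_fourth hF hq
  obtain ⟨d, hdm, hym, hK⟩ := exists_hom_conj hF hz 0 hlam hlam4
  have hyX : g * d * g⁻¹ ∈ X := X.mul_mem (X.mul_mem hg (hG d hdm)) (X.inv_mem hg)
  have hK0 : ∀ i, K g i 0 ≠ 0 := fun i => mul_ne_zero (hz i 0) (pow_ne_zero _ (hz i 0))
  have hzy := zero_free hF hG hstar hq hyX hym
  obtain ⟨t, ht⟩ : ∃ t, t = 2 - lam ^ 4 - (lam ^ 4) ^ q := ⟨_, rfl⟩
  rw [← ht] at hK
  have ht0 : t ≠ 0 := by
    intro h
    have h3 := hK 0 1 (by decide)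
    rw [h, zero_mul] at h3
    exact mul_ne_zero (hzy 0 1) (pow_ne_zero _ (hzy 0 1)) h3
  obtain ⟨κ, hκ⟩ : ∃ κ, κ = K g i 0 := ⟨_, rfl⟩
  have hi : K g i 0 = κ := hκ.symm
  have hj : K g j 0 = κ := by rw [← hKij, hi]
  have hm : K g m 0 = κ := by rw [← hKjm, hj]
  have hκ0 : κ ≠ 0 := by rw [hκ]; exact hK0 i
  have hne : κ ≠ K g r 0 := by
    intro h
    exact alpha hF hG hstar h2 hq hg hgm 0 n4 n1.symm n5 n2.symm n6 n3 (by rw [hi, hj, hm, ← h])
  -- column `i` of `y`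
  have kji : K (g * d * g⁻¹) j i = t * (κ * κ) := by rw [hK j i n4.symm, hi, hj]
  have kmi : K (g * d * g⁻¹) m i = t * (κ * κ) := by rw [hK m i n5.symm, hi, hm]
  have kri : K (g * d * g⁻¹) r i = t * (K g r 0 * κ) := by rw [hK r i n1, hi]
  have hs1 := K_sum hF g 0
  rw [sum_four n1 n2 n3 n4 n5 n6, hi, hj, hm] at hs1
  have hs2 := K_sum hF (g * d * g⁻¹) i
  rw [sum_four n1 n2 n3 n4 n5 n6, kji, kmi, kri] at hs2
  have hjr : K (g * d * g⁻¹) j i ≠ K (g * d * g⁻¹) r i := by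
    rw [kji, kri]
    intro h
    exact hne (mul_right_cancel₀ hκ0 (mul_left_cancel₀ ht0 h))
  have hmr : K (g * d * g⁻¹) m i ≠ K (g * d * g⁻¹) r i := by
    rw [kmi, ← kji]; exact hjr
  -- the special point is `r`
  obtain ⟨r', a, b, c, o1, o2, o3, o4, o5, o6, hab, hbc⟩ := three_equal hF hG hstar h2 hq hyX hym i
  have hji : K (g * d * g⁻¹) j i = K (g * d * g⁻¹) i i := by
    by_cases hr : r' = r
    · -- `a, b, c` are `i, j, m`
      subst hr
      have hall : ∀ x : Fin 4, x ≠ r' → K (g * d * g⁻¹) x i = K (g * d * g⁻¹) a i := by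
        intro x hx
        have : x ∈ (Finset.univ : Finset (Fin 4)) := Finset.mem_univ x
        rw [univ_four o1 o2 o3 o4 o5 o6] at this
        simp only [Finset.mem_insert, Finset.mem_singleton] at this
        rcases this with h | h | h | h
        · exact absurd h hx
        · rw [h]
        · rw [h, hab]
        · rw [h, ← hbc, hab]
      rw [hall j n2.symm, hall i n1.symm]
    · exfalso
      -- two of `r, j, m` are among `a, b, c`, one of them being `r`
      have hall : ∀ x : Fin 4, x ≠ r' → K (g * d * g⁻¹) x i = K (g * d * g⁻¹) a i := by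
        intro x hx
        have : x ∈ (Finset.univ : Finset (Fin 4)) := Finset.mem_univ x
        rw [univ_four o1 o2 o3 o4 o5 o6] at this
        simp only [Finset.mem_insert, Finset.mem_singleton] at this
        rcases this with h | h | h | h
        · exact absurd h hx
        · rw [h]
        · rw [h, hab]
        · rw [h, ← hbc, hab]
      have h3 := hall r (Ne.symm hr)
      by_cases hj' : j = r'
      · exact hmr (by rw [h3, hall m (by rw [← hj']; exact n6.symm)])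
      · exact hjr (by rw [h3, hall j hj'])
  have htκ : t * κ = 1 := by
    rw [← hji, kji] at hs2
    linear_combination hs2 - (t * κ) * hs1
  have hnorm : lam ^ 4 * (lam ^ 4) ^ q = 1 := by
    have h3 : (lam ^ 4) ^ q = (lam ^ q) ^ 4 := by rw [← pow_mul, ← pow_mul, mul_comm]
    rw [h3, ← mul_pow, hlam, one_pow]
  refine beta hF hG hstar h2 hq hg hgm 0 n4 hKij hnorm hlam4 ?_
  rw [← ht, hi, htκ]

end

section

variable [Fintype F] (hF : Fintype.card F = q ^ 2)
include hF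

/-- **Overgroups of the monomial group**: `n = 4`, `q ≥ 5` odd. -/
theorem eq_top_four_odd {X : Subgroup (SU 4 F q)} (hG : ∀ g : SU 4 F q, IsMono g → g ∈ X)
    (h2 : (2 : F) ≠ 0) (hq : 4 ≤ q) (hX : ∃ g ∈ X, ¬ IsMono g) : X = ⊤ := by
  by_contra htop
  have hstar : ∀ y ∈ X, ∀ (k : Fin 4) (c : F), act y (Pi.single k 1) = c • Pi.single k 1 → IsMono y := by
    intro y hy k c hk
    by_contra hny
    exact htop (eq_top_of_fix hF hG (by omega) (by omega) hy hny hk)
  obtain ⟨g, hg, hgm⟩ := hX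
  exact hgm (no_nonmono hF hG hstar h2 hq hg)

end

end Cfsg.Agent.H876.Four
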