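import Cfsg.Agent.H876.FourOdd

/-!
# Overgroups of the monomial group of `SU_4(q)`, `q ≥ 5` odd: elements of order three
-/

set_option autoImplicit false

namespace Cfsg.Agent.H876.Four

open Cfsg Cfsg.Agent.LieClassical.HermBasic Cfsg.Agent.LieClassical.HermSiegel Cfsg.Agent.H927
open Cfsg.Agent.H876.MonoBasic Cfsg.Agent.H876.OddFrame

variable {F : Type*} [Field F] {q : ℕ}

theorem pairs : ∀ i j k l : Fin 4, i ≠ j → k ≠ l →
    (∀ m, (m = k ∨ m = l) ↔ (m = i ∨ m = j)) ∨ (∀ m, (m = k ∨ m = l) ↔ ¬ (m = i ∨ m = j)) ∨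
      ∃ a b : Fin 4, a ≠ b ∧ ∀ m, (m = a ∨ m = b) ↔ ¬ ((m = k ∨ m = l) ↔ (m = i ∨ m = j)) := by
  decide +kernel

section

variable [Fintype F] (hF : Fintype.card F = q ^ 2)
include hF

variable {X : Subgroup (SU 4 F q)} (hG : ∀ g : SU 4 F q, IsMono g → g ∈ X)
  (hstar : ∀ y ∈ X, ∀ (k : Fin 4) (c : F), act y (Pi.single k 1) = c • Pi.single k 1 → IsMono y)
  (h2 : (2 : F) ≠ 0)
include hG hstar h2

/-- (C) for `n = 4`: conjugating involution -/
theorem exists_conj4 (hq : 4 ≤ q) {g b b0 : SU 4 F q} (hg : g ∈ X) (hgm : ¬ IsMono g)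
    {i j k l : Fin 4} (hij : i ≠ j) (hkl : k ≠ l) (hb : IsB b i j) (hb0 : IsB b0 k l) {M : ℕ}
    (hM : Odd M) (hpow : (b * (g * b0 * g⁻¹)) ^ M = 1) :
    ∃ c ∈ X, c * c = 1 ∧ c * b * c = g * b0 * g⁻¹ ∧ IsMono (c * g) ∧
      ∃ v ∈ X, ¬ IsMono v ∧ c = v⁻¹ * b * v := by
  classical
  obtain ⟨b', hb'⟩ : ∃ b', b' = g * b0 * g⁻¹ := ⟨_, rfl⟩
  rw [← hb'] at hpow ⊢
  have hbb := hb.mul_self
  have hbb' : b' * b' = 1 := by
    rw [hb']
    have h3 := hb0.mul_self
    calc g * b0 * g⁻¹ * (g * b0 * g⁻¹) = g * (b0 * b0) * g⁻¹ := by group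
      _ = 1 := by rw [h3]; group
  have hbX : b ∈ X := hG b hb.isDiag.isMono
  have hb0X : b0 ∈ X := hG b0 hb0.isDiag.isMono
  have hb'X : b' ∈ X := by rw [hb']; exact X.mul_mem (X.mul_mem hg hb0X) (X.inv_mem hg)
  have hwX : b * b' ∈ X := X.mul_mem hbX hb'X
  obtain ⟨m, hm⟩ := hM
  obtain ⟨s, hs⟩ : ∃ s, (b * b') ^ (2 * s) = (b * b') ^ (m + 1) := by
    rcases Nat.even_or_odd' (m + 1) with ⟨s, hs | hs⟩
    · exact ⟨s, by rw [hs]⟩
    · refine ⟨s + m + 1, ?_⟩
      have h3 : 2 * (s + m + 1) = (m + 1) + M := by rw [hm]; omega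
      rw [h3, pow_add, hpow, mul_one]
  obtain ⟨v, hv⟩ : ∃ v, v = (b * b') ^ s := ⟨_, rfl⟩
  have hvX : v ∈ X := by rw [hv]; exact X.pow_mem hwX s
  have hc0 : v⁻¹ * b * v = b * (b * b') ^ (m + 1) := by
    rw [← hs, hv, ← dih_key hbb hbb', two_mul, pow_add, mul_assoc]
  obtain ⟨c, hc⟩ : ∃ c, c = v⁻¹ * b * v := ⟨_, rfl⟩
  have hcc : c * c = 1 := by
    rw [hc]
    calc v⁻¹ * b * v * (v⁻¹ * b * v) = v⁻¹ * (b * b) * v := by group
      _ = 1 := by rw [hbb]; group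
  have hcbc : c * b * c = b' := by
    rw [hc, hc0]
    have h3 : b * (b * b') ^ (m + 1) * b * (b * (b * b') ^ (m + 1)) =
        b * ((b * b') ^ (m + 1) * (b * b) * (b * b') ^ (m + 1)) := by group
    have h4 : m + 1 + (m + 1) = M + 1 := by rw [hm]; omega
    rw [h3, hbb, mul_one, ← pow_add, h4, pow_add, hpow, pow_one, one_mul, ← mul_assoc, hbb, one_mul]
  have hvm : ¬ IsMono v := by
    intro hvm
    have hcm : IsMono c := by
      rw [hc]; exact IsMono.mul (IsMono.mul (IsMono.inv hvm) hb.isDiag.isMono) hvm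
    have hb'm : IsMono b' := by
      rw [← hcbc]; exact IsMono.mul (IsMono.mul hcm hb.isDiag.isMono) hcm
    apply hgm
    rw [← isMono_inv_iff]
    refine mono_of_conj4 hF hG hstar h2 hq (X.inv_mem hg) hkl hb0 ?_
    rw [inv_inv, ← hb']
    exact hb'm
  have hcX : c ∈ X := by
    rw [hc]; exact X.mul_mem (X.mul_mem (X.inv_mem hvX) hbX) hvX
  refine ⟨c, hcX, hcc, hcbc, ?_, v, hvX, hvm, hc⟩
  refine mono_of_conj4 hF hG hstar h2 hq (X.mul_mem hcX hg) hij hb ?_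
  have hci : c⁻¹ = c := inv_eq_of_mul_eq_one_left hcc
  have h3 : (c * g)⁻¹ * b * (c * g) = g⁻¹ * (c * b * c) * g := by
    rw [mul_inv_rev, hci]; group
  have h4 : (c * g)⁻¹ * b * (c * g) = b0 := by
    rw [h3, hcbc, hb']; group
  rw [h4]
  exact hb0.isDiag.isMono

theorem exists_conj4' (hq : 4 ≤ q) {g b b0 e : SU 4 F q} (hg : g ∈ X) (hgm : ¬ IsMono g)
    {i j k l : Fin 4} (hij : i ≠ j) (hkl : k ≠ l) (hb : IsB b i j) (hb0 : IsB b0 k l) (he : IsE e) :
    ∃ b₁, (b₁ = b0 ∨ b₁ = e * b0) ∧ ∃ c ∈ X, c * c = 1 ∧ c * b * c = g * b₁ * g⁻¹ ∧ IsMono (c * g) ∧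
      ∃ v ∈ X, ¬ IsMono v ∧ c = v⁻¹ * b * v := by
  obtain ⟨M, hM, h | h⟩ := odd_order4 hF hG hstar h2 hq hg hgm hij hkl hb hb0 he
  · exact ⟨b0, Or.inl rfl, exists_conj4 hF hG hstar h2 hq hg hgm hij hkl hb hb0 hM h⟩
  · obtain ⟨k', l', n1, n2, n3, n4, n5⟩ := exists_two_others hkl
    refine ⟨e * b0, Or.inr rfl, exists_conj4 hF hG hstar h2 hq hg hgm hij n5 hb
      (he.isB hb0 hkl n1 n2 n3 n4 n5) hM ?_⟩
    have h3 : b * (g * (e * b0) * g⁻¹) = e * (b * (g * b0 * g⁻¹)) := by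
      have e1 : g * (e * b0) = e * (g * b0) := by rw [← mul_assoc, ← he.comm g, mul_assoc]
      rw [e1, mul_assoc e, ← mul_assoc b e, ← he.comm b, mul_assoc]
    have h4 : e ^ M = e := by
      obtain ⟨m, rfl⟩ := hM
      rw [pow_succ, pow_mul, pow_two, he.mul_self, one_pow, one_mul]
    rw [h3, (show Commute e (b * (g * b0 * g⁻¹)) from he.comm _).mul_pow, h, h4, he.mul_self]

/-- the product of two conjugating involutions has odd order up to sign -/
theorem odd_prod4 (hq : 4 ≤ q) {b v₁ v₂ e : SU 4 F q} (hv₁ : v₁ ∈ X) (hv₂ : v₂ ∈ X)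
    (hvm : ¬ IsMono v₁) {i j : Fin 4} (hij : i ≠ j) (hb : IsB b i j) (he : IsE e)
    (hy : IsMono (v₁⁻¹ * b * v₁ * (v₂⁻¹ * b * v₂))) (hy1 : v₁⁻¹ * b * v₁ * (v₂⁻¹ * b * v₂) ≠ 1)
    (hye : v₁⁻¹ * b * v₁ * (v₂⁻¹ * b * v₂) ≠ e) :
    ∃ M, Odd M ∧ ((v₁⁻¹ * b * v₁ * (v₂⁻¹ * b * v₂)) ^ M = 1 ∨
      (v₁⁻¹ * b * v₁ * (v₂⁻¹ * b * v₂)) ^ M = e) := by
  classical
  obtain ⟨y, hyd⟩ : ∃ y, y = v₁⁻¹ * b * v₁ * (v₂⁻¹ * b * v₂) := ⟨_, rfl⟩
  rw [← hyd] at hy hy1 hye ⊢
  obtain ⟨h, hh⟩ : ∃ h, h = v₁ * v₂⁻¹ := ⟨_, rfl⟩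
  have hhX : h ∈ X := by rw [hh]; exact X.mul_mem hv₁ (X.inv_mem hv₂)
  have hyh : y = v₁⁻¹ * (b * (h * b * h⁻¹)) * v₁ := by rw [hyd, hh]; group
  by_cases hhm : IsMono h
  · exfalso
    obtain ⟨σ, d, hd0, hd⟩ := IsMono.exists_perm hhm
    have hb' : IsB (h * b * h⁻¹) (σ i) (σ j) := hb.conj_perm hd
    rcases pairs i j (σ i) (σ j) hij (fun h => hij (σ.injective h)) with h3 | h3 | ⟨a, c, hac, h3⟩
    · apply hy1
      have h4 : b * (h * b * h⁻¹) = 1 := by
        apply ext_act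
        intro x
        funext l
        rw [act_mul, hb, hb', act_one]
        simp only [h3]
        split_ifs <;> ring
      rw [hyh, h4]; group
    · apply hye
      have h4 : b * (h * b * h⁻¹) = e := by
        apply ext_act
        intro x
        funext l
        rw [act_mul, hb, hb', he, Pi.neg_apply]
        simp only [h3]
        split_ifs <;> ring
      rw [hyh, h4, mul_assoc, he.comm, ← mul_assoc, inv_mul_cancel, one_mul]
    · have h4 : IsB (b * (h * b * h⁻¹)) a c := by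
        intro x l
        rw [act_mul, hb, hb']
        by_cases hP : l = σ i ∨ l = σ j
        · by_cases hQ : l = i ∨ l = j
          · rw [if_pos hQ, if_pos hP, if_neg (fun h => (h3 l).1 h (iff_of_true hP hQ)), neg_neg]
          · rw [if_neg hQ, if_pos hP, if_pos ((h3 l).2 (fun h => hQ (h.1 hP)))]
        · by_cases hQ : l = i ∨ l = j
          · rw [if_pos hQ, if_neg hP, if_pos ((h3 l).2 (fun h => hP (h.2 hQ)))]
          · rw [if_neg hQ, if_neg hP, if_neg (fun h => (h3 l).1 h (iff_of_false hP hQ))]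
      exact hvm (mono_of_conj4 hF hG hstar h2 hq hv₁ hac h4 (by rw [← hyh]; exact hy))
  · obtain ⟨M, hM, h1⟩ := odd_order4 hF hG hstar h2 hq hhX hhm hij hij hb hb he
    refine ⟨M, hM, ?_⟩
    have h3 : y ^ M = v₁⁻¹ * (b * (h * b * h⁻¹)) ^ M * v₁ := by
      rw [hyh]
      have := conj_pow (i := M) (a := v₁⁻¹) (b := b * (h * b * h⁻¹))
      rwa [inv_inv] at this
    rcases h1 with h1 | h1
    · left; rw [h3, h1]; group
    · right; rw [h3, h1, mul_assoc, he.comm, ← mul_assoc, inv_mul_cancel, one_mul]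

/-- **(P3)** elements of order three permuting both frames -/
theorem three_cycles (hq : 4 ≤ q) {g : SU 4 F q} (hg : g ∈ X) (hgm : ¬ IsMono g) :
    ∃ σ τ : Equiv.Perm (Fin 4), σ ^ 3 = 1 ∧ σ ≠ 1 ∧ τ ^ 3 = 1 ∧ τ ≠ 1 ∧
      ∀ i j, ent g (σ i) (τ j) * ent g (σ i) (τ j) ^ q = ent g i j * ent g i j ^ q := by
  classical
  have hzf := zero_free hF hG hstar hq hg hgm
  obtain ⟨e, he⟩ := exists_eps (F := F) hF
  have h01 : (0 : Fin 4) ≠ 1 := by decide
  have h02 : (0 : Fin 4) ≠ 2 := by decide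
  have h12 : (1 : Fin 4) ≠ 2 := by decide
  obtain ⟨b, hb⟩ := exists_B (F := F) hF h01
  obtain ⟨b', hb'⟩ := exists_B (F := F) hF h02
  obtain ⟨b₁, hb₁, c₁, hc₁X, hcc₁, hcb₁, hcm₁, v₁, hv₁X, hvm₁, hv₁⟩ :=
    exists_conj4' hF hG hstar h2 hq hg hgm h01 h01 hb hb he
  obtain ⟨b₂, hb₂, c₂, hc₂X, hcc₂, hcb₂, hcm₂, v₂, hv₂X, hvm₂, hv₂⟩ :=
    exists_conj4' hF hG hstar h2 hq hg hgm h01 h02 hb hb' he
  have hci₁ : c₁⁻¹ = c₁ := inv_eq_of_mul_eq_one_left hcc₁
  have hci₂ : c₂⁻¹ = c₂ := inv_eq_of_mul_eq_one_left hcc₂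
  obtain ⟨y, hy⟩ : ∃ y, y = c₁ * c₂ := ⟨_, rfl⟩
  obtain ⟨y', hy'⟩ : ∃ y', y' = g⁻¹ * y * g := ⟨_, rfl⟩
  have hym : IsMono y := by
    have h3 : y = (c₁ * g) * (c₂ * g)⁻¹ := by rw [hy, mul_inv_rev, hci₂]; group
    rw [h3]; exact IsMono.mul hcm₁ (IsMono.inv hcm₂)
  have hym' : IsMono y' := by
    have h3 : y' = (c₁ * g)⁻¹ * (c₂ * g) := by rw [hy', hy, mul_inv_rev, hci₁]; group
    rw [h3]; exact IsMono.mul (IsMono.inv hcm₁) hcm₂
  -- the two conjugates are different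
  have hbne : b₁ ≠ b₂ := by
    intro h
    have hsgn : ∀ k, (k = 1 ∨ k = 3) → act b' (Pi.single k 1) = Pi.single k 1 := by
      intro k hk
      rw [hb'.single, if_neg (by rcases hk with rfl | rfl <;> decide), one_smul]
    have a0 : act b (Pi.single 0 1) = -Pi.single 0 1 := by
      rw [hb.single, if_pos (by decide), neg_one_smul]
    have a1 : act b (Pi.single 1 1) = -Pi.single 1 1 := by
      rw [hb.single, if_pos (by decide), neg_one_smul]
    have a0' : act b' (Pi.single 0 1) = -Pi.single 0 1 := by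
      rw [hb'.single, if_pos (by decide), neg_one_smul]
    have a1' : act b' (Pi.single 1 1) = Pi.single 1 1 := hsgn 1 (Or.inl rfl)
    have hns : ∀ k : Fin 4, (Pi.single k 1 : Fin 4 → F) ≠ -Pi.single k 1 := by
      intro k hk
      have h3 := congrFun hk k
      rw [Pi.neg_apply, Pi.single_eq_same] at h3
      apply h2; linear_combination h3
    have q0 : act b₁ (Pi.single 0 1) = act b₂ (Pi.single 0 1) := by rw [h]
    have q1 : act b₁ (Pi.single 1 1) = act b₂ (Pi.single 1 1) := by rw [h]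
    rcases hb₁ with r1 | r1 <;> rcases hb₂ with r2 | r2 <;> rw [r1, r2] at q0 q1
    · rw [a1, a1'] at q1; exact hns 1 q1.symm
    · rw [act_mul, he, a0, a0', neg_neg] at q0; exact hns 0 q0.symm
    · rw [act_mul, he, a0, a0', neg_neg] at q0; exact hns 0 q0
    · rw [act_mul, act_mul, he, he, a1, a1', neg_neg] at q1; exact hns 1 q1
  have hconj_ne : c₁ * b * c₁ ≠ c₂ * b * c₂ := by
    intro h
    rw [hcb₁, hcb₂] at h
    exact hbne (by simpa using h)
  have hy1 : y ≠ 1 := by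
    intro h
    have h3 : c₁ = c₂ := by
      have : c₁ * c₂ = 1 := by rw [← hy, h]
      rw [← hci₂]; exact eq_inv_of_mul_eq_one_left this
    exact hconj_ne (by rw [h3])
  have hye : y ≠ e := by
    intro h
    have h3 : c₁ = e * c₂ := by
      rw [← h, hy, mul_assoc, hcc₂, mul_one]
    apply hconj_ne
    rw [h3]
    calc e * c₂ * b * (e * c₂) = e * (c₂ * b * e) * c₂ := by group
      _ = e * (e * (c₂ * b)) * c₂ := by rw [he.comm (c₂ * b)]
      _ = (e * e) * (c₂ * b * c₂) := by group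
      _ = c₂ * b * c₂ := by rw [he.mul_self, one_mul]
  obtain ⟨M, hM, hpow⟩ : ∃ M, Odd M ∧ (y ^ M = 1 ∨ y ^ M = e) := by
    have h3 : y = v₁⁻¹ * b * v₁ * (v₂⁻¹ * b * v₂) := by rw [hy, hv₁, hv₂]
    rw [h3]
    rw [h3] at hym hy1 hye
    exact odd_prod4 hF hG hstar h2 hq hv₁X hv₂X hvm₁ h01 hb he hym hy1 hye
  have hyM : IsDiag (y ^ M) := by
    rcases hpow with h | h
    · rw [h]; exact ⟨fun _ => 1, fun j => by rw [act_one, one_smul]⟩
    · rw [h]; exact he.isDiag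
  have hyM' : IsDiag (y' ^ M) := by
    have h3 : y' ^ M = g⁻¹ * y ^ M * g := by
      rw [hy']
      have := conj_pow (i := M) (a := g⁻¹) (b := y)
      rwa [inv_inv] at this
    rcases hpow with h | h
    · rw [h3, h]
      exact ⟨fun _ => 1, fun j => by rw [mul_one, inv_mul_cancel, act_one, one_smul]⟩
    · rw [h3, h, mul_assoc, he.comm, ← mul_assoc, inv_mul_cancel, one_mul]
      exact he.isDiag
  obtain ⟨σ, α, hα0, hα⟩ := IsMono.exists_perm hym
  obtain ⟨τ, β, hβ0, hβ⟩ := IsMono.exists_perm hym'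
  have hσ3 := perm_cube hM (perm_pow_eq_one hα0 hα hyM)
  have hτ3 := perm_cube hM (perm_pow_eq_one hβ0 hβ hyM')
  have hrel : ∀ i j, α i * ent g i j = β j * ent g (σ i) (τ j) := by
    intro i j
    have h3 : act y (act g (Pi.single j 1)) = act g (act y' (Pi.single j 1)) := by
      rw [hy', act_mul, act_mul, act_act_inv]
    have h4 := congrFun h3 (σ i)
    rw [act_perm_apply hα, hβ, act_smul, Pi.smul_apply, smul_eq_mul] at h4
    exact h4
  -- `y` is not scalar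
  have hsc : ∀ lam : F, ¬ ∀ x, act y x = lam • x := by
    intro lam h
    have h3 : ∀ x, act c₁ x = lam • act c₂ x := by
      intro x
      rw [← h, hy, act_mul, ← act_mul c₂ c₂, hcc₂, act_one]
    have h4 : lam * lam = 1 := by
      have h5 := h3 (lam • act c₂ (Pi.single 0 1))
      rw [← h3, ← act_mul, hcc₁, act_one, h3, act_smul, ← act_mul c₂ c₂, hcc₂, act_one] at h5
      have h6 := congrFun h5 0
      simp only [Pi.smul_apply, Pi.single_eq_same, smul_eq_mul, mul_one] at h6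
      exact h6.symm
    rcases mul_self_eq_one_iff.1 h4 with h5 | h5
    · apply hy1
      apply ext_act
      intro x
      rw [h, h5, one_smul, act_one]
    · apply hye
      apply ext_act
      intro x
      rw [h, h5, neg_one_smul, he]
  refine ⟨σ, τ, hσ3, ?_, hτ3, ?_, ?_⟩
  · intro hσ1
    obtain ⟨s, hs⟩ := perm_fix τ hτ3
    apply hsc (β s)
    have h3 : ∀ i, α i = β s := by
      intro i
      have h4 := hrel i s
      rw [hσ1, hs, Equiv.Perm.one_apply] at h4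
      exact mul_right_cancel₀ (hzf i s) h4
    intro x
    funext l
    have h5 := act_perm_apply hα x l
    rw [hσ1, Equiv.Perm.one_apply, h3] at h5
    exact h5
  · intro hτ1
    obtain ⟨r, hr⟩ := perm_fix σ hσ3
    have h3 : ∀ j, β j = α r := by
      intro j
      have h4 := hrel r j
      rw [hτ1, hr, Equiv.Perm.one_apply] at h4
      exact (mul_right_cancel₀ (hzf r j) h4).symm
    have h4 : ∀ x, act y' x = α r • x := by
      intro x
      funext l
      have h5 := act_perm_apply hβ x l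
      rw [hτ1, Equiv.Perm.one_apply, h3] at h5
      exact h5
    apply hsc (α r)
    intro x
    have h5 : y = g * y' * g⁻¹ := by rw [hy']; group
    rw [h5, act_mul, act_mul, h4, act_smul, act_act_inv]
  · intro i j
    have hN : ∀ {y : SU 4 F q} {σ : Equiv.Perm (Fin 4)} {α : Fin 4 → F},
        (∀ j, act y (Pi.single j 1) = α j • Pi.single (σ j) 1) → ∀ i, α i * α i ^ q = 1 := by
      intro y σ α hα i
      have h3 := herm_act y (Pi.single i 1) (Pi.single i (1 : F))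
      rw [hα, herm_smul_left, herm_smul_right, herm_single_self hF, herm_single_self hF, mul_one] at h3
      exact h3
    have h3 := congrArg (fun x => x * x ^ q) (hrel i j)
    simp only [Cfsg.Agent.LieClassical.HermBasic.norm_mul] at h3
    rw [hN hα i, hN hβ j, one_mul, one_mul] at h3
    exact h3.symm

end

end Cfsg.Agent.H876.Four
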