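import Cfsg.Agent.H876.FrameSmall
import Cfsg.Agent.H876.FourFinal
import Cfsg.Agent.H876.FourTwo

/-!
# `SU_4(q)`: the stabiliser of an orthonormal frame is maximal, all `q ≠ 3`
-/

set_option autoImplicit false
open Cfsg
open scoped Matrix MatrixGroups

namespace Cfsg.Agent.H876.FrameMax

open Cfsg.Agent.H927

variable {F : Type*} [Field F] [Fintype F] {q t : ℕ}

/-- overgroups of the monomial group, `n = 4`, `q ≠ 3`. -/
theorem frame_top_four (hF : Fintype.card F = q ^ 2) (hq3 : q ≠ 3)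
    (X : Subgroup (SU 4 F q)) (hG : ∀ g, IsMono g → g ∈ X) (hX : ∃ g ∈ X, ¬ IsMono g) : X = ⊤ := by
  rcases cases_q hF with rfl | ⟨h2, hq⟩ | ⟨h2, hq⟩
  · exact Four.eq_top_four_two hF hG hX
  · exact Four.eq_top_four_even hF hG h2 hq hX
  · exact Four.eq_top_four_odd hF hG h2 (by omega) hX

/-- **Stabilisers of orthonormal frames are maximal in `SU_4(q)`**, all `q ≠ 3`. -/
theorem frame_maximal_four (hF : Fintype.card F = q ^ 2) (hq3 : q ≠ 3)
    (D : Fin t → Submodule F (Fin 4 → F))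
    (hD : Cfsg.Geo.IsNondegenerateMDecomposition (Cfsg.hermForm 4 F q) 1 D) :
    Cfsg.Geo.IsMaximalIn (Cfsg.GU 4 F q ⊓ Cfsg.Geo.specialLinear (Fin 4) F)
      (Cfsg.Geo.decompositionStabilizer D ⊓ (Cfsg.GU 4 F q ⊓ Cfsg.Geo.specialLinear (Fin 4) F)) :=
  frame_maximal hF (by omega) D hD (frame_top_four hF hq3)

end Cfsg.Agent.H876.FrameMax
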