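import Cfsg.Agent.H927.FrameTop
import Cfsg.Agent.H876.EvenFrame

/-!
# Monomial elements of `SU_n(q)`: products, inverses, the number of moved coordinate vectors
-/

set_option autoImplicit false

namespace Cfsg.Agent.H876.MonoBasic

open Cfsg Cfsg.Agent.LieClassical.HermBasic Cfsg.Agent.LieClassical.HermSiegel Cfsg.Agent.H927

variable {F : Type*} [Field F] {n q : ℕ}

theorem single_ne_zero (i : Fin n) : (Pi.single i 1 : Fin n → F) ≠ 0 := by
  intro h
  have := congrFun h i
  rw [Pi.single_eq_same] at this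
  exact one_ne_zero this

theorem isMono_one : IsMono (1 : SU n F q) := fun j => ⟨j, 1, by rw [act_one, one_smul]⟩

theorem IsMono.mul {g h : SU n F q} (hg : IsMono g) (hh : IsMono h) : IsMono (g * h) := by
  intro j
  obtain ⟨i, c, hc⟩ := hh j
  obtain ⟨l, d, hd⟩ := hg i
  exact ⟨l, c * d, by rw [act_mul, hc, act_smul, hd, smul_smul]⟩

/-- permutation and coefficients of a monomial element. -/
theorem IsMono.exists_perm {g : SU n F q} (hg : IsMono g) :
    ∃ (σ : Equiv.Perm (Fin n)) (d : Fin n → F), (∀ j, d j ≠ 0) ∧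
      ∀ j, act g (Pi.single j 1) = d j • Pi.single (σ j) 1 := by
  choose σ d hd using hg
  have hd0 : ∀ j, d j ≠ 0 := by
    intro j h0
    have h1 := hd j
    rw [h0, zero_smul, act_eq_zero] at h1
    exact single_ne_zero j h1
  have hinj : Function.Injective σ := by
    intro j k hjk
    by_contra hne
    have h1 : act g (d k • Pi.single j 1 - d j • Pi.single k 1) = 0 := by
      rw [act_sub, act_smul, act_smul, hd, hd, hjk, smul_smul, smul_smul, mul_comm, sub_self]
    rw [act_eq_zero] at h1
    have h2 := congrFun h1 j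
    rw [Pi.sub_apply, Pi.smul_apply, Pi.smul_apply, Pi.single_eq_same, Pi.single_eq_of_ne hne] at h2
    simp only [smul_eq_mul, mul_one, mul_zero, sub_zero, Pi.zero_apply] at h2
    exact hd0 k h2
  exact ⟨Equiv.ofBijective σ (Finite.injective_iff_bijective.1 hinj), d, hd0, hd⟩

theorem IsMono.inv {g : SU n F q} (hg : IsMono g) : IsMono g⁻¹ := by
  obtain ⟨σ, d, hd0, hd⟩ := IsMono.exists_perm hg
  intro j
  refine ⟨σ.symm j, (d (σ.symm j))⁻¹, ?_⟩
  have h1 := hd (σ.symm j)
  rw [Equiv.apply_symm_apply] at h1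
  have h2 : act g ((d (σ.symm j))⁻¹ • Pi.single (σ.symm j) 1) = Pi.single j 1 := by
    rw [act_smul, h1, smul_smul, inv_mul_cancel₀ (hd0 _), one_smul]
  rw [← h2, act_inv_act]

theorem isMono_inv_iff {g : SU n F q} : IsMono g⁻¹ ↔ IsMono g :=
  ⟨fun h => by have := IsMono.inv h; rwa [inv_inv] at this, IsMono.inv⟩

theorem isMono_mul_iff_left {g h : SU n F q} (hh : IsMono h) : IsMono (g * h) ↔ IsMono g := by
  refine ⟨fun h1 => ?_, fun h1 => IsMono.mul h1 hh⟩
  have := IsMono.mul h1 (IsMono.inv hh)
  rwa [mul_inv_cancel_right] at this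

/-- the coordinates of the image of a vector under a monomial element. -/
theorem act_perm_apply {g : SU n F q} {σ : Equiv.Perm (Fin n)} {d : Fin n → F}
    (hd : ∀ j, act g (Pi.single j 1) = d j • Pi.single (σ j) 1) (x : Fin n → F) (j : Fin n) :
    act g x (σ j) = d j * x j := by
  classical
  have h1 : x = ∑ k, x k • (Pi.single k 1 : Fin n → F) := by
    conv_lhs => rw [← Finset.univ_sum_single x]
    refine Finset.sum_congr rfl fun k _ => ?_
    rw [← Pi.single_smul, smul_eq_mul, mul_one]
  conv_lhs => rw [h1]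
  rw [act_sum, Finset.sum_apply, Finset.sum_eq_single j]
  · rw [act_smul, hd, Pi.smul_apply, Pi.smul_apply, Pi.single_eq_same, smul_eq_mul, smul_eq_mul, mul_one,
      mul_comm]
  · intro k _ hk
    rw [act_smul, hd, Pi.smul_apply, Pi.smul_apply, Pi.single_eq_of_ne (fun h => hk (σ.injective h).symm)]
    simp
  · intro h; exact absurd (Finset.mem_univ j) h

/-- A non-zero vector supported on `S` satisfying fewer than `card S` linear conditions. -/
theorem exists_supported {r : ℕ} (S : Finset (Fin n)) (hS : r < S.card)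
    (ℓ : Fin r → ((Fin n → F) →ₗ[F] F)) :
    ∃ x : Fin n → F, x ≠ 0 ∧ (∀ i, i ∉ S → x i = 0) ∧ ∀ k, ℓ k x = 0 := by
  classical
  let ext : (S → F) →ₗ[F] (Fin n → F) :=
    { toFun := fun y i => if h : i ∈ S then y ⟨i, h⟩ else 0
      map_add' := fun y z => by funext i; by_cases h : i ∈ S <;> simp [h]
      map_smul' := fun c y => by funext i; by_cases h : i ∈ S <;> simp [h] }
  have hext : ∀ (y : S → F) (i : Fin n) (h : i ∈ S), ext y i = y ⟨i, h⟩ := fun y i h => dif_pos h
  have hext' : ∀ (y : S → F) (i : Fin n) (_ : i ∉ S), ext y i = 0 := fun y i h => dif_neg h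
  have hker : LinearMap.ker ((LinearMap.pi ℓ).comp ext) ≠ ⊥ := by
    apply LinearMap.ker_ne_bot_of_finrank_lt
    rw [Module.finrank_fintype_fun_eq_card, Module.finrank_fintype_fun_eq_card, Fintype.card_fin,
      Fintype.card_coe]
    exact hS
  obtain ⟨y, hy, hy0⟩ := Submodule.exists_mem_ne_zero_of_ne_bot hker
  refine ⟨ext y, ?_, hext' y, ?_⟩
  · intro h0
    apply hy0
    funext ⟨i, hi⟩
    rw [← hext y i hi, h0]
    rfl
  · intro k
    have h1 := congrFun (LinearMap.mem_ker.1 hy) k
    exact h1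

/-- the coordinate vectors moved by `g`. -/
noncomputable def moved (g : SU n F q) : Finset (Fin n) :=
  @Finset.filter (Fin n) (fun k => act g (Pi.single k 1) ≠ Pi.single k 1) (Classical.decPred _) Finset.univ

theorem mem_moved {g : SU n F q} {k : Fin n} :
    k ∈ moved g ↔ act g (Pi.single k 1) ≠ Pi.single k 1 := by
  classical
  simp [moved]

/-- A monomial element acting trivially on the vectors satisfying `r` linear conditions moves at most `2 r`
coordinate vectors. -/
theorem card_moved_le {g : SU n F q} (hg : IsMono g) {r : ℕ} (ℓ : Fin r → ((Fin n → F) →ₗ[F] F))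
    (hfix : ∀ x, (∀ k, ℓ k x = 0) → act g x = x) : (moved g).card ≤ 2 * r := by
  classical
  obtain ⟨σ, d, hd0, hd⟩ := IsMono.exists_perm hg
  have key : ∀ S : Finset (Fin n), (∀ x : Fin n → F, (∀ i, i ∉ S → x i = 0) → act g x = x → x = 0) →
      S.card ≤ r := by
    intro S hS
    by_contra hlt
    push Not at hlt
    obtain ⟨x, hx0, hxS, hxl⟩ := exists_supported S hlt ℓ
    exact hx0 (hS x hxS (hfix x hxl))
  have hx : ∀ x : Fin n → F, act g x = x → ∀ j, x (σ j) = d j * x j := by
    intro x hx j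
    rw [← act_perm_apply hd, hx]
  have hmv : ∀ j, j ∈ moved g → σ j = j → d j ≠ 1 := by
    intro j hj hσ h1
    rw [mem_moved] at hj
    apply hj
    rw [hd, hσ, h1, one_smul]
  have h1 : ((moved g).filter fun j => j ≤ σ j).card ≤ r := by
    apply key
    intro x hxS hgx
    by_contra hx0
    obtain ⟨j0, hj0⟩ : ∃ j, x j ≠ 0 := by
      by_contra hcon
      push Not at hcon
      exact hx0 (funext hcon)
    have hne : (Finset.univ.filter fun j => x j ≠ 0).Nonempty := ⟨j0, Finset.mem_filter.2 ⟨Finset.mem_univ _, hj0⟩⟩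
    obtain ⟨j, hj, hmax⟩ := Finset.exists_max_image _ (fun j : Fin n => j) hne
    have hxj := (Finset.mem_filter.1 hj).2
    have hjS : j ∈ (moved g).filter fun j => j ≤ σ j := by
      by_contra h; exact hxj (hxS j h)
    rw [Finset.mem_filter] at hjS
    have h3 := hx x hgx j
    rcases eq_or_lt_of_le hjS.2 with h4 | h4
    · rw [← h4] at h3
      have h5 : (d j - 1) * x j = 0 := by linear_combination -h3
      rcases mul_eq_zero.1 h5 with h6 | h6
      · exact hmv j hjS.1 h4.symm (by linear_combination h6)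
      · exact hxj h6
    · have h5 : x (σ j) ≠ 0 := by rw [h3]; exact mul_ne_zero (hd0 j) hxj
      have h6 := hmax (σ j) (Finset.mem_filter.2 ⟨Finset.mem_univ _, h5⟩)
      exact absurd h4 (not_lt.2 h6)
  have h2 : ((moved g).filter fun j => ¬ j ≤ σ j).card ≤ r := by
    apply key
    intro x hxS hgx
    by_contra hx0
    obtain ⟨j0, hj0⟩ : ∃ j, x j ≠ 0 := by
      by_contra hcon
      push Not at hcon
      exact hx0 (funext hcon)
    have hne : (Finset.univ.filter fun j => x j ≠ 0).Nonempty := ⟨j0, Finset.mem_filter.2 ⟨Finset.mem_univ _, hj0⟩⟩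
    obtain ⟨j, hj, hmin⟩ := Finset.exists_min_image _ (fun j : Fin n => j) hne
    have hxj := (Finset.mem_filter.1 hj).2
    have hjS : j ∈ (moved g).filter fun j => ¬ j ≤ σ j := by
      by_contra h; exact hxj (hxS j h)
    rw [Finset.mem_filter, not_le] at hjS
    have h3 := hx x hgx j
    have h5 : x (σ j) ≠ 0 := by rw [h3]; exact mul_ne_zero (hd0 j) hxj
    have h6 := hmin (σ j) (Finset.mem_filter.2 ⟨Finset.mem_univ _, h5⟩)
    exact absurd hjS.2 (not_lt.2 h6)
  have h3 := Finset.card_filter_add_card_filter_not (s := moved g) (fun j => j ≤ σ j)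
  omega

theorem exists_not_moved {g : SU n F q} (h : (moved g).card < n) :
    ∃ k, act g (Pi.single k 1) = Pi.single k 1 := by
  obtain ⟨k, hk⟩ := EvenFrame.exists_notMem_of_card_lt h
  rw [mem_moved, not_not] at hk
  exact ⟨k, hk⟩

theorem exists_two_not_moved {g : SU n F q} (h : (moved g).card + 1 < n) :
    ∃ k l, k ≠ l ∧ act g (Pi.single k 1) = Pi.single k 1 ∧ act g (Pi.single l 1) = Pi.single l 1 := by
  classical
  obtain ⟨k, hk⟩ := EvenFrame.exists_notMem_of_card_lt (s := moved g) (n := n) (by omega)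
  obtain ⟨l, hl⟩ := EvenFrame.exists_notMem_of_card_lt (s := insert k (moved g)) (n := n)
    (lt_of_le_of_lt (Finset.card_insert_le _ _) h)
  rw [Finset.mem_insert, not_or] at hl
  refine ⟨k, l, Ne.symm hl.1, ?_, ?_⟩
  · rw [mem_moved, not_not] at hk; exact hk
  · have := hl.2
    rw [mem_moved, not_not] at this
    exact this

end Cfsg.Agent.H876.MonoBasic
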