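import Cfsg.Agent.H876.MonoBasic

/-!
# Monomial elements of odd order: the number of moved coordinate vectors
-/

set_option autoImplicit false

namespace Cfsg.Agent.H876.MonoBasic

open Cfsg Cfsg.Agent.LieClassical.HermBasic Cfsg.Agent.LieClassical.HermSiegel Cfsg.Agent.H927

variable {F : Type*} [Field F] {n q : ℕ}

/-- the support of a fixed vector is a union of cycles. -/
theorem pow_apply_ne_zero {g : SU n F q} {σ : Equiv.Perm (Fin n)} {d : Fin n → F} (hd0 : ∀ j, d j ≠ 0)
    (hd : ∀ j, act g (Pi.single j 1) = d j • Pi.single (σ j) 1) {x : Fin n → F} (hx : act g x = x)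
    {j : Fin n} (hj : x j ≠ 0) (k : ℕ) : x ((σ ^ k) j) ≠ 0 := by
  induction k with
  | zero => simpa using hj
  | succ k ih =>
    rw [pow_succ', Equiv.Perm.mul_apply]
    have h1 : x (σ ((σ ^ k) j)) = d ((σ ^ k) j) * x ((σ ^ k) j) := by
      rw [← act_perm_apply hd, hx]
    rw [h1]
    exact mul_ne_zero (hd0 _) ih

/-- A monomial element of odd order acting trivially on the vectors satisfying `r` linear conditions moves at
most `3 r / 2` coordinate vectors. -/
theorem card_moved_le_odd {g : SU n F q} (hg : IsMono g) (hodd : Odd (orderOf g)) (hpos : 0 < orderOf g)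
    {r : ℕ} (ℓ : Fin r → ((Fin n → F) →ₗ[F] F))
    (hfix : ∀ x, (∀ k, ℓ k x = 0) → act g x = x) : 2 * (moved g).card ≤ 3 * r := by
  classical
  obtain ⟨σ, d, hd0, hd⟩ := IsMono.exists_perm hg
  have hmv : ∀ j, j ∈ moved g → σ j = j → d j ≠ 1 := by
    intro j hj hσ h1
    rw [mem_moved] at hj
    apply hj
    rw [hd, hσ, h1, one_smul]
  have hmv' : ∀ j, σ j ≠ j → j ∈ moved g := by
    intro j hj
    rw [mem_moved, hd]
    intro h1
    have h2 := congrFun h1 j
    rw [Pi.smul_apply, Pi.single_eq_same, Pi.single_eq_of_ne (Ne.symm hj), smul_zero] at h2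
    exact zero_ne_one h2
  -- a power of the element
  have hpow : ∀ (k : ℕ) (j : Fin n), ∃ c : F, c ≠ 0 ∧
      act (g ^ k) (Pi.single j 1) = c • Pi.single ((σ ^ k) j) 1 := by
    intro k
    induction k with
    | zero => intro j; exact ⟨1, one_ne_zero, by rw [pow_zero, act_one, one_smul]; rfl⟩
    | succ k ih =>
      intro j
      obtain ⟨c, hc0, hc⟩ := ih (σ j)
      refine ⟨d j * c, mul_ne_zero (hd0 j) hc0, ?_⟩
      rw [pow_succ, act_mul, hd, act_smul, hc, smul_smul, pow_succ, Equiv.Perm.mul_apply]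
  have hσN : ∀ j, (σ ^ orderOf g) j = j := by
    intro j
    obtain ⟨c, hc0, hc⟩ := hpow (orderOf g) j
    rw [pow_orderOf_eq_one, act_one] at hc
    by_contra hne
    have h2 := congrFun hc j
    rw [Pi.smul_apply, Pi.single_eq_same, Pi.single_eq_of_ne (Ne.symm hne), smul_zero] at h2
    exact one_ne_zero h2
  have h2cyc : ∀ j, σ (σ j) = j → σ j = j := by
    intro j hj
    obtain ⟨m, hm⟩ := hodd
    have h1 : ∀ m : ℕ, (σ ^ (2 * m + 1)) j = σ j := by
      intro m
      induction m with
      | zero => simp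
      | succ m ih =>
        rw [show 2 * (m + 1) + 1 = (2 * m + 1) + 2 by ring, pow_add, Equiv.Perm.mul_apply, pow_two,
          Equiv.Perm.mul_apply, hj, ih]
    have h3 := hσN j
    rw [hm, h1 m] at h3
    exact h3
  -- cycle minima
  let A : Finset (Fin n) := Finset.univ.filter fun j => σ j ≠ j ∧ ∀ k : ℕ, j ≤ (σ ^ k) j
  have hA : ∀ j, j ∈ A ↔ σ j ≠ j ∧ ∀ k : ℕ, j ≤ (σ ^ k) j := fun j => by simp [A]
  have hAm : A ⊆ moved g := fun j hj => hmv' j ((hA j).1 hj).1
  let T : Finset (Fin n) := moved g \ A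
  have hT : T.card ≤ r := by
    by_contra hlt
    push Not at hlt
    obtain ⟨x, hx0, hxS, hxl⟩ := exists_supported T hlt ℓ
    have hgx := hfix x hxl
    apply hx0
    funext j
    by_contra hxj
    have hjT : j ∈ T := by by_contra h; exact hxj (hxS j h)
    have hjm : j ∈ moved g := (Finset.mem_sdiff.1 hjT).1
    by_cases hσj : σ j = j
    · have h1 : x (σ j) = d j * x j := by rw [← act_perm_apply hd, hgx]
      rw [hσj] at h1
      have h3 : (d j - 1) * x j = 0 := by linear_combination -h1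
      rcases mul_eq_zero.1 h3 with h4 | h4
      · exact hmv j hjm hσj (by linear_combination h4)
      · exact hxj h4
    · obtain ⟨a, ha, hmin⟩ := Finset.exists_min_image
        (Finset.univ.filter fun i => ∃ k : ℕ, (σ ^ k) j = i) (fun i : Fin n => i)
        ⟨j, Finset.mem_filter.2 ⟨Finset.mem_univ _, 0, rfl⟩⟩
      obtain ⟨k, hk⟩ := (Finset.mem_filter.1 ha).2
      have hxa : x a ≠ 0 := by rw [← hk]; exact pow_apply_ne_zero hd0 hd hgx hxj k
      have haA : a ∈ A := by
        rw [hA]
        refine ⟨?_, fun k' => ?_⟩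
        · rw [← hk]
          intro h
          apply hσj
          have h1 : (σ ^ k) (σ j) = (σ ^ k) j := by
            rw [← Equiv.Perm.mul_apply, ← pow_succ, pow_succ', Equiv.Perm.mul_apply, h]
          exact (σ ^ k).injective h1
        · apply hmin
          rw [Finset.mem_filter]
          exact ⟨Finset.mem_univ _, k' + k, by rw [pow_add, Equiv.Perm.mul_apply, hk]⟩
      apply hxa
      apply hxS
      intro h
      exact (Finset.mem_sdiff.1 h).2 haA
  have hback : ∀ a, ∃ k : ℕ, (σ ^ k) (σ a) = a := by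
    intro a
    refine ⟨orderOf g - 1, ?_⟩
    rw [← Equiv.Perm.mul_apply, ← pow_succ, Nat.sub_add_cancel hpos, hσN]
  have hback2 : ∀ a, ∃ k : ℕ, (σ ^ k) (σ (σ a)) = a := by
    intro a
    obtain ⟨k, hk⟩ := hback (σ a)
    obtain ⟨k', hk'⟩ := hback a
    exact ⟨k' + k, by rw [pow_add, Equiv.Perm.mul_apply, hk, hk']⟩
  have hσne : ∀ a, σ a ≠ a → σ (σ a) ≠ σ a := fun a ha h => ha (σ.injective h)
  have hn1 : ∀ a ∈ A, σ a ∉ A := by
    intro a ha h
    rw [hA] at ha h
    obtain ⟨k, hk⟩ := hback a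
    have h1 := h.2 k
    rw [hk] at h1
    have h2 := ha.2 1
    rw [pow_one] at h2
    exact ha.1 (le_antisymm h1 h2)
  have hn2 : ∀ a ∈ A, σ (σ a) ∉ A := by
    intro a ha h
    rw [hA] at ha h
    obtain ⟨k, hk⟩ := hback2 a
    have h1 := h.2 k
    rw [hk] at h1
    have h2 := ha.2 2
    rw [pow_two, Equiv.Perm.mul_apply] at h2
    exact ha.1 (h2cyc a (le_antisymm h1 h2))
  have hsub : A.image σ ∪ A.image (fun a => σ (σ a)) ⊆ T := by
    intro b hb
    rw [Finset.mem_union, Finset.mem_image, Finset.mem_image] at hb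
    rcases hb with ⟨a, ha, rfl⟩ | ⟨a, ha, rfl⟩
    · exact Finset.mem_sdiff.2 ⟨hmv' _ (hσne a ((hA a).1 ha).1), hn1 a ha⟩
    · exact Finset.mem_sdiff.2 ⟨hmv' _ (hσne _ (hσne a ((hA a).1 ha).1)), hn2 a ha⟩
  have hdis : Disjoint (A.image σ) (A.image (fun a => σ (σ a))) := by
    rw [Finset.disjoint_left]
    intro b hb hb'
    rw [Finset.mem_image] at hb hb'
    obtain ⟨a, ha, rfl⟩ := hb
    obtain ⟨a', ha', h⟩ := hb'
    have h1 : σ a' = a := σ.injective h
    exact hn1 a' ha' (h1 ▸ ha)
  have h1 := Finset.card_le_card hsub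
  rw [Finset.card_union_of_disjoint hdis, Finset.card_image_of_injective _ σ.injective,
    Finset.card_image_of_injective _ (fun a b h => σ.injective (σ.injective h))] at h1
  have h2 : T.card + A.card = (moved g).card := Finset.card_sdiff_add_card_eq_card hAm
  omega

end Cfsg.Agent.H876.MonoBasic
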