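import Cfsg.Agent.H876.NondegMax

/-!
# Orthogonal decompositions for the standard Hermitian form

`OD q D π`: `D` is an orthogonal decomposition with projections `π`, any permutation of the members being
induced by an isometry. `exists_OD`. `OD.move1`: changing one component by an element of determinant one
stabilising all members.
-/

set_option autoImplicit false
open Cfsg
open scoped Matrix MatrixGroups

namespace Cfsg.Agent.H876

open Cfsg.Agent.LieClassical.HermBasic Cfsg.Agent.ClassicalGeometry.UnitTransv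
open Cfsg.Agent.ClassicalGeometry.HermOrtho

variable {F : Type*} [Field F] [Fintype F] {n q t : ℕ}

/-- orthogonal decomposition `D` with projections `π`. -/
structure OD (q : ℕ) (D : Fin t → Submodule F (Fin n → F))
    (π : Fin t → (Fin n → F) →ₗ[F] (Fin n → F)) : Prop where
  nd : ∀ i, Nd q (D i)
  orth : ∀ i j, i ≠ j → ∀ u ∈ D i, ∀ v ∈ D j, hermForm n F q u v = 0
  mem : ∀ i x, π i x ∈ D i
  sum : ∀ x, ∑ i, π i x = x
  herm : ∀ i x, ∀ w ∈ D i, hermForm n F q (π i x) w = hermForm n F q x w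
  perm : ∀ σ : Equiv.Perm (Fin t), ∃ g ∈ GU n F q, ∀ i, ∀ x ∈ D i,
    (g : Matrix (Fin n) (Fin n) F) *ᵥ x ∈ D (σ i)

theorem exists_OD (hF : Fintype.card F = q ^ 2) {k : ℕ} {D : Fin t → Submodule F (Fin n → F)}
    (hD : Geo.IsNondegenerateMDecomposition (hermForm n F q) k D) :
    ∃ π : Fin t → (Fin n → F) →ₗ[F] (Fin n → F), OD q D π := by
  classical
  have hnd : ∀ i, Nd q (D i) := fun i => nd_of_geo (hD.nondegenerate i)
  have horth : ∀ i j, i ≠ j → ∀ u ∈ D i, ∀ v ∈ D j, hermForm n F q u v = 0 :=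
    fun i j hij => hD.orthogonal i j hij
  choose b hb hbb using fun i => exists_orthonormal hF (D i) (hnd i) (hD.decomp.finrank_eq i)
  -- the general map
  have hmain : ∀ σ : Equiv.Perm (Fin t), ∃ f : Fin t → (Fin n → F) →ₗ[F] (Fin n → F),
      ∀ i x, f i x = ∑ a, hermForm n F q x (b i a) • b (σ i) a := by
    intro σ
    refine ⟨fun i => ∑ a, (hermLeft q (b i a)).smulRight (b (σ i) a), fun i x => ?_⟩
    simp
  obtain ⟨π, hπ⟩ := hmain 1
  simp only [Equiv.Perm.one_apply] at hπ
  have hmem : ∀ i x, π i x ∈ D i := by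
    intro i x
    rw [hπ]
    exact (D i).sum_mem fun a _ => (D i).smul_mem _ (hb i a)
  have hfix : ∀ i, ∀ w ∈ D i, π i w = w := by
    intro i w hw
    rw [hπ]
    exact (eq_sum_of_orthonormal (D i) (by rw [hD.decomp.finrank_eq i, Fintype.card_fin]) (hb i) (hbb i) hw).symm
  have hherm1 : ∀ i x a, hermForm n F q (π i x) (b i a) = hermForm n F q x (b i a) := by
    intro i x a
    rw [hπ, herm_sum_smul_left (hbb i)]
  have hherm : ∀ i x, ∀ w ∈ D i, hermForm n F q (π i x) w = hermForm n F q x w := by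
    intro i x w hw
    rw [← hfix i w hw, hπ i w, herm_sum_right hF, herm_sum_right hF]
    refine Finset.sum_congr rfl fun a _ => ?_
    rw [herm_smul_right, herm_smul_right, hherm1]
  have hsum : ∀ x, ∑ i, π i x = x := by
    intro x
    rw [eq_comm, ← sub_eq_zero]
    refine herm_nondeg hF fun v => ?_
    have hv : v ∈ iSup D := by rw [hD.decomp.iSup_eq_top]; trivial
    induction hv using Submodule.iSup_induction' with
    | mem i v hv =>
      rw [herm_sub_left, herm_sum_left, Finset.sum_eq_single i, hherm i x v hv, sub_self]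
      · intro j _ hj
        exact horth j i hj _ (hmem j x) v hv
      · intro h; exact absurd (Finset.mem_univ i) h
    | zero => exact herm_zero_right hF _
    | add v w _ _ hv hw => rw [herm_add_right hF, hv, hw, add_zero]
  refine ⟨π, hnd, horth, hmem, hsum, hherm, fun σ => ?_⟩
  obtain ⟨f, hf⟩ := hmain σ
  have hfmem : ∀ i x, f i x ∈ D (σ i) := by
    intro i x
    rw [hf]
    exact (D _).sum_mem fun a _ => (D _).smul_mem _ (hb _ a)
  have hfh : ∀ i x y, hermForm n F q (f i x) (f i y) = hermForm n F q (π i x) (π i y) := by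
    intro i x y
    rw [hf i y, hπ i y, herm_sum_right hF, herm_sum_right hF]
    refine Finset.sum_congr rfl fun a _ => ?_
    rw [herm_smul_right, herm_smul_right, hf i x, herm_sum_smul_left (hbb _), hherm1]
  have hiso : ∀ x y, hermForm n F q (∑ i, f i x) (∑ i, f i y) = hermForm n F q x y := by
    intro x y
    rw [herm_sum_left]
    conv_rhs => rw [← hsum x]
    rw [herm_sum_left]
    refine Finset.sum_congr rfl fun i _ => ?_
    rw [herm_sum_right hF, Finset.sum_eq_single i]
    · rw [hfh]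
      exact herm_swap hF y (π i x) ▸ (by
        rw [herm_swap hF (π i y) (π i x), hherm i y _ (hmem i x)])
    · intro j _ hj
      exact horth _ _ (fun h => hj (σ.injective h).symm) _ (hfmem i x) _ (hfmem j y)
    · intro h; exact absurd (Finset.mem_univ i) h
  have hval : ∀ x, (LinearMap.toMatrix' (∑ i, f i)).mulVec x = ∑ i, f i x := by
    intro x
    rw [LinearMap.toMatrix'_mulVec, LinearMap.sum_apply]
  obtain ⟨g, hg, hgM⟩ := exists_GU_of_isometry hF (M := LinearMap.toMatrix' (∑ i, f i)) (by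
    intro x y
    rw [hval, hval]
    exact hiso x y)
  refine ⟨g, hg, fun i x hx => ?_⟩
  rw [hgM, hval, Finset.sum_eq_single i]
  · exact hfmem i x
  · intro j _ hj
    rw [hf]
    refine Finset.sum_eq_zero fun a _ => ?_
    rw [horth i j (Ne.symm hj) x hx _ (hb j a), zero_smul]
  · intro h; exact absurd (Finset.mem_univ i) h

section

variable {D : Fin t → Submodule F (Fin n → F)} {π : Fin t → (Fin n → F) →ₗ[F] (Fin n → F)}

omit [Fintype F] in
theorem OD.fix (h : OD q D π) {i : Fin t} {x : Fin n → F} (hx : x ∈ D i) : π i x = x := by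
  rw [← sub_eq_zero]
  refine h.nd i _ ((D i).sub_mem (h.mem i x) hx) fun v hv => ?_
  rw [herm_sub_left, h.herm i x v hv, sub_self]

omit [Fintype F] in
theorem OD.zero (h : OD q D π) {i j : Fin t} (hij : i ≠ j) {x : Fin n → F} (hx : x ∈ D j) :
    π i x = 0 := by
  refine h.nd i _ (h.mem i x) fun v hv => ?_
  rw [h.herm i x v hv]
  exact h.orth j i (Ne.symm hij) x hx v hv

theorem OD.herm' (hF : Fintype.card F = q ^ 2) (h : OD q D π) (i : Fin t) (x w : Fin n → F)
    (hw : w ∈ D i) : hermForm n F q w (π i x) = hermForm n F q w x := by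
  rw [herm_swap hF (π i x) w, h.herm i x w hw, ← herm_swap hF]

theorem OD.herm_eq (hF : Fintype.card F = q ^ 2) (h : OD q D π) (x y : Fin n → F) :
    hermForm n F q x y = ∑ i, hermForm n F q (π i x) (π i y) := by
  conv_lhs => rw [← h.sum x]
  rw [herm_sum_left]
  exact Finset.sum_congr rfl fun i _ => (h.herm' hF i y _ (h.mem i x)).symm

omit [Fintype F] in
theorem OD.mem_of (h : OD q D π) {i : Fin t} {x : Fin n → F} (hx : ∀ j, j ≠ i → π j x = 0) :
    x ∈ D i := by
  have h1 := h.sum x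
  rw [Finset.sum_eq_single i (fun j _ hj => hx j hj)
    (fun h => absurd (Finset.mem_univ i) h)] at h1
  rw [← h1]
  exact h.mem i x

omit [Fintype F] in
theorem OD.ext (h : OD q D π) {x y : Fin n → F} (hx : ∀ i, π i x = π i y) : x = y := by
  rw [← h.sum x, ← h.sum y]
  exact Finset.sum_congr rfl fun i _ => hx i

omit [Fintype F] in
theorem OD.pi_pi (h : OD q D π) (i j : Fin t) (x : Fin n → F) :
    π i (π j x) = if i = j then π i x else 0 := by
  split_ifs with hij
  · subst hij; exact h.fix (h.mem i x)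
  · exact h.zero hij (h.mem j x)

omit [Fintype F] in
/-- elements mapping each member into a member, by a permutation. -/
theorem mem_decStab {k : ℕ} (hk : ∀ i, Module.finrank F (D i) = k) {g : GL (Fin n) F}
    (σ : Equiv.Perm (Fin t)) (hg : ∀ i, ∀ x ∈ D i, (g : Matrix (Fin n) (Fin n) F) *ᵥ x ∈ D (σ i)) :
    g ∈ Geo.decompositionStabilizer D := by
  refine ⟨σ, fun i => ?_⟩
  apply Submodule.eq_of_le_of_finrank_eq
  · rintro _ ⟨x, hx, rfl⟩
    exact hg i x hx
  · rw [hk, ← hk i]
    refine (Submodule.equivMapOfInjective _ ?_ (D i)).symm.finrank_eq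
    intro x y hxy
    have h1 : (g : Matrix (Fin n) (Fin n) F) *ᵥ x = (g : Matrix (Fin n) (Fin n) F) *ᵥ y := hxy
    rw [← inv_mulVec_cancel g x, h1, inv_mulVec_cancel]

/-- the subgroup whose maximality is to be shown. -/
theorem mem_H_of {k : ℕ} (hk : ∀ i, Module.finrank F (D i) = k) {g : GL (Fin n) F}
    (hgS : g ∈ GU n F q ⊓ Geo.specialLinear (Fin n) F)
    (σ : Equiv.Perm (Fin t)) (hg : ∀ i, ∀ x ∈ D i, (g : Matrix (Fin n) (Fin n) F) *ᵥ x ∈ D (σ i)) :
    g ∈ Geo.decompositionStabilizer D ⊓ (GU n F q ⊓ Geo.specialLinear (Fin n) F) :=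
  ⟨mem_decStab hk σ hg, hgS⟩

/-- determinant correction inside a member. -/
theorem OD.adjust (hF : Fintype.card F = q ^ 2) (h : OD q D π) {k : ℕ}
    (hk : ∀ i, Module.finrank F (D i) = k) {g : GL (Fin n) F} (hg : g ∈ GU n F q)
    (σ : Equiv.Perm (Fin t)) (hgσ : ∀ i, ∀ x ∈ D i, (g : Matrix (Fin n) (Fin n) F) *ᵥ x ∈ D (σ i))
    {j : Fin t} {z : Fin n → F} (hz : z ∈ D j) (hzz : hermForm n F q z z ≠ 0) :
    ∃ g' ∈ Geo.decompositionStabilizer D ⊓ (GU n F q ⊓ Geo.specialLinear (Fin n) F),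
      (∀ i, ∀ x ∈ D i, (g' : Matrix (Fin n) (Fin n) F) *ᵥ x ∈ D (σ i)) ∧
      ∀ x, hermForm n F q ((g : Matrix (Fin n) (Fin n) F) *ᵥ x) z = 0 →
        (g' : Matrix (Fin n) (Fin n) F) *ᵥ x = (g : Matrix (Fin n) (Fin n) F) *ᵥ x := by
  obtain ⟨g', hg', β, hβ⟩ := exists_su_adjust hF hg hzz
  have h1 : ∀ i, ∀ x ∈ D i, (g' : Matrix (Fin n) (Fin n) F) *ᵥ x ∈ D (σ i) := by
    intro i x hx
    have h2 := hgσ i x hx
    rw [hβ]
    by_cases hij : σ i = j
    · rw [hij] at h2 ⊢
      exact (D j).add_mem h2 ((D j).smul_mem _ hz)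
    · rw [h.orth _ _ hij _ h2 z hz, mul_zero, zero_smul, add_zero]
      exact h2
  refine ⟨g', mem_H_of hk hg' σ h1, h1, fun x hx => ?_⟩
  rw [hβ, hx, mul_zero, zero_smul, add_zero]

/-- changing one component. -/
theorem OD.move1 (hF : Fintype.card F = q ^ 2) (h : OD q D π) {k : ℕ}
    (hk : ∀ i, Module.finrank F (D i) = k) {i j : Fin t} {x w' z : Fin n → F} (hw' : w' ∈ D i)
    (hx0 : π i x ≠ 0) (hw0' : w' ≠ 0)
    (hn : hermForm n F q (π i x) (π i x) = hermForm n F q w' w')
    (hz : z ∈ D j) (hzz : hermForm n F q z z ≠ 0)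
    (hxz : hermForm n F q (x - π i x + w') z = 0) :
    ∃ g ∈ Geo.decompositionStabilizer D ⊓ (GU n F q ⊓ Geo.specialLinear (Fin n) F),
      (g : Matrix (Fin n) (Fin n) F) *ᵥ x = x - π i x + w' := by
  obtain ⟨g, hg, hfix, hga⟩ := witt_fix hF (U := LinearMap.ker (π i)) (a := π i x) (b := w')
    (by
      intro h0
      rw [LinearMap.mem_ker, h.fix (h.mem i x)] at h0
      exact hx0 h0)
    (by
      intro h0
      rw [LinearMap.mem_ker, h.fix hw'] at h0
      exact hw0' h0)
    (by
      intro u hu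
      rw [← h.herm' hF i u _ (h.mem i x), ← h.herm' hF i u _ hw', LinearMap.mem_ker.1 hu,
        herm_zero_right hF, herm_zero_right hF]) hn
  have hgi : ∀ l, ∀ y ∈ D l, (g : Matrix (Fin n) (Fin n) F) *ᵥ y ∈ D ((1 : Equiv.Perm (Fin t)) l) := by
    intro l y hy
    rw [Equiv.Perm.one_apply]
    by_cases hl : i = l
    · subst hl
      apply h.mem_of
      intro j hj
      refine h.nd j _ (h.mem _ _) fun v hv => ?_
      rw [h.herm j _ v hv, ← hfix v (LinearMap.mem_ker.2 (h.zero (Ne.symm hj) hv)), herm_gl hg]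
      exact h.orth i j (Ne.symm hj) y hy v hv
    · rw [hfix y (LinearMap.mem_ker.2 (h.zero hl hy))]
      exact hy
  have hgx : (g : Matrix (Fin n) (Fin n) F) *ᵥ x = x - π i x + w' := by
    have h1 : x = (x - π i x) + π i x := by abel
    conv_lhs => rw [h1]
    rw [Matrix.mulVec_add, hga, hfix (x - π i x) (by
      rw [LinearMap.mem_ker, map_sub, h.fix (h.mem i x), sub_self])]
  obtain ⟨g', hg', -, hg''⟩ := h.adjust hF hk hg 1 hgi hz hzz
  refine ⟨g', hg', ?_⟩
  rw [hg'' x (by rw [hgx]; exact hxz), hgx]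

end

end Cfsg.Agent.H876
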