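import Cfsg.Agent.H876.OddFrame
import Cfsg.Agent.H876.MonoOdd

/-!
# Overgroups of the monomial group of `SU_n(q)`, `q` odd, `n ≥ 8`
-/

set_option autoImplicit false

namespace Cfsg.Agent.H876.OddFrame

open Cfsg Cfsg.Agent.LieClassical.HermBasic Cfsg.Agent.LieClassical.HermSiegel Cfsg.Agent.H927
open Cfsg.Agent.H876.MonoBasic

variable {F : Type*} [Field F] {n q : ℕ}

theorem exists_not_fixed {y : SU n F q} (hy1 : y ≠ 1) : ∃ k, act y (Pi.single k 1) ≠ Pi.single k 1 := by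
  by_contra hcon
  push Not at hcon
  apply hy1
  apply ext_act
  intro x
  funext a
  have h3 := act_perm_apply (g := y) (σ := Equiv.refl _) (d := fun _ => 1)
    (fun j => by rw [hcon j, one_smul]; rfl) x a
  rw [act_one]
  simpa using h3

variable [Fintype F] (hF : Fintype.card F = q ^ 2) {X : Subgroup (SU n F q)}
include hF

theorem eq_top_odd (hG : ∀ g : SU n F q, IsMono g → g ∈ X) (h2 : (2 : F) ≠ 0) (hn : 8 ≤ n) (hq : 3 ≤ q)
    (hX : ∃ g ∈ X, ¬ IsMono g) : X = ⊤ := by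
  classical
  by_contra htop
  have hstar : ∀ y ∈ X, ∀ (k : Fin n) (c : F), act y (Pi.single k 1) = c • Pi.single k 1 → IsMono y := by
    intro y hy k c hk
    by_contra hny
    exact htop (eq_top_of_fix hF hG (by omega) hq hy hny hk)
  obtain ⟨g, hg, hgm⟩ := hX
  have i0 : Fin n := ⟨0, by omega⟩
  obtain ⟨p0, hp0⟩ : ∃ p : Fin n, p = ⟨0, by omega⟩ := ⟨_, rfl⟩
  obtain ⟨p1, hp1⟩ : ∃ p : Fin n, p = ⟨1, by omega⟩ := ⟨_, rfl⟩
  obtain ⟨p2, hp2⟩ : ∃ p : Fin n, p = ⟨2, by omega⟩ := ⟨_, rfl⟩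
  have h01 : p0 ≠ p1 := by rw [hp0, hp1]; simp [Fin.ext_iff]
  have h02 : p0 ≠ p2 := by rw [hp0, hp2]; simp [Fin.ext_iff]
  have h12 : p1 ≠ p2 := by rw [hp1, hp2]; simp [Fin.ext_iff]
  obtain ⟨b, hb⟩ := exists_B (F := F) hF h01
  obtain ⟨b', hb'⟩ := exists_B (F := F) hF h02
  obtain ⟨c₁, hc₁X, hcc₁, hcb₁, hcm₁, v₁, hv₁X, hvm₁, hv₁⟩ :=
    exists_conj hF hG hstar h2 (by omega) hq hg hgm h01 h01 hb hb
  obtain ⟨c₂, hc₂X, hcc₂, hcb₂, hcm₂, v₂, hv₂X, hvm₂, hv₂⟩ :=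
    exists_conj hF hG hstar h2 (by omega) hq hg hgm h01 h02 hb hb'
  have hci₁ : c₁⁻¹ = c₁ := inv_eq_of_mul_eq_one_left hcc₁
  have hci₂ : c₂⁻¹ = c₂ := inv_eq_of_mul_eq_one_left hcc₂
  obtain ⟨y, hy⟩ : ∃ y, y = c₁ * c₂ := ⟨_, rfl⟩
  obtain ⟨y', hy'⟩ : ∃ y', y' = g⁻¹ * y * g := ⟨_, rfl⟩
  have hym : IsMono y := by
    have h3 : y = (c₁ * g) * (c₂ * g)⁻¹ := by rw [hy, mul_inv_rev, hci₂]; group
    rw [h3]; exact IsMono.mul hcm₁ (IsMono.inv hcm₂)
  have hym' : IsMono y' := by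
    have h3 : y' = (c₁ * g)⁻¹ * (c₂ * g) := by rw [hy', hy, mul_inv_rev, hci₁]; group
    rw [h3]; exact IsMono.mul (IsMono.inv hcm₁) hcm₂
  have hy1 : y ≠ 1 := by
    intro h
    have h3 : c₁ = c₂ := by
      have : c₁ * c₂ = 1 := by rw [← hy, h]
      rw [← hci₂]; exact eq_inv_of_mul_eq_one_left this
    have h4 : g * b * g⁻¹ = g * b' * g⁻¹ := by rw [← hcb₁, ← hcb₂, h3]
    have h5 : b = b' := by simpa using h4
    have h6 := congrFun (congrArg (fun b => act b (Pi.single p1 1)) h5) p1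
    rw [hb, hb', if_pos (Or.inr rfl), if_neg (by
      push Not; exact ⟨h01.symm, h12⟩), Pi.single_eq_same] at h6
    apply h2
    linear_combination -h6
  have hyodd : Odd (orderOf y) := by
    have h3 : y = v₁⁻¹ * b * v₁ * (v₂⁻¹ * b * v₂) := by rw [hy, hv₁, hv₂]
    rw [h3]
    rw [h3] at hym hy1
    exact odd_prod hF hG hstar h2 (by omega) hq hv₁X hv₂X hvm₁ h01 hb hym hy1
  have hord : orderOf y' = orderOf y := by
    have h4 : y' = MulAut.conj g⁻¹ y := by
      rw [MulAut.conj_apply, inv_inv, hy']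
    rw [h4, MulEquiv.orderOf_eq]
  have hbfix : ∀ x : Fin n → F, x p0 = 0 → x p1 = 0 → act b x = x := by
    intro x h0 h1
    funext l
    rw [hb]
    split_ifs with h
    · rcases h with rfl | rfl
      · rw [h0, neg_zero]
      · rw [h1, neg_zero]
    · rfl
  have hmoved := card_moved_le_odd hym' (by rw [hord]; exact hyodd) (orderOf_pos _) (r := 4)
    ![lin (v₂ * g) p0, lin (v₂ * g) p1, lin (v₁ * g) p0, lin (v₁ * g) p1] (by
      intro x hx
      have e1 : act (v₂ * g) x p0 = 0 := hx 0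
      have e2 : act (v₂ * g) x p1 = 0 := hx 1
      have e3 : act (v₁ * g) x p0 = 0 := hx 2
      have e4 : act (v₁ * g) x p1 = 0 := hx 3
      have f2 := hbfix _ e1 e2
      have f1 := hbfix _ e3 e4
      rw [act_mul] at f1 f2
      have g2 : act c₂ (act g x) = act g x := by
        rw [hv₂, act_mul, act_mul, f2, act_inv_act]
      have g1 : act c₁ (act g x) = act g x := by
        rw [hv₁, act_mul, act_mul, f1, act_inv_act]
      rw [hy', act_mul, act_mul, hy, act_mul, g2, g1, act_inv_act])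
  obtain ⟨k, l, hkl, hk, hl⟩ := exists_two_not_moved (g := y') (by omega)
  obtain ⟨i, hi⟩ := exists_not_fixed hy1
  obtain ⟨m, γ, hm⟩ := hym i
  obtain ⟨m', hm', hmm'⟩ : ∃ m', i ≠ m' ∧ (m = i ∨ m = m') := by
    by_cases hmk : m = i
    · obtain ⟨m', hm'⟩ := EvenFrame.exists_notMem_of_card_lt (s := ({i} : Finset (Fin n))) (n := n)
        (by rw [Finset.card_singleton]; omega)
      exact ⟨m', fun h => hm' (by rw [h]; exact Finset.mem_singleton_self _), Or.inl hmk⟩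
    · exact ⟨m, fun h => hmk h.symm, Or.inr rfl⟩
  have hyg : ∀ x, act y' x = x → act y (act g x) = act g x := by
    intro x hx
    rw [hy', act_mul, act_mul] at hx
    have h3 := congrArg (act g) hx
    rwa [act_act_inv] at h3
  have hzero : ∀ k, act y' (Pi.single k 1) = Pi.single k 1 →
      act g⁻¹ (act y (Pi.single i 1) - Pi.single i 1) k = 0 := by
    intro k hk
    have h3 := hyg _ hk
    rw [← H927.herm_single_right hF (act g⁻¹ _) k, ← herm_act g, act_act_inv, herm_sub_left]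
    conv_lhs => arg 1; rw [← h3]
    rw [herm_act, sub_self]
  refine no_two_zeros hF hG hstar h2 (by omega) hq hg hgm hm' hkl (sub_ne_zero.2 hi) ?_ (hzero k hk)
    (hzero l hl)
  intro c hck hcm
  rw [hm, Pi.sub_apply, Pi.smul_apply, Pi.single_eq_of_ne hck, smul_eq_mul]
  rcases hmm' with h | h
  · rw [h, Pi.single_eq_of_ne hck]; ring
  · rw [h, Pi.single_eq_of_ne hcm]; ring

end Cfsg.Agent.H876.OddFrame
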