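import Cfsg.Agent.H876.MonoBasic

/-!
# Overgroups of the monomial group of `SU_n(q)`, `q` odd: a non-monomial element fixing a line
-/

set_option autoImplicit false

namespace Cfsg.Agent.H876.OddFrame

open Cfsg Cfsg.Agent.LieClassical.HermBasic Cfsg.Agent.LieClassical.HermSiegel Cfsg.Agent.H927
open Cfsg.Agent.H876.MonoBasic

section Dihedral

variable {G : Type*} [Group G] {b b' : G}

theorem dih_key (hb : b * b = 1) (hb' : b' * b' = 1) (i : ℕ) :
    b * (b * b') ^ i = ((b * b') ^ i)⁻¹ * b := by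
  induction i with
  | zero => simp
  | succ i ih =>
    have hbi : b⁻¹ = b := inv_eq_of_mul_eq_one_left hb
    have hbi' : b'⁻¹ = b' := inv_eq_of_mul_eq_one_left hb'
    rw [pow_succ, ← mul_assoc, ih, mul_inv_rev, mul_inv_rev, hbi, hbi']
    have h1 : b * (b * b') = b' := by rw [← mul_assoc, hb, one_mul]
    have h2 : ((b * b') ^ i)⁻¹ * b * (b * b') = ((b * b') ^ i)⁻¹ * b' := by
      rw [mul_assoc, h1]
    have h3 : (b' * b) * ((b * b') ^ i)⁻¹ = ((b * b') ^ i)⁻¹ * (b' * b) := by
      have h4 : b' * b = (b * b')⁻¹ := by rw [mul_inv_rev, hbi, hbi']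
      rw [h4]
      exact ((Commute.refl (b * b')).pow_right i).inv_inv.eq
    rw [h2, h3]
    rw [mul_assoc, mul_assoc, hb, mul_one]

theorem dih_conj (hb : b * b = 1) (hb' : b' * b' = 1) (m : ℕ) :
    ∃ i : ℕ, b * (b * b') ^ m = ((b * b') ^ i)⁻¹ * b * (b * b') ^ i ∨
      b * (b * b') ^ m = ((b * b') ^ i)⁻¹ * b' * (b * b') ^ i := by
  rcases Nat.even_or_odd' m with ⟨i, hi | hi⟩
  · refine ⟨i, Or.inl ?_⟩
    rw [← dih_key hb hb', hi, two_mul, pow_add, mul_assoc]
  · refine ⟨i, Or.inr ?_⟩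
    have h2 : ((b * b') ^ i)⁻¹ * b' = b * (b * b') ^ i * (b * b') := by
      calc ((b * b') ^ i)⁻¹ * b' = ((b * b') ^ i)⁻¹ * (b * (b * b')) := by
            rw [← mul_assoc b b b', hb, one_mul]
        _ = b * (b * b') ^ i * (b * b') := by rw [← mul_assoc, ← dih_key hb hb']
    rw [h2, hi, mul_assoc, mul_assoc, ← pow_succ', ← pow_add]
    congr 2
    ring

end Dihedral

variable {F : Type*} [Field F] {n q : ℕ}

/-- `b` changes the signs of the coordinates `i` and `j`. -/
def IsB (b : SU n F q) (i j : Fin n) : Prop :=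
  ∀ x l, act b x l = if l = i ∨ l = j then -x l else x l

/-- diagonal elements -/
def IsDiag (z : SU n F q) : Prop := ∃ ζ : Fin n → F, ∀ j, act z (Pi.single j 1) = ζ j • Pi.single j 1

theorem IsDiag.isMono {z : SU n F q} (h : IsDiag z) : IsMono z := by
  obtain ⟨ζ, hζ⟩ := h
  exact fun j => ⟨j, ζ j, hζ j⟩

theorem IsDiag.mul {z w : SU n F q} (h : IsDiag z) (h' : IsDiag w) : IsDiag (z * w) := by
  obtain ⟨ζ, hζ⟩ := h
  obtain ⟨η, hη⟩ := h'
  refine ⟨fun j => η j * ζ j, fun j => ?_⟩
  rw [act_mul, hη, act_smul, hζ, smul_smul]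

theorem IsB.single {b : SU n F q} {i j : Fin n} (h : IsB b i j) (k : Fin n) :
    act b (Pi.single k 1) = (if k = i ∨ k = j then (-1 : F) else 1) • Pi.single k 1 := by
  funext l
  rw [h, Pi.smul_apply, smul_eq_mul]
  by_cases hl : l = k
  · subst hl
    rw [Pi.single_eq_same]
    split_ifs <;> ring
  · rw [Pi.single_eq_of_ne hl]
    split_ifs <;> ring

theorem IsB.isDiag {b : SU n F q} {i j : Fin n} (h : IsB b i j) : IsDiag b :=
  ⟨_, h.single⟩

theorem IsB.mul_self {b : SU n F q} {i j : Fin n} (h : IsB b i j) : b * b = 1 := by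
  apply ext_act
  intro x
  funext l
  rw [act_mul, act_one, h, h]
  split_ifs <;> ring

theorem IsB.inv {b : SU n F q} {i j : Fin n} (h : IsB b i j) : b⁻¹ = b :=
  inv_eq_of_mul_eq_one_left h.mul_self

theorem IsB.unique {b b' : SU n F q} {i j : Fin n} (h : IsB b i j) (h' : IsB b' i j) : b = b' := by
  apply ext_act
  intro x
  funext l
  rw [h, h']

/-- a monomial conjugate of `b` is diagonal. -/
theorem isDiag_conj {b u : SU n F q} (hb : IsDiag b) (hu : IsMono u) : IsDiag (u⁻¹ * b * u) := by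
  obtain ⟨ζ, hζ⟩ := hb
  obtain ⟨σ, d, hd0, hd⟩ := IsMono.exists_perm hu
  refine ⟨fun j => ζ (σ j), fun j => ?_⟩
  rw [act_mul, act_mul, hd, act_smul, hζ, smul_comm, ← hd, act_smul, act_inv_act]

theorem IsB.conj_perm {b h : SU n F q} {i j : Fin n} (hb : IsB b i j) {σ : Equiv.Perm (Fin n)}
    {d : Fin n → F} (hd : ∀ j, act h (Pi.single j 1) = d j • Pi.single (σ j) 1) :
    IsB (h * b * h⁻¹) (σ i) (σ j) := by
  intro x l
  obtain ⟨m, rfl⟩ := σ.surjective l
  have h1 : x (σ m) = d m * act h⁻¹ x m := by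
    rw [← act_perm_apply hd, act_act_inv]
  rw [act_mul, act_mul, act_perm_apply hd, hb, h1]
  simp only [σ.injective.eq_iff]
  split_ifs <;> ring

section

variable [Fintype F] (hF : Fintype.card F = q ^ 2)
include hF

theorem act_inv_single (g : SU n F q) (i k : Fin n) :
    act g⁻¹ (Pi.single i 1) k = (act g (Pi.single k 1) i) ^ q := by
  rw [← H927.herm_single_right hF (act g⁻¹ (Pi.single i 1)) k, ← herm_act g, act_act_inv, H927.herm_single_left]

theorem exists_B {i j : Fin n} (hij : i ≠ j) : ∃ b : SU n F q, IsB b i j := by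
  obtain ⟨b, hb⟩ := exists_tor hF (herm_single_self hF i) (herm_single_self hF j) (herm_single_ne hF hij)
    (c := -1) (by rw [neg_pow_q hF, one_pow]; ring)
  refine ⟨b, fun x l => ?_⟩
  rw [hb, H927.herm_single_right hF, H927.herm_single_right hF, neg_pow_q hF, one_pow]
  simp only [Pi.add_apply, Pi.smul_apply, smul_eq_mul]
  by_cases hli : l = i
  · subst hli
    rw [Pi.single_eq_same, Pi.single_eq_of_ne hij, if_pos (Or.inl rfl)]; ring
  by_cases hlj : l = j
  · subst hlj
    rw [Pi.single_eq_same, Pi.single_eq_of_ne hli, if_pos (Or.inr rfl)]; ring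
  rw [Pi.single_eq_of_ne hli, Pi.single_eq_of_ne hlj, if_neg (by tauto)]; ring

variable {X : Subgroup (SU n F q)} (hG : ∀ g : SU n F q, IsMono g → g ∈ X)
  (hstar : ∀ y ∈ X, ∀ (k : Fin n) (c : F), act y (Pi.single k 1) = c • Pi.single k 1 → IsMono y)
include hG hstar

/-- two zeros in a row: the structure of the corresponding columns. -/
theorem cp (hq : 3 ≤ q) {g : SU n F q} (hg : g ∈ X) {k l j : Fin n} (hkl : k ≠ l)
    (hjk : act g (Pi.single k 1) j = 0) (hjl : act g (Pi.single l 1) j = 0) (i : Fin n) :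
    (act g (Pi.single k 1) i = 0 ∧ act g (Pi.single l 1) i = 0) ∨
      ∀ m, m ≠ k → m ≠ l → act g (Pi.single m 1) i = 0 := by
  classical
  obtain ⟨u, hu⟩ : ∃ u, u = act g (Pi.single k 1) := ⟨_, rfl⟩
  obtain ⟨w, hw⟩ : ∃ w, w = act g (Pi.single l 1) := ⟨_, rfl⟩
  rw [← hu] at hjk
  rw [← hw] at hjl
  rw [← hu, ← hw]
  have hT : TorIn X u w := by
    rw [hu, hw]; exact (torIn_single hF hG hkl).map hF hg
  have huu : hermForm n F q u u = 1 := by rw [hu, herm_act, herm_single_self hF]
  have hww : hermForm n F q w w = 1 := by rw [hw, herm_act, herm_single_self hF]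
  have huw : hermForm n F q u w = 0 := by rw [hu, hw, herm_act, herm_single_ne hF hkl]
  have hwu : hermForm n F q w u = 0 := herm_eq_zero_swap hF huw
  by_cases h0 : u i = 0 ∧ w i = 0
  · exact Or.inl h0
  right
  -- the main claim
  have hmain : (Pi.single i 1 : Fin n → F) = (u i) ^ q • u + (w i) ^ q • w := by
    by_contra hne
    obtain ⟨A, hA⟩ : ∃ A, A = u i * u i ^ q := ⟨_, rfl⟩
    obtain ⟨B, hB⟩ : ∃ B, B = w i * w i ^ q := ⟨_, rfl⟩
    have hP0 : (Polynomial.C A * Polynomial.X ^ 2 + Polynomial.C (1 - A - B) * Polynomial.X +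
        Polynomial.C B : Polynomial F) ≠ 0 := by
      intro hP
      have h1 := congrArg (fun p => Polynomial.coeff p 2) hP
      have h2 := congrArg (fun p => Polynomial.coeff p 0) hP
      simp [Polynomial.coeff_X, Polynomial.coeff_C, Polynomial.coeff_one] at h1 h2
      apply h0
      constructor
      · exact (norm_eq_zero hF).1 (hA ▸ h1)
      · exact (norm_eq_zero hF).1 (hB ▸ h2)
    obtain ⟨c, hc, hcP⟩ := exists_norm_one_not_root hF ((Polynomial.X - Polynomial.C 1) *
      (Polynomial.C A * Polynomial.X ^ 2 + Polynomial.C (1 - A - B) * Polynomial.X + Polynomial.C B))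
      (mul_ne_zero (Polynomial.X_sub_C_ne_zero 1) hP0) (by
        refine (Polynomial.natDegree_mul_le).trans ?_
        rw [Polynomial.natDegree_X_sub_C]
        have : (Polynomial.C A * Polynomial.X ^ 2 + Polynomial.C (1 - A - B) * Polynomial.X +
          Polynomial.C B : Polynomial F).natDegree ≤ 2 := by compute_degree
        omega)
    simp only [Polynomial.eval_mul, Polynomial.eval_sub, Polynomial.eval_add, Polynomial.eval_C,
      Polynomial.eval_X, Polynomial.eval_pow] at hcP
    have hc1 : c - 1 ≠ 0 := left_ne_zero_of_mul hcP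
    have hcP2 := right_ne_zero_of_mul hcP
    obtain ⟨y, hy, hact⟩ := hT c hc
    have hmono : IsMono y := by
      apply hstar y hy j 1
      rw [hact, H927.herm_single_left, H927.herm_single_left, hjk, hjl, zero_pow_q hF]
      simp
    obtain ⟨m, γ, hm⟩ := hmono i
    rw [hact, H927.herm_single_left, H927.herm_single_left] at hm
    by_cases hmi : m = i
    · subst hmi
      -- products with `u` and `w`
      have e1 := congrArg (fun v => hermForm n F q v u) hm
      have e2 := congrArg (fun v => hermForm n F q v w) hm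
      simp only [herm_add_left, herm_smul_left, H927.herm_single_left, huu, hww, huw, hwu] at e1 e2
      have hcq1 : c ^ q - 1 ≠ 0 := by
        intro h
        apply hc1
        have : c ^ q = 1 := by linear_combination h
        rw [this, mul_one] at hc
        rw [hc, sub_self]
      by_cases hu0 : u m = 0
      · have hw0 : w m ≠ 0 := fun h => h0 ⟨hu0, h⟩
        have hwq : w m ^ q ≠ 0 := pow_ne_zero _ hw0
        have hγ : γ = c ^ q := by
          have : (c ^ q - γ) * w m ^ q = 0 := by linear_combination e2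
          have := (mul_eq_zero.1 this).resolve_right hwq
          linear_combination -this
        apply hne
        have h3 : (c ^ q - 1) • (Pi.single m 1 - w m ^ q • w : Fin n → F) = 0 := by
          rw [hu0, zero_pow_q hF, mul_zero, zero_smul, add_zero, hγ] at hm
          funext l
          have h4 := congrFun hm l
          simp only [Pi.add_apply, Pi.smul_apply, Pi.sub_apply, smul_eq_mul, Pi.zero_apply] at h4 ⊢
          linear_combination -h4
        have h4 := (smul_eq_zero.1 h3).resolve_left hcq1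
        rw [hu0, zero_pow_q hF, zero_smul, zero_add]
        exact sub_eq_zero.1 h4
      · have huq : u m ^ q ≠ 0 := pow_ne_zero _ hu0
        have hγ : γ = c := by
          have : (c - γ) * u m ^ q = 0 := by linear_combination e1
          have := (mul_eq_zero.1 this).resolve_right huq
          linear_combination -this
        apply hne
        have h5 : (c ^ q - c) * w m ^ q = 0 := by
          rw [hγ] at e2; linear_combination e2
        have h3 : (c - 1) • (Pi.single m 1 - (u m ^ q • u + w m ^ q • w) : Fin n → F) = 0 := by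
          rw [hγ] at hm
          funext l
          have h4 := congrFun hm l
          simp only [Pi.add_apply, Pi.smul_apply, Pi.sub_apply, smul_eq_mul, Pi.zero_apply] at h4 ⊢
          linear_combination -h4 + w l * h5
        have h4 := (smul_eq_zero.1 h3).resolve_left hc1
        exact sub_eq_zero.1 h4
    · apply hcP2
      have h3 := congrFun hm i
      simp only [Pi.add_apply, Pi.smul_apply, smul_eq_mul, Pi.single_eq_same,
        Pi.single_eq_of_ne (Ne.symm hmi)] at h3
      rw [hA, hB]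
      linear_combination c * h3 - (w i * w i ^ q) * hc
  intro m hmk hml
  rw [← H927.herm_single_right hF (act g (Pi.single m 1)) i, hmain, herm_add_right hF, herm_smul_right,
    herm_smul_right, hu, hw, herm_act, herm_act, herm_single_ne hF hmk, herm_single_ne hF hml, mul_zero, mul_zero,
    add_zero]

/-- two zeros in a row: the element is monomial. -/
theorem mono_of_zeros (hn : 5 ≤ n) (hq : 3 ≤ q) {g : SU n F q} (hg : g ∈ X) {k l j : Fin n} (hkl : k ≠ l)
    (hjk : act g (Pi.single k 1) j = 0) (hjl : act g (Pi.single l 1) j = 0) : IsMono g := by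
  classical
  have hsmall : ∀ s : Finset (Fin n), s.card ≤ 4 → ∃ i, i ∉ s := fun s hs =>
    EvenFrame.exists_notMem_of_card_lt (by omega)
  have hcard3 : ∀ a b c : Fin n, ({a, b, c} : Finset (Fin n)).card ≤ 3 := fun a b c => Finset.card_le_three
  have hcard4 : ∀ a b c d : Fin n, ({a, b, c, d} : Finset (Fin n)).card ≤ 4 := fun a b c d =>
    Finset.card_le_four
  have hcol : ∀ a, ∃ i, act g (Pi.single a 1) i ≠ 0 := by
    intro a
    by_contra hcon
    push Not at hcon
    have h1 : act g (Pi.single a 1) = 0 := funext hcon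
    rw [act_eq_zero] at h1
    exact single_ne_zero a h1
  -- step 1
  have step1 : ∀ m m', m ≠ k → m ≠ l → m' ≠ k → m' ≠ l → m ≠ m' → ∀ i,
      (act g (Pi.single m 1) i = 0 ∧ act g (Pi.single m' 1) i = 0) ∨
        ∀ x, x ≠ m → x ≠ m' → act g (Pi.single x 1) i = 0 := by
    intro m m' hmk hml hmk' hml' hmm'
    obtain ⟨i, hi⟩ := hcol k
    have h1 := (cp hF hG hstar hq hg hkl hjk hjl i).resolve_left (fun h => hi h.1)
    exact cp hF hG hstar hq hg hmm' (h1 m hmk hml) (h1 m' hmk' hml')
  have step2 : ∀ x, x ≠ k → x ≠ l → (∀ i, (act g (Pi.single k 1) i = 0 ∧ act g (Pi.single x 1) i = 0) ∨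
        ∀ y, y ≠ k → y ≠ x → act g (Pi.single y 1) i = 0) ∧
      (∀ i, (act g (Pi.single l 1) i = 0 ∧ act g (Pi.single x 1) i = 0) ∨
        ∀ y, y ≠ l → y ≠ x → act g (Pi.single y 1) i = 0) := by
    intro x hxk hxl
    obtain ⟨m, hm⟩ := hsmall {k, l, x} ((hcard3 _ _ _).trans (by norm_num))
    obtain ⟨m', hm'⟩ := hsmall {k, l, x, m} (hcard4 _ _ _ _)
    simp only [Finset.mem_insert, Finset.mem_singleton, not_or] at hm hm'
    obtain ⟨i, hi⟩ := hcol m
    have h1 := (step1 m m' hm.1 hm.2.1 hm'.1 hm'.2.1 (Ne.symm hm'.2.2.2) i).resolve_left (fun h => hi h.1)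
    have hk := h1 k (Ne.symm hm.1) (Ne.symm hm'.1)
    have hl := h1 l (Ne.symm hm.2.1) (Ne.symm hm'.2.1)
    have hx := h1 x (Ne.symm hm.2.2) (Ne.symm hm'.2.2.1)
    exact ⟨cp hF hG hstar hq hg (Ne.symm hxk) hk hx, cp hF hG hstar hq hg (Ne.symm hxl) hl hx⟩
  have hR : ∀ a b, a ≠ b → ∀ i, (act g (Pi.single a 1) i = 0 ∧ act g (Pi.single b 1) i = 0) ∨
      ∀ y, y ≠ a → y ≠ b → act g (Pi.single y 1) i = 0 := by
    intro a b hab
    by_cases hak : a = k
    · subst hak
      by_cases hbl : b = l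
      · subst hbl; exact cp hF hG hstar hq hg hkl hjk hjl
      · exact (step2 b (Ne.symm hab) hbl).1
    by_cases hal : a = l
    · subst hal
      by_cases hbk : b = k
      · subst hbk; exact cp hF hG hstar hq hg hkl.symm hjl hjk
      · exact (step2 b hbk (Ne.symm hab)).2
    by_cases hbk : b = k
    · subst hbk
      intro i
      rcases (step2 a hak hal).1 i with h | h
      · exact Or.inl ⟨h.2, h.1⟩
      · exact Or.inr fun y hya hyb => h y hyb hya
    by_cases hbl : b = l
    · subst hbl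
      intro i
      rcases (step2 a hak hal).2 i with h | h
      · exact Or.inl ⟨h.2, h.1⟩
      · exact Or.inr fun y hya hyb => h y hyb hya
    exact step1 a b hak hal hbk hbl hab
  rw [← isMono_inv_iff]
  intro i
  obtain ⟨a, ha⟩ : ∃ a, act g (Pi.single a 1) i ≠ 0 := by
    by_contra hcon
    push Not at hcon
    have h1 : act g⁻¹ (Pi.single i 1) = 0 := by
      funext m
      rw [act_inv_single hF, hcon, zero_pow_q hF]
      rfl
    rw [act_eq_zero] at h1
    exact single_ne_zero i h1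
  obtain ⟨b, hb⟩ := hsmall {a} (by simp)
  obtain ⟨c, hc⟩ := hsmall {a, b} (Finset.card_le_two.trans (by norm_num))
  simp only [Finset.mem_insert, Finset.mem_singleton, not_or] at hb hc
  have h1 := (hR a b (Ne.symm hb) i).resolve_left (fun h => ha h.1)
  have h2 := (hR a c (Ne.symm hc.1) i).resolve_left (fun h => ha h.1)
  refine ⟨a, act g⁻¹ (Pi.single i 1) a, ?_⟩
  funext m
  rw [Pi.smul_apply, smul_eq_mul]
  by_cases hma : m = a
  · subst hma; rw [Pi.single_eq_same, mul_one]
  · rw [Pi.single_eq_of_ne hma, mul_zero, act_inv_single hF]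
    by_cases hmb : m = b
    · subst hmb
      rw [h2 m hma (Ne.symm hc.2), zero_pow_q hF]
    · rw [h1 m hma hmb, zero_pow_q hF]

/-- the linear form `x ↦ (g x) i`. -/
def lin (g : SU n F q) (i : Fin n) : (Fin n → F) →ₗ[F] F :=
  (LinearMap.proj i).comp (Matrix.toLin' (mat g))

omit [Fintype F] hF hG hstar in
theorem lin_apply (g : SU n F q) (i : Fin n) (x : Fin n → F) : lin g i x = act g x i := rfl

variable (h2 : (2 : F) ≠ 0)
include h2

/-- (U): the frame of `b` is unique. -/
theorem mono_of_conj (hn : 5 ≤ n) (hq : 3 ≤ q) {g b : SU n F q} (hg : g ∈ X) {i j : Fin n} (hij : i ≠ j)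
    (hb : IsB b i j) (hm : IsMono (g⁻¹ * b * g)) : IsMono g := by
  have h1 := card_moved_le hm (r := 2) ![lin g i, lin g j] (by
    intro x hx
    have hi : act g x i = 0 := hx 0
    have hj : act g x j = 0 := hx 1
    have h3 : act b (act g x) = act g x := by
      funext l
      rw [hb]
      split_ifs with h
      · rcases h with rfl | rfl
        · rw [hi, neg_zero]
        · rw [hj, neg_zero]
      · rfl
    rw [act_mul, act_mul, h3, act_inv_act])
  obtain ⟨k, hk⟩ := exists_not_moved (g := g⁻¹ * b * g) (by omega)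
  have h3 : act b (act g (Pi.single k 1)) = act g (Pi.single k 1) := by
    have h4 := congrArg (act g) hk
    rwa [act_mul, act_mul, act_act_inv] at h4
  have hz : ∀ l, l = i ∨ l = j → act g (Pi.single k 1) l = 0 := by
    intro l hl
    have h4 := congrFun h3 l
    rw [hb, if_pos hl] at h4
    have h5 : (2 : F) * act g (Pi.single k 1) l = 0 := by linear_combination -h4
    exact (mul_eq_zero.1 h5).resolve_left h2
  rw [← isMono_inv_iff]
  refine mono_of_zeros hF hG hstar hn hq (X.inv_mem hg) hij (j := k) ?_ ?_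
  · rw [act_inv_single hF, hz i (Or.inl rfl), zero_pow_q hF]
  · rw [act_inv_single hF, hz j (Or.inr rfl), zero_pow_q hF]

/-- (O): involutions with different frames generate a dihedral group of order `2 · odd`. -/
theorem odd_order (hn : 5 ≤ n) (hq : 3 ≤ q) {g b b0 : SU n F q} (hg : g ∈ X) (hgm : ¬ IsMono g)
    {i j k l : Fin n} (hij : i ≠ j) (hkl : k ≠ l) (hb : IsB b i j) (hb0 : IsB b0 k l) :
    Odd (orderOf (b * (g * b0 * g⁻¹))) := by
  classical
  obtain ⟨b', hb'⟩ : ∃ b', b' = g * b0 * g⁻¹ := ⟨_, rfl⟩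
  rw [← hb']
  have hbb := hb.mul_self
  have hbb' : b' * b' = 1 := by
    rw [hb']
    have h3 := hb0.mul_self
    calc g * b0 * g⁻¹ * (g * b0 * g⁻¹) = g * (b0 * b0) * g⁻¹ := by group
      _ = 1 := by rw [h3]; group
  have hbX : b ∈ X := hG b hb.isDiag.isMono
  have hb0X : b0 ∈ X := hG b0 hb0.isDiag.isMono
  have hb'X : b' ∈ X := by rw [hb']; exact X.mul_mem (X.mul_mem hg hb0X) (X.inv_mem hg)
  have hwX : b * b' ∈ X := X.mul_mem hbX hb'X
  by_contra hodd
  rw [Nat.not_odd_iff_even] at hodd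
  obtain ⟨m, hm⟩ := hodd
  have hpos : 0 < orderOf (b * b') := orderOf_pos _
  obtain ⟨z, hz⟩ : ∃ z, z = (b * b') ^ m := ⟨_, rfl⟩
  have hz1 : z ≠ 1 := by
    rw [hz]
    exact pow_ne_one_of_lt_orderOf (by omega) (by omega)
  have hzz : z * z = 1 := by
    rw [hz, ← pow_add, ← hm, pow_orderOf_eq_one]
  have hzi : z⁻¹ = z := inv_eq_of_mul_eq_one_left hzz
  have hzX : z ∈ X := by rw [hz]; exact X.pow_mem hwX m
  have hzb : b * z = z * b := by
    have h3 := dih_key hbb hbb' m
    rw [← hz, hzi] at h3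
    exact h3
  have hzw : (b * b') * z = z * (b * b') := by
    rw [hz]; exact ((Commute.refl (b * b')).pow_right m).eq
  have hzb' : b' * z = z * b' := by
    have h3 : b' = b * (b * b') := by rw [← mul_assoc, hbb, one_mul]
    calc b' * z = b * (b * b') * z := by rw [← h3]
      _ = b * (z * (b * b')) := by rw [mul_assoc, hzw]
      _ = z * b * (b * b') := by rw [← mul_assoc, hzb]
      _ = z * b' := by rw [mul_assoc, ← h3]
  -- `z` is monomial
  have hzm : IsMono z := by
    apply mono_of_conj hF hG hstar h2 hn hq hzX hij hb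
    have h3 : z⁻¹ * b * z = b := by rw [mul_assoc, hzb, ← mul_assoc, inv_mul_cancel, one_mul]
    rw [h3]; exact hb.isDiag.isMono
  obtain ⟨z', hz'⟩ : ∃ z', z' = g⁻¹ * z * g := ⟨_, rfl⟩
  have hz'X : z' ∈ X := by rw [hz']; exact X.mul_mem (X.mul_mem (X.inv_mem hg) hzX) hg
  have hz'm : IsMono z' := by
    apply mono_of_conj hF hG hstar h2 hn hq hz'X hkl hb0
    have h3 : z'⁻¹ * b0 * z' = b0 := by
      have h5 : z⁻¹ * b' * z = b' := by rw [mul_assoc, hzb', ← mul_assoc, inv_mul_cancel, one_mul]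
      have h6 : z'⁻¹ * b0 * z' = g⁻¹ * (z⁻¹ * (g * b0 * g⁻¹) * z) * g := by rw [hz']; group
      rw [h6, ← hb', h5, hb']; group
    rw [h3]; exact hb0.isDiag.isMono
  -- `z` is diagonal
  have hzd : IsDiag z := by
    have h4 : IsDiag (b * z) := by
      obtain ⟨t, ht⟩ := dih_conj hbb hbb' m
      rw [← hz] at ht
      have hwt : (b * b') ^ t ∈ X := X.pow_mem hwX t
      have hbzm : IsMono (b * z) := IsMono.mul hb.isDiag.isMono hzm
      rcases ht with ht | ht
      · rw [ht] at hbzm ⊢
        exact isDiag_conj hb.isDiag (mono_of_conj hF hG hstar h2 hn hq hwt hij hb hbzm)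
      · have h5 : ((b * b') ^ t)⁻¹ * b' * (b * b') ^ t =
            (g⁻¹ * (b * b') ^ t)⁻¹ * b0 * (g⁻¹ * (b * b') ^ t) := by
          generalize (b * b') ^ t = u
          rw [hb']; group
        rw [ht, h5] at hbzm
        rw [ht, h5]
        exact isDiag_conj hb0.isDiag (mono_of_conj hF hG hstar h2 hn hq (X.mul_mem (X.inv_mem hg) hwt)
          hkl hb0 hbzm)
    have h5 : z = b * (b * z) := by rw [← mul_assoc, hbb, one_mul]
    rw [h5]; exact hb.isDiag.mul h4
  -- `z'` is diagonal
  have hzd' : IsDiag z' := by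
    have h4 : IsDiag (b0 * z') := by
      have e0 : b0 * z' = g⁻¹ * (b' * z) * g := by rw [hz', hb']; group
      have e1 : b' * z = b * (b * b') ^ (m + 1) := by
        rw [hz, pow_succ', ← mul_assoc, ← mul_assoc, hbb, one_mul]
      obtain ⟨t, ht⟩ := dih_conj hbb hbb' (m + 1)
      rw [← e1] at ht
      have hwt : (b * b') ^ t ∈ X := X.pow_mem hwX t
      have hbzm : IsMono (b0 * z') := IsMono.mul hb0.isDiag.isMono hz'm
      rcases ht with ht | ht
      · have e2 : b0 * z' = ((b * b') ^ t * g)⁻¹ * b * ((b * b') ^ t * g) := by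
          rw [e0, ht]; group
        rw [e2] at hbzm ⊢
        exact isDiag_conj hb.isDiag (mono_of_conj hF hG hstar h2 hn hq (X.mul_mem hwt hg) hij hb hbzm)
      · have e2 : b0 * z' = (g⁻¹ * (b * b') ^ t * g)⁻¹ * b0 * (g⁻¹ * (b * b') ^ t * g) := by
          rw [e0, ht]
          generalize (b * b') ^ t = u
          rw [hb']; group
        rw [e2] at hbzm ⊢
        exact isDiag_conj hb0.isDiag (mono_of_conj hF hG hstar h2 hn hq
          (X.mul_mem (X.mul_mem (X.inv_mem hg) hwt) hg) hkl hb0 hbzm)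
    have hb00 := hb0.mul_self
    have h5 : z' = b0 * (b0 * z') := by rw [← mul_assoc, hb00, one_mul]
    rw [h5]; exact hb0.isDiag.mul h4
  obtain ⟨ζ, hζ⟩ := hzd
  obtain ⟨ζ', hζ'⟩ := hzd'
  have hzact : ∀ (x : Fin n → F) (a : Fin n), act z x a = ζ a * x a := fun x a =>
    act_perm_apply (σ := Equiv.refl _) hζ x a
  have hζ2 : ∀ a, ζ a = 1 ∨ ζ a = -1 := by
    intro a
    have h3 : act (z * z) (Pi.single a 1) = Pi.single a 1 := by rw [hzz, act_one]
    have h4 := congrFun h3 a
    rw [act_mul, hzact, hzact, Pi.single_eq_same] at h4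
    exact mul_self_eq_one_iff.1 (by linear_combination h4)
  have hz'act : ∀ (x : Fin n → F) (a : Fin n), act z' x a = ζ' a * x a := fun x a =>
    act_perm_apply (σ := Equiv.refl _) hζ' x a
  have hzz' : z' * z' = 1 := by
    have h3 : z' * z' = g⁻¹ * (z * z) * g := by rw [hz']; group
    rw [h3, hzz]; group
  have hζ2' : ∀ a, ζ' a = 1 ∨ ζ' a = -1 := by
    intro a
    have h3 : act (z' * z') (Pi.single a 1) = Pi.single a 1 := by rw [hzz', act_one]
    have h4 := congrFun h3 a
    rw [act_mul, hz'act, hz'act, Pi.single_eq_same] at h4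
    exact mul_self_eq_one_iff.1 (by linear_combination h4)
  -- both signs occur
  have hneg : ∃ a, ζ a = -1 := by
    by_contra hcon
    push Not at hcon
    apply hz1
    apply ext_act
    intro x
    funext a
    rw [hzact, act_one, (hζ2 a).resolve_right (hcon a), one_mul]
  have hpos' : ∃ a, ζ a = 1 := by
    obtain ⟨x, hx0, -, hx⟩ := exists_supported (r := 4) (Finset.univ : Finset (Fin n))
      (by rw [Finset.card_univ, Fintype.card_fin]; omega)
      ![lin (1 : SU n F q) i, lin (1 : SU n F q) j, lin g⁻¹ k, lin g⁻¹ l]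
    have x1 : x i = 0 := by have := hx 0; simpa [lin_apply, act_one] using this
    have x2 : x j = 0 := by have := hx 1; simpa [lin_apply, act_one] using this
    have x3 : act g⁻¹ x k = 0 := hx 2
    have x4 : act g⁻¹ x l = 0 := hx 3
    have hbx : act b x = x := by
      funext a
      rw [hb]
      split_ifs with h
      · rcases h with rfl | rfl
        · rw [x1, neg_zero]
        · rw [x2, neg_zero]
      · rfl
    have hb0x : act b0 (act g⁻¹ x) = act g⁻¹ x := by
      funext a
      rw [hb0]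
      split_ifs with h
      · rcases h with rfl | rfl
        · rw [x3, neg_zero]
        · rw [x4, neg_zero]
      · rfl
    have hb'x : act b' x = x := by
      rw [hb', act_mul, act_mul, hb0x, act_act_inv]
    have hwx : ∀ t : ℕ, act ((b * b') ^ t) x = x := by
      intro t
      induction t with
      | zero => rw [pow_zero, act_one]
      | succ t ih => rw [pow_succ, act_mul, act_mul, hb'x, hbx, ih]
    have hzx : act z x = x := by rw [hz]; exact hwx m
    obtain ⟨a, ha⟩ : ∃ a, x a ≠ 0 := by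
      by_contra hcon
      push Not at hcon
      exact hx0 (funext hcon)
    refine ⟨a, ?_⟩
    have h3 := congrFun hzx a
    rw [hzact] at h3
    have h4 : (ζ a - 1) * x a = 0 := by linear_combination h3
    have h5 := (mul_eq_zero.1 h4).resolve_right ha
    linear_combination h5
  have hzero : ∀ a c, ζ a ≠ ζ' c → act g (Pi.single c 1) a = 0 := by
    intro a c hac
    have h3 : act z (act g (Pi.single c 1)) = act g (act z' (Pi.single c 1)) := by
      rw [hz', act_mul, act_mul, act_act_inv]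
    have h4 := congrFun h3 a
    rw [hzact, hζ', act_smul, Pi.smul_apply, smul_eq_mul] at h4
    have h5 : (ζ a - ζ' c) * act g (Pi.single c 1) a = 0 := by linear_combination h4
    exact (mul_eq_zero.1 h5).resolve_left (sub_ne_zero.2 hac)
  have hm1 : (-1 : F) ≠ 1 := by
    intro h; apply h2; linear_combination -h
  obtain ⟨ap, hap⟩ := hpos'
  obtain ⟨an, han⟩ := hneg
  have h0 : ∃ c c' : Fin n, c ≠ c' ∧ ζ' c = ζ' c' := by
    have e01 : (⟨0, by omega⟩ : Fin n) ≠ ⟨1, by omega⟩ := by simp [Fin.ext_iff]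
    have e02 : (⟨0, by omega⟩ : Fin n) ≠ ⟨2, by omega⟩ := by simp [Fin.ext_iff]
    have e12 : (⟨1, by omega⟩ : Fin n) ≠ ⟨2, by omega⟩ := by simp [Fin.ext_iff]
    rcases hζ2' ⟨0, by omega⟩ with h | h <;> rcases hζ2' ⟨1, by omega⟩ with h' | h' <;>
      rcases hζ2' ⟨2, by omega⟩ with h'' | h''
    · exact ⟨_, _, e01, h.trans h'.symm⟩
    · exact ⟨_, _, e01, h.trans h'.symm⟩
    · exact ⟨_, _, e02, h.trans h''.symm⟩
    · exact ⟨_, _, e12, h'.trans h''.symm⟩
    · exact ⟨_, _, e12, h'.trans h''.symm⟩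
    · exact ⟨_, _, e02, h.trans h''.symm⟩
    · exact ⟨_, _, e01, h.trans h'.symm⟩
    · exact ⟨_, _, e01, h.trans h'.symm⟩
  obtain ⟨c, c', hcc', hs⟩ := h0
  apply hgm
  rcases hζ2' c with h | h
  · refine mono_of_zeros hF hG hstar hn hq hg hcc' (j := an) (hzero _ _ ?_) (hzero _ _ ?_)
    · rw [han, h]; exact hm1
    · rw [han, ← hs, h]; exact hm1
  · refine mono_of_zeros hF hG hstar hn hq hg hcc' (j := ap) (hzero _ _ ?_) (hzero _ _ ?_)
    · rw [hap, h]; exact hm1.symm
    · rw [hap, ← hs, h]; exact hm1.symm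

/-- (V): a vector supported on two coordinates whose inverse image has two zero coordinates. -/
theorem no_two_zeros (hn : 5 ≤ n) (hq : 3 ≤ q) {g : SU n F q} (hg : g ∈ X) (hgm : ¬ IsMono g)
    {i j k l : Fin n} (hij : i ≠ j) (hkl : k ≠ l) {u : Fin n → F} (hu : u ≠ 0)
    (hsupp : ∀ a, a ≠ i → a ≠ j → u a = 0) (hk : act g⁻¹ u k = 0) (hl : act g⁻¹ u l = 0) : False := by
  obtain ⟨b, hb⟩ := exists_B (F := F) hF hij
  obtain ⟨b0, hb0⟩ := exists_B (F := F) hF hkl
  have hodd := odd_order hF hG hstar h2 hn hq hg hgm hij hkl hb hb0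
  have h1 : act b u = -u := by
    funext a
    rw [hb, Pi.neg_apply]
    split_ifs with h
    · rfl
    · push Not at h
      rw [hsupp a h.1 h.2, neg_zero]
  have h3 : act b0 (act g⁻¹ u) = act g⁻¹ u := by
    funext a
    rw [hb0]
    split_ifs with h
    · rcases h with rfl | rfl
      · rw [hk, neg_zero]
      · rw [hl, neg_zero]
    · rfl
  have h4 : act (b * (g * b0 * g⁻¹)) u = -u := by
    rw [act_mul, act_mul, act_mul, h3, act_act_inv, h1]
  have hneg : ∀ h : SU n F q, act h (-u) = -act h u := by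
    intro h
    rw [show -u = (-1 : F) • u by simp, act_smul, neg_one_smul]
  have h5 : ∀ t : ℕ, act ((b * (g * b0 * g⁻¹)) ^ t) u = (-1 : F) ^ t • u := by
    intro t
    induction t with
    | zero => rw [pow_zero, pow_zero, act_one, one_smul]
    | succ t ih => rw [pow_succ, act_mul, h4, hneg, ih, pow_succ, mul_smul, neg_one_smul, smul_neg]
  have h6 := h5 (orderOf (b * (g * b0 * g⁻¹)))
  rw [pow_orderOf_eq_one, act_one, hodd.neg_one_pow, neg_one_smul] at h6
  apply hu
  have h7 : (2 : F) • u = 0 := by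
    rw [two_smul]
    conv_lhs => rw [h6]
    conv_lhs => arg 2; rw [h6, neg_neg]
    exact neg_add_cancel u
  exact (smul_eq_zero.1 h7).resolve_left h2

/-- (C): conjugating involution. -/
theorem exists_conj (hn : 5 ≤ n) (hq : 3 ≤ q) {g b b0 : SU n F q} (hg : g ∈ X) (hgm : ¬ IsMono g)
    {i j k l : Fin n} (hij : i ≠ j) (hkl : k ≠ l) (hb : IsB b i j) (hb0 : IsB b0 k l) :
    ∃ c ∈ X, c * c = 1 ∧ c * b * c = g * b0 * g⁻¹ ∧ IsMono (c * g) ∧
      ∃ v ∈ X, ¬ IsMono v ∧ c = v⁻¹ * b * v := by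
  classical
  obtain ⟨b', hb'⟩ : ∃ b', b' = g * b0 * g⁻¹ := ⟨_, rfl⟩
  have hodd := odd_order hF hG hstar h2 hn hq hg hgm hij hkl hb hb0
  rw [← hb'] at hodd ⊢
  have hbb := hb.mul_self
  have hbb' : b' * b' = 1 := by
    rw [hb']
    have h3 := hb0.mul_self
    calc g * b0 * g⁻¹ * (g * b0 * g⁻¹) = g * (b0 * b0) * g⁻¹ := by group
      _ = 1 := by rw [h3]; group
  have hbX : b ∈ X := hG b hb.isDiag.isMono
  have hb0X : b0 ∈ X := hG b0 hb0.isDiag.isMono
  have hb'X : b' ∈ X := by rw [hb']; exact X.mul_mem (X.mul_mem hg hb0X) (X.inv_mem hg)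
  have hwX : b * b' ∈ X := X.mul_mem hbX hb'X
  obtain ⟨m, hm⟩ := hodd
  have hpow := pow_orderOf_eq_one (b * b')
  -- `2 s = m + 1` modulo the order
  obtain ⟨s, hs⟩ : ∃ s, (b * b') ^ (2 * s) = (b * b') ^ (m + 1) := by
    rcases Nat.even_or_odd' (m + 1) with ⟨s, hs | hs⟩
    · exact ⟨s, by rw [hs]⟩
    · refine ⟨s + m + 1, ?_⟩
      have h3 : 2 * (s + m + 1) = (m + 1) + orderOf (b * b') := by rw [hm]; omega
      rw [h3, pow_add, hpow, mul_one]
  obtain ⟨v, hv⟩ : ∃ v, v = (b * b') ^ s := ⟨_, rfl⟩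
  have hvX : v ∈ X := by rw [hv]; exact X.pow_mem hwX s
  have hc0 : v⁻¹ * b * v = b * (b * b') ^ (m + 1) := by
    rw [← hs, hv, ← dih_key hbb hbb', two_mul, pow_add, mul_assoc]
  obtain ⟨c, hc⟩ : ∃ c, c = v⁻¹ * b * v := ⟨_, rfl⟩
  have hcc : c * c = 1 := by
    rw [hc]
    calc v⁻¹ * b * v * (v⁻¹ * b * v) = v⁻¹ * (b * b) * v := by group
      _ = 1 := by rw [hbb]; group
  have hcbc : c * b * c = b' := by
    rw [hc, hc0]
    have h3 : b * (b * b') ^ (m + 1) * b * (b * (b * b') ^ (m + 1)) =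
        b * ((b * b') ^ (m + 1) * (b * b) * (b * b') ^ (m + 1)) := by group
    have h4 : m + 1 + (m + 1) = orderOf (b * b') + 1 := by rw [hm]; omega
    rw [h3, hbb, mul_one, ← pow_add, h4, pow_add, hpow, pow_one, one_mul, ← mul_assoc, hbb, one_mul]
  have hvm : ¬ IsMono v := by
    intro hvm
    have hcm : IsMono c := by
      rw [hc]; exact IsMono.mul (IsMono.mul (IsMono.inv hvm) hb.isDiag.isMono) hvm
    have hb'm : IsMono b' := by
      rw [← hcbc]; exact IsMono.mul (IsMono.mul hcm hb.isDiag.isMono) hcm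
    apply hgm
    rw [← isMono_inv_iff]
    refine mono_of_conj hF hG hstar h2 hn hq (X.inv_mem hg) hkl hb0 ?_
    rw [inv_inv, ← hb']
    exact hb'm
  have hcX : c ∈ X := by
    rw [hc]; exact X.mul_mem (X.mul_mem (X.inv_mem hvX) hbX) hvX
  refine ⟨c, hcX, hcc, hcbc, ?_, v, hvX, hvm, hc⟩
  refine mono_of_conj hF hG hstar h2 hn hq (X.mul_mem hcX hg) hij hb ?_
  have hci : c⁻¹ = c := inv_eq_of_mul_eq_one_left hcc
  have h3 : (c * g)⁻¹ * b * (c * g) = g⁻¹ * (c * b * c) * g := by
    rw [mul_inv_rev, hci]; group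
  have h4 : (c * g)⁻¹ * b * (c * g) = b0 := by
    rw [h3, hcbc, hb']; group
  rw [h4]
  exact hb0.isDiag.isMono

/-- the product of two of the conjugating involutions has odd order, if it is monomial and not `1`. -/
theorem odd_prod (hn : 6 ≤ n) (hq : 3 ≤ q) {b v₁ v₂ : SU n F q} (hv₁ : v₁ ∈ X) (hv₂ : v₂ ∈ X)
    (hvm : ¬ IsMono v₁) {i j : Fin n} (hij : i ≠ j) (hb : IsB b i j)
    (hy : IsMono (v₁⁻¹ * b * v₁ * (v₂⁻¹ * b * v₂))) (hy1 : v₁⁻¹ * b * v₁ * (v₂⁻¹ * b * v₂) ≠ 1) :
    Odd (orderOf (v₁⁻¹ * b * v₁ * (v₂⁻¹ * b * v₂))) := by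
  classical
  obtain ⟨y, hyd⟩ : ∃ y, y = v₁⁻¹ * b * v₁ * (v₂⁻¹ * b * v₂) := ⟨_, rfl⟩
  rw [← hyd] at hy hy1 ⊢
  obtain ⟨h, hh⟩ : ∃ h, h = v₁ * v₂⁻¹ := ⟨_, rfl⟩
  have hhX : h ∈ X := by rw [hh]; exact X.mul_mem hv₁ (X.inv_mem hv₂)
  have hyh : y = v₁⁻¹ * (b * (h * b * h⁻¹)) * v₁ := by rw [hyd, hh]; group
  by_cases hhm : IsMono h
  · exfalso
    obtain ⟨σ, d, hd0, hd⟩ := IsMono.exists_perm hhm
    have hb' : IsB (h * b * h⁻¹) (σ i) (σ j) := hb.conj_perm hd
    have hy2 : ∃ k, act y (Pi.single k 1) ≠ Pi.single k 1 := by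
      by_contra hcon
      push Not at hcon
      apply hy1
      apply ext_act
      intro x
      funext a
      have h3 := act_perm_apply (g := y) (σ := Equiv.refl _) (d := fun _ => 1)
        (fun j => by rw [hcon j, one_smul]; rfl) x a
      rw [act_one]
      simpa using h3
    obtain ⟨k, hk⟩ := hy2
    obtain ⟨m, γ, hm⟩ := hy k
    obtain ⟨m', hm', hmm'⟩ : ∃ m', k ≠ m' ∧ (m = k ∨ m = m') := by
      by_cases hmk : m = k
      · obtain ⟨m', hm'⟩ := EvenFrame.exists_notMem_of_card_lt (s := ({k} : Finset (Fin n))) (n := n)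
          (by rw [Finset.card_singleton]; omega)
        exact ⟨m', fun h => hm' (by rw [h]; exact Finset.mem_singleton_self _), Or.inl hmk⟩
      · exact ⟨m, fun h => hmk h.symm, Or.inr rfl⟩
    -- two coordinates where the conjugate is trivial
    obtain ⟨a, ha⟩ := EvenFrame.exists_notMem_of_card_lt (s := ({i, j, σ i, σ j} : Finset (Fin n)))
      (n := n) (lt_of_le_of_lt Finset.card_le_four (by omega))
    obtain ⟨a', ha'⟩ := EvenFrame.exists_notMem_of_card_lt (s := insert a ({i, j, σ i, σ j} : Finset (Fin n)))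
      (n := n) (lt_of_le_of_lt ((Finset.card_insert_le _ _).trans
        (Nat.add_le_add_right Finset.card_le_four 1)) (by omega))
    have hone : ∀ a, a ∉ ({i, j, σ i, σ j} : Finset (Fin n)) → ∀ x : Fin n → F,
        act (b * (h * b * h⁻¹)) x a = x a := by
      intro a ha x
      simp only [Finset.mem_insert, Finset.mem_singleton, not_or] at ha
      rw [act_mul, hb, hb', if_neg (by tauto), if_neg (by tauto)]
    have hu : act v₁ (act y (Pi.single k 1) - Pi.single k 1) =
        act (b * (h * b * h⁻¹)) (act v₁ (Pi.single k 1)) - act v₁ (Pi.single k 1) := by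
      rw [act_sub, ← act_mul, ← act_mul, hyh]
      congr 2
      group
    have hzero : ∀ a, a ∉ ({i, j, σ i, σ j} : Finset (Fin n)) →
        act v₁ (act y (Pi.single k 1) - Pi.single k 1) a = 0 := by
      intro a ha
      rw [hu, Pi.sub_apply, hone a ha, sub_self]
    have ha'2 : a' ∉ ({i, j, σ i, σ j} : Finset (Fin n)) := fun h => ha' (Finset.mem_insert_of_mem h)
    have haa' : a ≠ a' := fun h => ha' (by rw [h]; exact Finset.mem_insert_self _ _)
    refine no_two_zeros hF hG hstar h2 (by omega) hq (X.inv_mem hv₁)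
      (fun h => hvm (isMono_inv_iff.1 h)) hm' haa' (sub_ne_zero.2 hk) ?_ ?_ ?_
    · intro c hck hcm
      rw [hm, Pi.sub_apply, Pi.smul_apply, Pi.single_eq_of_ne hck, smul_eq_mul]
      rcases hmm' with h | h
      · rw [h, Pi.single_eq_of_ne hck]; ring
      · rw [h, Pi.single_eq_of_ne hcm]; ring
    · rw [inv_inv]; exact hzero a ha
    · rw [inv_inv]; exact hzero a' ha'2
  · have h1 := odd_order hF hG hstar h2 (by omega) hq hhX hhm hij hij hb hb
    have h3 : orderOf y = orderOf (b * (h * b * h⁻¹)) := by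
      have h4 : y = MulAut.conj v₁⁻¹ (b * (h * b * h⁻¹)) := by
        rw [MulAut.conj_apply, inv_inv, hyh]
      rw [h4, MulEquiv.orderOf_eq]
    rw [h3]
    exact h1

end

end Cfsg.Agent.H876.OddFrame
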