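import Cfsg.Agent.H876.UBasic
import Cfsg.Agent.H876.Stab
import Cfsg.Agent.ClassicalGeometry.HermWitt
import Cfsg.Agent.ClassicalGeometry.GUBasic

/-!
# Geometry of the standard Hermitian form: Witt's lemma for one vector, correction of the determinant

* `exists_iso_split`: a non-isotropic vector of a non-degenerate subspace of dimension at least two is the sum of two isotropic vectors
* `exists_noniso_perp`: in dimension at least three, a non-isotropic vector orthogonal to a given one
* `witt_fix`: Witt's lemma: an isometry fixing `U` pointwise and taking `a` to `b`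
* `exists_su_adjust`: correcting the determinant of an isometry by a quasi-reflection
-/

set_option autoImplicit false
open Cfsg
open scoped Matrix MatrixGroups

namespace Cfsg.Agent.H876

open Cfsg.Agent.LieClassical.HermBasic Cfsg.Agent.ClassicalGeometry.UnitTransv
open Cfsg.Agent.ClassicalGeometry.HermOrtho

variable {F : Type*} [Field F] [Fintype F] {n q : ℕ}

/-- the form is non-degenerate on `W`. -/
def Nd (q : ℕ) (W : Submodule F (Fin n → F)) : Prop :=
  ∀ u ∈ W, (∀ v ∈ W, hermForm n F q u v = 0) → u = 0

omit [Fintype F] in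
theorem nd_of_geo {W : Submodule F (Fin n → F)} (h : Geo.IsNondegenerateOn (hermForm n F q) W) :
    Nd q W := by
  intro u hu hv
  by_contra h0
  obtain ⟨x, hx, hux⟩ := (h u hu h0).2
  exact hux (hv x hx)

/-- an isotropic vector `x + μ w` for `w` isotropic and not orthogonal to `x`. -/
theorem exists_iso_add (hF : Fintype.card F = q ^ 2) {x w : Fin n → F}
    (hw : hermForm n F q w w = 0) (hxw : hermForm n F q x w ≠ 0) {ν : F} (hν : ν ^ q = ν) :
    ∃ μ : F, hermForm n F q (x + μ • w) (x + μ • w) = ν := by
  obtain ⟨t, ht⟩ := exists_trace_eq hF (c := ν-hermForm n F q x x)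
    (by rw [sub_pow_q hF, herm_self_pow hF, hν])
  have hwx : hermForm n F q w x ≠ 0 := fun h => hxw (herm_eq_zero_swap hF h)
  refine ⟨t / hermForm n F q w x, ?_⟩
  have h1 : (t / hermForm n F q w x) * hermForm n F q w x = t := div_mul_cancel₀ _ hwx
  have h2 : (t / hermForm n F q w x) ^ q * hermForm n F q x w = t ^ q := by
    rw [herm_swap hF w x, ← mul_pow, h1]
  rw [herm_add_left, herm_add_right hF, herm_add_right hF, herm_smul_left, herm_smul_left, herm_smul_right,
    herm_smul_right, hw]
  linear_combination h1 + h2 + ht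

/-- A nonisotropic vector in a subspace that is not totally isotropic. -/
theorem exists_noniso (hF : Fintype.card F = q ^ 2) {X : Submodule F (Fin n → F)}
    {x y : Fin n → F} (hx : x ∈ X) (hy : y ∈ X) (hxy : hermForm n F q x y ≠ 0) :
    ∃ z ∈ X, hermForm n F q z z ≠ 0 := by
  by_contra hcon
  push Not at hcon
  exact hxy (herm_eq_zero_of_isotropic hF X hcon hx hy)

/-- In a non-degenerate subspace of dimension at least two, a non-isotropic vector orthogonal to a
non-isotropic one. -/
theorem exists_noniso_perp_two (hF : Fintype.card F = q ^ 2) {W : Submodule F (Fin n → F)}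
    (hW : Nd q W) (h2 : 2 ≤ Module.finrank F W) {z : Fin n → F} (hz : z ∈ W)
    (hzz : hermForm n F q z z ≠ 0) :
    ∃ z' ∈ W, hermForm n F q z' z = 0 ∧ hermForm n F q z' z' ≠ 0 := by
  obtain ⟨x, hx, hxz⟩ : ∃ x ∈ W, x ∉ Submodule.span F {z} := by
    by_contra hcon
    push Not at hcon
    have hle : W ≤ Submodule.span F {z} := hcon
    have h1 := Submodule.finrank_mono hle
    have h3 := finrank_span_singleton (K := F) (v := z) (by
      rintro rfl; exact hzz (herm_zero_left _))
    omega
  set x' := x - (hermForm n F q x z / hermForm n F q z z) • z with hx'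
  have hx'W : x' ∈ W := W.sub_mem hx (W.smul_mem _ hz)
  have hx'z : hermForm n F q x' z = 0 := by
    rw [hx', herm_sub_left, herm_smul_left, div_mul_cancel₀ _ hzz, sub_self]
  have hx'0 : x' ≠ 0 := by
    intro h0
    apply hxz
    rw [Submodule.mem_span_singleton]
    exact ⟨_, (sub_eq_zero.1 h0).symm⟩
  obtain ⟨y, hy, hxy⟩ : ∃ y ∈ W, hermForm n F q x' y ≠ 0 := by
    by_contra hcon
    push Not at hcon
    exact hx'0 (hW x' hx'W hcon)
  set y' := y - (hermForm n F q y z / hermForm n F q z z) • z with hy'
  have hy'z : hermForm n F q y' z = 0 := by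
    rw [hy', herm_sub_left, herm_smul_left, div_mul_cancel₀ _ hzz, sub_self]
  have hxy' : hermForm n F q x' y' ≠ 0 := by
    rw [hy', herm_sub_right hF, herm_smul_right, hx'z, mul_zero, sub_zero]
    exact hxy
  obtain ⟨z', hz', hzz'⟩ := exists_noniso hF (X := W ⊓ hermPerp q {z}) (x := x') (y := y')
    ⟨hx'W, mem_hermPerp.2 (by rintro v rfl; exact hx'z)⟩
    ⟨W.sub_mem hy (W.smul_mem _ hz), mem_hermPerp.2 (by rintro v rfl; exact hy'z)⟩ hxy'
  exact ⟨z', hz'.1, (mem_hermPerp.1 hz'.2) z rfl, hzz'⟩

omit [Fintype F] in
theorem finrank_span_le_one (y : Fin n → F) : Module.finrank F (Submodule.span F {y}) ≤ 1 := by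
  classical
  by_cases hy : y = 0
  · subst hy
    rw [Submodule.span_zero_singleton, finrank_bot]
    exact zero_le_one
  · rw [finrank_span_singleton hy]

/-- In a non-degenerate subspace of dimension at least three, a non-isotropic vector orthogonal to a
given vector. -/
theorem exists_noniso_perp (hF : Fintype.card F = q ^ 2) {W : Submodule F (Fin n → F)}
    (hW : Nd q W) (h3 : 3 ≤ Module.finrank F W) {u : Fin n → F} (hu : u ∈ W) :
    ∃ z ∈ W, hermForm n F q z u = 0 ∧ hermForm n F q z z ≠ 0 := by
  by_cases huu : hermForm n F q u u = 0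
  swap
  · exact exists_noniso_perp_two hF hW (by omega) hu huu
  by_cases hu0 : u = 0
  · subst hu0
    have hW0 : W ≠ ⊥ := by rintro rfl; rw [finrank_bot] at h3; omega
    obtain ⟨z, hz, hzz⟩ := exists_norm_one_vector hF W hW hW0
    exact ⟨z, hz, herm_zero_right hF _, by rw [hzz]; exact one_ne_zero⟩
  by_contra hcon
  push Not at hcon
  obtain ⟨y, hy, huy⟩ : ∃ y ∈ W, hermForm n F q u y ≠ 0 := by
    by_contra hcon
    push Not at hcon
    exact hu0 (hW u hu hcon)
  have hyu : hermForm n F q y u ≠ 0 := fun h => huy (herm_eq_zero_swap hF h)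
  set X := W ⊓ hermPerp q {u} with hX
  have hXm : ∀ x, x ∈ X ↔ x ∈ W ∧ hermForm n F q x u = 0 := by
    intro x
    rw [hX, Submodule.mem_inf, mem_hermPerp]
    simp
  have hXiso : ∀ x ∈ X, hermForm n F q x x = 0 := by
    intro x hx
    by_contra h
    exact h (by
      have := hcon x ((hXm x).1 hx).1 ((hXm x).1 hx).2
      exact this)
  -- every vector of `X` is a multiple of `u`
  have hXle : X ≤ Submodule.span F {u} := by
    intro x hx
    rw [Submodule.mem_span_singleton]
    refine ⟨(hermForm n F q y x / hermForm n F q y u) ^ q, ?_⟩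
    symm
    rw [← sub_eq_zero]
    refine hW _ (W.sub_mem ((hXm x).1 hx).1 (W.smul_mem _ hu)) fun v hv => ?_
    apply herm_eq_zero_swap hF
    set v' := v - (hermForm n F q v u / hermForm n F q y u) • y with hv'
    have hv'X : v' ∈ X := by
      rw [hXm]
      refine ⟨W.sub_mem hv (W.smul_mem _ hy), ?_⟩
      rw [hv', herm_sub_left, herm_smul_left, div_mul_cancel₀ _ hyu, sub_self]
    have h1 := herm_eq_zero_of_isotropic hF X hXiso hv'X hx
    rw [hv', herm_sub_left, herm_smul_left] at h1
    rw [herm_sub_right hF, herm_smul_right, pow_q_pow_q hF]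
    field_simp
    field_simp at h1
    linear_combination h1
  -- dimension count
  have h4 : Module.finrank F W ≤ Module.finrank F X + 1 := by
    have hle : W ≤ X ⊔ Submodule.span F {y} := by
      intro v hv
      rw [Submodule.mem_sup]
      refine ⟨v - (hermForm n F q v u / hermForm n F q y u) • y, ?_, 
        (hermForm n F q v u / hermForm n F q y u) • y, Submodule.smul_mem _ _ (Submodule.mem_span_singleton_self y), by abel⟩
      rw [hXm]
      refine ⟨W.sub_mem hv (W.smul_mem _ hy), ?_⟩
      rw [herm_sub_left, herm_smul_left, div_mul_cancel₀ _ hyu, sub_self]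
    calc Module.finrank F W ≤ Module.finrank F (X ⊔ Submodule.span F {y} : Submodule F (Fin n → F)) :=
          Submodule.finrank_mono hle
      _ ≤ Module.finrank F X + Module.finrank F (Submodule.span F {y}) :=
          Submodule.finrank_add_le_finrank_add_finrank _ _
      _ ≤ Module.finrank F X + 1 := by
          have := finrank_span_le_one y
          omega
  have h5 := Submodule.finrank_mono hXle
  have h6 := finrank_span_le_one u
  omega

end Cfsg.Agent.H876
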